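import Cfsg.Agent.Lib.OddChar.Iface
import Cfsg.Agent.Lib.TwoClosedZJ.Real
import Cfsg.Agent.Lib.Solvable.Basic
import Mathlib.GroupTheory.Transfer
import Mathlib.GroupTheory.Nilpotent

/-!
Solubility from class sizes modulo the odd order theorem (S4159, S4167).
-/

set_option autoImplicit false
set_option linter.style.haveILetI false
set_option linter.unusedSectionVars false

namespace Cfsg.Agent.OddDown

open Subgroup

universe u

variable {G : Type u} [Group G] [Finite G]

/-- Jordan: a proper subgroup and its conjugates do not cover. -/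
theorem exists_no_conj_mem {C : Subgroup G} (hC : C ≠ ⊤) : ∃ g : G, ∀ h : G, h⁻¹ * g * h ∉ C := by
  classical
  by_contra hall
  push Not at hall
  have hsurj : Function.Surjective (fun p : (G ⧸ C) × {c : C // c ≠ 1} =>
      (⟨p.1.out * ((p.2 : C) : G) * p.1.out⁻¹, fun h => p.2.2 (Subtype.ext
        (mul_eq_left.1 (mul_inv_eq_one.1 h)))⟩ : {g : G // g ≠ 1})) := by
    rintro ⟨g, hg⟩
    obtain ⟨h, hh⟩ := hall g
    obtain ⟨c, hc⟩ := QuotientGroup.mk_out_eq_mul C h
    refine ⟨(QuotientGroup.mk h, ⟨⟨(c : G)⁻¹ * (h⁻¹ * g * h) * c,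
      mul_mem (mul_mem (inv_mem c.2) hh) c.2⟩, fun e => hg ?_⟩), Subtype.ext ?_⟩
    · have e' : (c : G)⁻¹ * (h⁻¹ * g * h) * c = 1 := congrArg Subtype.val e
      calc g = h * (c * ((c : G)⁻¹ * (h⁻¹ * g * h) * c) * (c : G)⁻¹) * h⁻¹ := by group
        _ = 1 := by rw [e']; group
    · show _ * ((c : G)⁻¹ * (h⁻¹ * g * h) * c) * _ = g
      rw [hc]; group
  have h1 := Nat.card_le_card_of_surjective _ hsurj
  haveI := Fintype.ofFinite G
  haveI := Fintype.ofFinite C
  rw [Nat.card_prod, Nat.card_eq_fintype_card (α := {g : G // g ≠ 1}),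
    Nat.card_eq_fintype_card (α := {c : C // c ≠ 1}), Fintype.card_subtype_compl,
    Fintype.card_subtype_compl, Fintype.card_subtype_eq, Fintype.card_subtype_eq,
    ← Nat.card_eq_fintype_card, ← Nat.card_eq_fintype_card, ← Subgroup.index, Nat.mul_sub,
    mul_comm C.index (Nat.card C), C.card_mul_index, mul_one] at h1
  have h2 : 1 < C.index := one_lt_index_of_ne_top hC
  have h3 : C.index ≤ Nat.card G := Nat.le_of_dvd Nat.card_pos C.index_dvd_card
  omega

/-- In a group with a split class-size set no element of odd prime order is real. -/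
theorem coprime_classes_of_real {r : ℕ} (hr : r.Prime) (hr2 : r ≠ 2) {x g : G} (hx1 : x ≠ 1)
    {k : ℕ} (hk : x ^ r ^ k = 1) (hg : g * x * g⁻¹ = x⁻¹) :
    ∃ (H : Subgroup G) (a b : H), 1 < (centralizer ({a} : Set H)).index ∧
      1 < (centralizer ({b} : Set H)).index ∧
      ((centralizer ({a} : Set H)).index).Coprime (centralizer ({b} : Set H)).index := by
  obtain ⟨n, hn, -⟩ := TwoClosedZJ.exists_two_part g
  set y := g ^ n with hy
  have hyx : y * x * y⁻¹ = x⁻¹ := TwoClosedZJ.conj_odd_pow hg hn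
  have hne : x⁻¹ ≠ x := TwoClosedZJ.inv_ne_self (hr.odd_of_ne_two hr2) hx1 hk
  set H := zpowers x ⊔ zpowers y with hH
  have hxH : x ∈ H := mem_sup_left (mem_zpowers x)
  have hyH : y ∈ H := mem_sup_right (mem_zpowers y)
  have hnorm : H ≤ normalizer (zpowers x : Set G) := sup_le le_normalizer (zpowers_le.2 (by
    rw [mem_normalizer_iff_map_conj_eq, MonoidHom.map_zpowers]
    show zpowers (y * x * y⁻¹) = _
    rw [hyx, zpowers_inv]))
  have hact : ∀ h ∈ H, h * x * h⁻¹ = x ∨ h * x * h⁻¹ = x⁻¹ := by
    intro h hh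
    rw [hH, sup_eq_closure] at hh
    induction hh using closure_induction with
    | mem z hz =>
      rcases hz with hz | hz
      · obtain ⟨i, rfl⟩ := mem_zpowers_iff.1 hz
        left
        rw [((Commute.refl x).zpow_left i).eq, mul_inv_cancel_right]
      · obtain ⟨i, rfl⟩ := mem_zpowers_iff.1 hz
        clear hz
        induction i using Int.induction_on with
        | zero => left; simp
        | succ i ih =>
          have e : y ^ ((i : ℤ) + 1) * x * (y ^ ((i : ℤ) + 1))⁻¹ =
              y * (y ^ (i : ℤ) * x * (y ^ (i : ℤ))⁻¹) * y⁻¹ := by group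
          rw [e]
          rcases ih with e | e <;> rw [e]
          · exact Or.inr hyx
          · left; rw [← conj_inv, hyx, inv_inv]
        | pred i ih =>
          have e : y ^ (-(i : ℤ) - 1) * x * (y ^ (-(i : ℤ) - 1))⁻¹ =
              y⁻¹ * (y ^ (-(i : ℤ)) * x * (y ^ (-(i : ℤ)))⁻¹) * y := by group
          have e2 : y⁻¹ * x⁻¹ * y = x := by rw [← hyx]; group
          rw [e]
          rcases ih with e | e <;> rw [e]
          · right; rw [← inv_inj, inv_inv]; conv_rhs => rw [← e2]
            group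
          · exact Or.inl e2
    | one => left; simp
    | mul a b _ _ iha ihb =>
      rcases ihb with e | e
      · rcases iha with e' | e' <;> [left; right] <;>
          rw [show a * b * x * (a * b)⁻¹ = a * (b * x * b⁻¹) * a⁻¹ by group, e, e']
      · rcases iha with e' | e' <;> [right; left] <;>
          rw [show a * b * x * (a * b)⁻¹ = a * (b * x * b⁻¹) * a⁻¹ by group, e, ← conj_inv, e'] <;> simp
    | inv a _ ih =>
      rcases ih with e | e
      · left; conv_lhs => rw [← e]
        group
      · right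
        calc a⁻¹ * x * a⁻¹⁻¹ = a⁻¹ * (a * x * a⁻¹)⁻¹ * a⁻¹⁻¹ := by rw [e]; simp
          _ = x⁻¹ := by group
  have hmem : ∀ h : H, h ∈ centralizer ({(⟨x, hxH⟩ : H)} : Set H) ↔ (h : G) * x * (h : G)⁻¹ = x :=
    fun h => by
      rw [mem_centralizer_singleton_iff, Subtype.ext_iff, coe_mul, coe_mul, mul_inv_eq_iff_eq_mul]
  have hinv : ∀ a b : H, (a : G) * x * (a : G)⁻¹ = x⁻¹ → (b : G) * x * (b : G)⁻¹ = x⁻¹ →
      (a : G) * b * x * ((a : G) * b)⁻¹ = x := fun a b ha hb => by
    rw [show (a : G) * b * x * ((a : G) * b)⁻¹ = a * ((b : G) * x * (b : G)⁻¹) * (a : G)⁻¹ by group,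
      hb, ← conj_inv, ha, inv_inv]
  have hxi : (centralizer ({(⟨x, hxH⟩ : H)} : Set H)).index = 2 := by
    refine index_eq_two_iff.2 ⟨⟨y, hyH⟩, fun b => ?_⟩
    rw [hmem, hmem]
    have h1 : ((b * ⟨y, hyH⟩ : H) : G) * x * ((b * ⟨y, hyH⟩ : H) : G)⁻¹ =
        (b : G) * (y * x * y⁻¹) * (b : G)⁻¹ := by rw [coe_mul]; group
    rw [h1, hyx, ← conj_inv]
    rcases hact b b.2 with e | e <;> rw [e]
    · exact Or.inr ⟨rfl, hne⟩
    · exact Or.inl ⟨inv_inv x, hne⟩
  have hyC : ¬ (⟨x, hxH⟩ : H) ∈ centralizer ({(⟨y, hyH⟩ : H)} : Set H) := fun h => by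
    have h1 : x * y = y * x := congrArg Subtype.val (mem_centralizer_singleton_iff.1 h)
    refine hne ?_
    rw [← hyx, ← h1, mul_inv_cancel_right]
  refine ⟨H, ⟨x, hxH⟩, ⟨y, hyH⟩, by rw [hxi]; norm_num,
    one_lt_index_of_ne_top fun h => hyC (h ▸ mem_top _), ?_⟩
  rw [hxi]
  have hd : (centralizer ({(⟨y, hyH⟩ : H)} : Set H)).index ∣ orderOf x := by
    have h1 : ((zpowers y).subgroupOf H) ≤ centralizer ({(⟨y, hyH⟩ : H)} : Set H) := fun a ha => by
      obtain ⟨i, hi⟩ := mem_zpowers_iff.1 (mem_subgroupOf.1 ha)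
      refine mem_centralizer_singleton_iff.2 (Subtype.ext ?_)
      rw [coe_mul, coe_mul, ← hi]
      exact ((Commute.refl y).zpow_left i).eq
    refine (index_dvd_of_le h1).trans ?_
    have h2 := SolvBasic.card_sup_mul_card_inf (N := zpowers x) (H := zpowers y) (le_sup_right.trans hnorm)
    rw [Nat.card_zpowers x] at h2
    have h3 : Nat.card H = Nat.card (zpowers y) * ((zpowers y).subgroupOf H).index := by
      rw [← ((zpowers y).subgroupOf H).card_mul_index, Nat.card_congr (subgroupOfEquivOfLe le_sup_right).toEquiv]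
    refine ⟨Nat.card ((zpowers y ⊓ zpowers x : Subgroup G)), ?_⟩
    have h4 : Nat.card (zpowers y) * orderOf x = Nat.card (zpowers y) *
        (((zpowers y).subgroupOf H).index * Nat.card ((zpowers y ⊓ zpowers x : Subgroup G))) := by
      rw [← mul_assoc, ← h3, mul_comm, ← h2, inf_comm, hH]
    exact Nat.eq_of_mul_eq_mul_left Nat.card_pos h4
  obtain ⟨j, -, hj⟩ := (Nat.dvd_prime_pow hr).1 (hd.trans (orderOf_dvd_of_pow_eq_one hk))
  rw [hj]
  exact ((Nat.coprime_primes Nat.prime_two hr).2 (Ne.symm hr2)).pow_right j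

/-- S4159 modulo the odd order theorem. -/
theorem no_coprime_solvable (h : OddChar.OddSolvable.{u})
    (hG : ∀ (H : Subgroup G) (x y : H), 1 < (centralizer ({x} : Set H)).index →
      1 < (centralizer ({y} : Set H)).index →
      ¬ ((centralizer ({x} : Set H)).index).Coprime (centralizer ({y} : Set H)).index) :
    Group.IsSolvable G := by
  haveI : Fact (Nat.Prime 2) := ⟨Nat.prime_two⟩
  by_cases hn : ∃ P : Sylow 2 G, ¬ (P : Subgroup G).Normal
  · obtain ⟨r, hr, hr2, x, -, g, -, hx, ⟨k, hk⟩, hg⟩ := TwoClosedZJ.exists_realIn hn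
    obtain ⟨H, a, b, ha, hb, hab⟩ := coprime_classes_of_real hr hr2 hx hk hg
    exact absurd hab (hG H a b ha hb)
  push Not at hn
  obtain ⟨P⟩ : Nonempty (Sylow 2 G) := inferInstance
  haveI := hn P
  haveI := P.isPGroup'.isNilpotent
  haveI : Group.IsSolvable (G ⧸ (P : Subgroup G)) := h _ (by
    rw [← Nat.not_even_iff_odd, even_iff_two_dvd]
    exact P.not_dvd_index)
  exact (Group.isSolvable_iff_subgroup_quotient (P : Subgroup G)).2 ⟨inferInstance, inferInstance⟩

theorem index_cent_dvd_normal (N : Subgroup G) [N.Normal] (n : N) :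
    (centralizer ({n} : Set N)).index ∣ (centralizer ({(n : G)} : Set G)).index := by
  set C := centralizer ({(n : G)} : Set G)
  have he : centralizer ({n} : Set N) = C.subgroupOf N := by
    ext a
    rw [mem_subgroupOf, mem_centralizer_singleton_iff, mem_centralizer_singleton_iff, Subtype.ext_iff,
      coe_mul, coe_mul]
  rw [he]
  have h2 := SolvBasic.card_sup_mul_card_inf (N := N) (H := C) le_normalizer_of_normal
  rw [sup_comm, inf_comm] at h2
  have h1 : Nat.card (C.subgroupOf N) = Nat.card (C ⊓ N : Subgroup G) := by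
    rw [← inf_subgroupOf_right, Nat.card_congr (subgroupOfEquivOfLe inf_le_right).toEquiv]
  refine ⟨(C ⊔ N).index, ?_⟩
  have h3 := (C ⊔ N).card_mul_index
  have h4 := C.card_mul_index
  have h5 := (C.subgroupOf N).card_mul_index
  rw [h1] at h5
  have h6 : Nat.card (C ⊓ N : Subgroup G) * (Nat.card C * C.index) =
      Nat.card (C ⊓ N : Subgroup G) * (Nat.card C * ((C.subgroupOf N).index * (C ⊔ N).index)) := by
    rw [h4, ← h3]
    calc _ = Nat.card C * Nat.card N * (C ⊔ N).index := by rw [mul_comm (Nat.card C), ← h2]; ring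
      _ = _ := by rw [← h5]; ring
  exact Nat.eq_of_mul_eq_mul_left Nat.card_pos (Nat.eq_of_mul_eq_mul_left Nat.card_pos h6)

theorem index_cent_dvd_quot (N : Subgroup G) [N.Normal] (x : G) :
    (centralizer ({(x : G ⧸ N)} : Set (G ⧸ N))).index ∣ (centralizer ({x} : Set G)).index := by
  refine (index_dvd_of_le ?_).trans (index_map_dvd _ (QuotientGroup.mk'_surjective N))
  rintro _ ⟨a, ha, rfl⟩
  rw [mem_centralizer_singleton_iff, QuotientGroup.mk'_apply, ← QuotientGroup.mk_mul,
    ← QuotientGroup.mk_mul, mem_centralizer_singleton_iff.1 ha]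

/-- A simple group with commutative Sylow subgroup: nothing of it is central in the normalizer. -/
theorem eq_one_of_central [IsSimpleGroup G] (hG : ¬ ∀ a b : G, a * b = b * a) {p : ℕ} [Fact p.Prime]
    (P : Sylow p G) [IsMulCommutative (P : Subgroup G)] {z : G} (hz : z ∈ (P : Subgroup G))
    (hc : ∀ n ∈ normalizer ((P : Subgroup G) : Set G), n * z = z * n) : z = 1 := by
  open scoped IsMulCommutative in
  set f : G →* (P : Subgroup G) := MonoidHom.transfer (MonoidHom.id (P : Subgroup G)) with hf
  have key : ∀ (k : ℕ) (g₀ : G), g₀⁻¹ * z ^ k * g₀ ∈ (P : Subgroup G) → g₀⁻¹ * z ^ k * g₀ = z ^ k := by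
    intro k g₀ hk
    obtain ⟨n, hn, he⟩ := P.conj_eq_normalizer_conj_of_mem (z ^ k) g₀ (pow_mem hz k) hk
    rw [he, mul_assoc, ← (show Commute n (z ^ k) from (show Commute n z from hc n hn).pow_right k).eq,
      inv_mul_cancel_left]
  open scoped IsMulCommutative in
  have hfz := MonoidHom.transfer_eq_pow (MonoidHom.id (P : Subgroup G)) z key
  rcases f.normal_ker.eq_bot_or_eq_top with hk | hk
  · refine absurd (fun a b => (MonoidHom.ker_eq_bot_iff f).1 hk ?_) hG
    rw [map_mul, map_mul]
    exact IsMulCommutative.is_comm.comm _ _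
  · have h1 : f z = 1 := MonoidHom.mem_ker.1 (hk ▸ mem_top z)
    rw [hf, hfz, MonoidHom.id_apply] at h1
    have h2 : z ^ (P : Subgroup G).index = 1 := congrArg Subtype.val h1
    obtain ⟨j, hj⟩ := P.isPGroup' ⟨z, hz⟩
    have h3 : z ^ p ^ j = 1 := congrArg Subtype.val hj
    refine orderOf_eq_one_iff.1 (Nat.eq_one_of_dvd_coprimes ?_ (orderOf_dvd_of_pow_eq_one h2)
      (orderOf_dvd_of_pow_eq_one h3))
    exact (((Fact.out : p.Prime).coprime_iff_not_dvd.2 P.not_dvd_index).pow_left j).symm

/-- In a simple group where no class size is a multiple of four something is covered. -/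
theorem four_simple (h : OddChar.OddSolvable.{u}) [IsSimpleGroup G]
    (hG : ∀ x : G, ¬ 4 ∣ (centralizer ({x} : Set G)).index) : Group.IsSolvable G := by
  classical
  haveI : Fact (Nat.Prime 2) := ⟨Nat.prime_two⟩
  by_contra hns
  have hnc : ¬ ∀ a b : G, a * b = b * a := fun hc => hns (IsSimpleGroup.comm_iff_isSolvable.1 hc)
  obtain ⟨P⟩ : Nonempty (Sylow 2 G) := inferInstance
  -- every element centralizes a subgroup of index at most two of a Sylow subgroup
  have hT : ∀ g : G, ∃ (c : G) (T : Subgroup G), T ≤ (P : Subgroup G) ∧ T.relIndex (P : Subgroup G) ≤ 2 ∧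
      ∀ t ∈ T, (c⁻¹ * g * c) * t = t * (c⁻¹ * g * c) := by
    intro g
    set C := centralizer ({g} : Set G)
    obtain ⟨Q⟩ : Nonempty (Sylow 2 C) := inferInstance
    obtain ⟨P', hP'⟩ := (Q.isPGroup'.map C.subtype).exists_le_sylow
    obtain ⟨c, hc⟩ := MulAction.exists_smul_eq G P P'
    set T := ((Q : Subgroup C).map C.subtype).map (MulAut.conj c⁻¹).toMonoidHom with hTdef
    have hTP : T ≤ (P : Subgroup G) := by
      rintro _ ⟨t, ht, rfl⟩
      have h1 : t ∈ ((c • P : Sylow 2 G) : Subgroup G) := hc.symm ▸ hP' ht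
      rw [Sylow.coe_subgroup_smul, mem_pointwise_smul_iff_inv_smul_mem] at h1
      simpa [MulAut.smul_def] using h1
    refine ⟨c, T, hTP, ?_, ?_⟩
    · have h1 : Nat.card T * T.relIndex (P : Subgroup G) = Nat.card (P : Subgroup G) := by
        rw [relIndex, ← Nat.card_congr (subgroupOfEquivOfLe hTP).toEquiv, card_mul_index]
      have h2 : Nat.card T = 2 ^ (Nat.card C).factorization 2 := by
        rw [hTdef, card_map_of_injective (MulAut.conj c⁻¹).injective,
          card_map_of_injective C.subtype_injective, Q.card_eq_multiplicity]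
      rw [h2, P.card_eq_multiplicity, ← C.card_mul_index,
        Nat.factorization_mul Nat.card_pos.ne' C.index_ne_zero_of_finite, Finsupp.add_apply,
        pow_add] at h1
      rw [Nat.eq_of_mul_eq_mul_left (by positivity) h1]
      by_contra hgt
      refine hG g (dvd_trans ?_ (Nat.ordProj_dvd C.index 2))
      have : 2 ≤ C.index.factorization 2 := by
        by_contra hlt
        exact hgt ((Nat.pow_le_pow_right (by norm_num) (by omega : C.index.factorization 2 ≤ 1)).trans
          (le_of_eq (pow_one 2)))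
      exact pow_dvd_pow 2 this
    · rintro _ ⟨t, ⟨q, -, rfl⟩, rfl⟩
      have h1 : (q : G) * g = g * q := mem_centralizer_singleton_iff.1 q.2
      simp only [MulEquiv.coe_toMonoidHom, MulAut.conj_apply, inv_inv, Subgroup.coe_subtype]
      calc c⁻¹ * g * c * (c⁻¹ * q * c) = c⁻¹ * (g * q) * c := by group
        _ = c⁻¹ * (q * g) * c := by rw [h1]
        _ = _ := by group
  -- it is enough to find an element all whose classes meet every such subgroup
  suffices hz : ∃ z ∈ (P : Subgroup G), z ≠ 1 ∧ ∀ T : Subgroup G, T ≤ (P : Subgroup G) →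
      T.relIndex (P : Subgroup G) ≤ 2 → ∃ d : G, d * z * d⁻¹ ∈ T by
    obtain ⟨z, -, hz1, hzT⟩ := hz
    have hCz : centralizer ({z} : Set G) ≠ ⊤ := fun htop => by
      have hzc : z ∈ center G := mem_center_iff.2 fun g =>
        mem_centralizer_singleton_iff.1 (htop ▸ mem_top g)
      rcases (inferInstance : (center G).Normal).eq_bot_or_eq_top with e | e
      · exact hz1 (by rwa [e, mem_bot] at hzc)
      · exact hnc fun a b => mem_center_iff.1 (e ▸ mem_top b) a
    obtain ⟨g, hg⟩ := exists_no_conj_mem hCz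
    obtain ⟨c, T, hTP, hTi, hTc⟩ := hT g
    obtain ⟨d, hd⟩ := hzT T hTP hTi
    refine hg (c * d) (mem_centralizer_singleton_iff.2 ?_)
    have h1 := hTc _ hd
    calc (c * d)⁻¹ * g * (c * d) * z = d⁻¹ * (c⁻¹ * g * c * (d * z * d⁻¹)) * d := by group
      _ = d⁻¹ * (d * z * d⁻¹ * (c⁻¹ * g * c)) * d := by rw [h1]
      _ = z * ((c * d)⁻¹ * g * (c * d)) := by group
  have hsq : ∀ T : Subgroup G, T.relIndex (P : Subgroup G) ≤ 2 → ∀ w ∈ (P : Subgroup G), w * w ∈ T := by
    intro T hTi w hw
    have hne : T.relIndex (P : Subgroup G) ≠ 0 := index_ne_zero_of_finite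
    rcases (show T.relIndex (P : Subgroup G) = 1 ∨ T.relIndex (P : Subgroup G) = 2 by omega) with e | e
    · exact (relIndex_eq_one.1 e) (mul_mem hw hw)
    · exact mem_subgroupOf.1 (sq_mem_of_index_two e ⟨w, hw⟩ |> (pow_two (⟨w, hw⟩ : (P : Subgroup G)) ▸ ·))
  by_cases helem : ∀ w ∈ (P : Subgroup G), w * w = 1
  swap
  · push Not at helem
    obtain ⟨w, hw, hw1⟩ := helem
    exact ⟨w * w, mul_mem hw hw, hw1, fun T _ hTi => ⟨1, by simpa using hsq T hTi w hw⟩⟩
  haveI hab : IsMulCommutative (P : Subgroup G) := ⟨⟨fun a b => Subtype.ext (by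
    have ha := inv_eq_of_mul_eq_one_right (helem a a.2)
    have hb := inv_eq_of_mul_eq_one_right (helem b b.2)
    have hm := inv_eq_of_mul_eq_one_right (helem ((a : G) * b) (mul_mem a.2 b.2))
    rw [coe_mul, coe_mul, ← hm, mul_inv_rev, ha, hb])⟩⟩
  have h2 : 2 ∣ Nat.card G := by
    by_contra hc
    exact hns (h G (by rwa [← Nat.not_even_iff_odd, even_iff_two_dvd]))
  obtain ⟨z, hz⟩ := exists_prime_orderOf_dvd_card' (G := (P : Subgroup G)) 2
    (by rw [P.card_eq_multiplicity]; exact dvd_pow_self 2 (Nat.Prime.factorization_pos_of_dvd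
      Nat.prime_two Nat.card_pos.ne' h2).ne')
  have hz1 : (z : G) ≠ 1 := fun e => by
    rw [← orderOf_coe, e, orderOf_one] at hz
    omega
  refine ⟨z, z.2, hz1, fun T hTP hTi => ?_⟩
  by_contra hno
  push Not at hno
  -- the product over the orbit under the normalizer
  set N := normalizer ((P : Subgroup G) : Set G) with hN
  haveI := Fintype.ofFinite N
  have hNP : ∀ (n : N) (a : (P : Subgroup G)), (n : G) * a * (n : G)⁻¹ ∈ (P : Subgroup G) := fun n a =>
    (mem_normalizer_iff.1 n.2 a).1 a.2
  set conjP : ↥N → ↥(P : Subgroup G) → ↥(P : Subgroup G) := fun n a => ⟨_, hNP n a⟩ with hconjP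
  set O : Finset (P : Subgroup G) := Finset.univ.image fun n : N => conjP n z with hO
  open scoped IsMulCommutative in
  set s : (P : Subgroup G) := ∏ a ∈ O, a with hs
  have hsfix : ∀ n ∈ N, n * (s : G) = (s : G) * n := by
    intro n hn
    let e : (P : Subgroup G) →* (P : Subgroup G) :=
      { toFun := conjP ⟨n, hn⟩
        map_one' := Subtype.ext (by simp [hconjP])
        map_mul' := fun a b => Subtype.ext (by simp [hconjP, mul_assoc]) }
    have he : Function.Injective e := fun a b hab => Subtype.ext (by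
      have h1 : n * (a : G) * n⁻¹ = n * b * n⁻¹ := congrArg Subtype.val hab
      simpa using h1)
    open scoped IsMulCommutative in
    have h1 : e s = s := by
      have hmap : O.image e = O := by
        refine Finset.eq_of_subset_of_card_le (fun a ha => ?_)
          (by rw [Finset.card_image_of_injective _ he])
        obtain ⟨b, hb, rfl⟩ := Finset.mem_image.1 ha
        obtain ⟨m, -, rfl⟩ := Finset.mem_image.1 hb
        exact Finset.mem_image.2 ⟨⟨n, hn⟩ * m, Finset.mem_univ _, Subtype.ext (by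
          show n * (m : G) * z * (n * (m : G))⁻¹ = n * ((m : G) * z * (m : G)⁻¹) * n⁻¹
          group)⟩
      rw [hs, map_prod]
      conv_rhs => rw [← hmap]
      rw [Finset.prod_image fun a _ b _ hab => he hab]
    have h2 : n * (s : G) * n⁻¹ = s := congrArg Subtype.val h1
    exact mul_inv_eq_iff_eq_mul.1 h2
  have hs1 := eq_one_of_central hnc P s.2 hsfix
  -- the orbit has odd size
  have hodd : Odd O.card := by
    let A := (centralizer ({(z : G)} : Set G)).subgroupOf N
    have hcard : O.card = A.index := by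
      rw [index, ← Nat.card_eq_finsetCard]
      refine Nat.card_eq_of_bijective (fun a : {a // a ∈ O} =>
        (QuotientGroup.mk (Finset.mem_image.1 a.2).choose : N ⧸ A)) ⟨fun a b hab => ?_, fun q => ?_⟩
      · have ha := (Finset.mem_image.1 a.2).choose_spec.2
        have hb := (Finset.mem_image.1 b.2).choose_spec.2
        set m := (Finset.mem_image.1 a.2).choose
        set n := (Finset.mem_image.1 b.2).choose
        have h1 := mem_centralizer_singleton_iff.1 (mem_subgroupOf.1 (QuotientGroup.eq.1 hab))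
        refine Subtype.ext (ha.symm.trans ((Subtype.ext ?_).trans hb))
        show (m : G) * z * (m : G)⁻¹ = (n : G) * z * (n : G)⁻¹
        rw [coe_mul, coe_inv] at h1
        calc (m : G) * z * (m : G)⁻¹
            = (m : G) * (z * ((m : G)⁻¹ * n)) * (n : G)⁻¹ := by group
          _ = (m : G) * ((m : G)⁻¹ * n * z) * (n : G)⁻¹ := by rw [h1]
          _ = _ := by group
      · obtain ⟨n, rfl⟩ := QuotientGroup.mk_surjective q
        have hmem : conjP n z ∈ O := Finset.mem_image.2 ⟨n, Finset.mem_univ _, rfl⟩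
        refine ⟨⟨_, hmem⟩, ?_⟩
        have hm := (Finset.mem_image.1 hmem).choose_spec.2
        set m := (Finset.mem_image.1 hmem).choose
        refine QuotientGroup.eq.2 (mem_subgroupOf.2 (mem_centralizer_singleton_iff.2 ?_))
        have h1 : (m : G) * z * (m : G)⁻¹ = (n : G) * z * (n : G)⁻¹ := congrArg Subtype.val hm
        rw [coe_mul, coe_inv]
        calc (m : G)⁻¹ * n * z = (m : G)⁻¹ * ((n : G) * z * (n : G)⁻¹) * n := by group
          _ = z * ((m : G)⁻¹ * n) := by rw [← h1]; group
    rw [hcard, ← Nat.not_even_iff_odd, even_iff_two_dvd]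
    intro hd
    have hle : ((P : Subgroup G).subgroupOf N) ≤ A := fun a ha =>
      mem_subgroupOf.2 (mem_centralizer_singleton_iff.2
        (congrArg Subtype.val (hab.is_comm.comm (⟨a, mem_subgroupOf.1 ha⟩ : (P : Subgroup G)) z)))
    exact P.not_dvd_index ((hd.trans (index_dvd_of_le hle)).trans
      (relIndex_dvd_index_of_le le_normalizer))
  -- outside a subgroup of index two an odd product stays outside
  rcases Nat.lt_or_ge (T.relIndex (P : Subgroup G)) 2 with hlt | hge
  · have hne : T.relIndex (P : Subgroup G) ≠ 0 := index_ne_zero_of_finite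
    exact hno 1 (by simpa using (relIndex_eq_one.1 (by omega)) z.2)
  have hidx : T.relIndex (P : Subgroup G) = 2 := by omega
  have hprod : ∀ U : Finset (P : Subgroup G), (∀ a ∈ U, (a : G) ∉ T) →
      open scoped IsMulCommutative in ((((∏ a ∈ U, a : (P : Subgroup G))) : G) ∈ T ↔ Even U.card) := by
    intro U
    induction U using Finset.induction_on with
    | empty => simp
    | insert a U ha ih =>
      intro hU
      open scoped IsMulCommutative in
      rw [Finset.prod_insert ha, Finset.card_insert_of_notMem ha, Nat.even_add_one,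
        ← ih fun b hb => hU b (Finset.mem_insert_of_mem hb), ← mem_subgroupOf, ← mem_subgroupOf,
        mul_mem_iff_of_index_two hidx, iff_false_left fun hc => hU a (Finset.mem_insert_self a U) (mem_subgroupOf.1 hc)]
  have hout : ∀ a ∈ O, (a : G) ∉ T := fun a ha => by
    obtain ⟨n, -, rfl⟩ := Finset.mem_image.1 ha
    exact hno n
  exact Nat.not_even_iff_odd.2 hodd ((hprod O hout).1 (hs1 ▸ one_mem T))

/-- S4167 modulo the odd order theorem. -/
theorem four_solvable (h : OddChar.OddSolvable.{u}) {G : Type u} [Group G] [Finite G]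
    (hG : ∀ x : G, ¬ 4 ∣ (centralizer ({x} : Set G)).index) : Group.IsSolvable G := by
  induction hn : Nat.card G using Nat.strong_induction_on generalizing G with
  | _ n ih =>
  subst hn
  rcases subsingleton_or_nontrivial G with hs | hs
  · infer_instance
  by_cases hsimple : ∀ N : Subgroup G, N.Normal → N = ⊥ ∨ N = ⊤
  · haveI : IsSimpleGroup G := { eq_bot_or_eq_top_of_normal := hsimple }
    exact four_simple h hG
  push Not at hsimple
  obtain ⟨N, hN, hN1, hN2⟩ := hsimple
  haveI := hN
  refine (Group.isSolvable_iff_subgroup_quotient N).2 ⟨?_, ?_⟩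
  · refine ih _ ?_ (fun x hx => hG x (hx.trans (index_cent_dvd_normal N x))) rfl
    exact lt_of_le_of_ne (Nat.le_of_dvd Nat.card_pos N.card_subgroup_dvd_card)
      fun e => hN2 (eq_top_of_card_eq N e)
  · refine ih _ ?_ (fun x hx => ?_) rfl
    · rw [← N.card_mul_index]
      exact lt_mul_of_one_lt_left (Nat.pos_of_ne_zero index_ne_zero_of_finite) (N.one_lt_card_iff_ne_bot.2 hN1)
    · obtain ⟨y, rfl⟩ := QuotientGroup.mk_surjective x
      exact hG y (hx.trans (index_cent_dvd_quot N y))

end Cfsg.Agent.OddDown
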