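import Cfsg.Agent.Lib.OddChar.Iface
import Cfsg.Agent.Lib.BrauerSuzuki.Sylow

/-! A consequence of the odd order theorem: S0204. -/

set_option autoImplicit false
set_option linter.style.haveILetI false

namespace Cfsg.Agent.OddDown

universe u

theorem exists_klein_of_simple (h : OddChar.OddSolvable.{u}) {G : Type u} [Group G] [Finite G]
    [IsSimpleGroup G] (hG : ¬ IsCyclic G) : ∃ E : Subgroup G, IsKleinFour E := by
  haveI : Fact (Nat.Prime 2) := ⟨Nat.prime_two⟩
  by_contra hno
  push Not at hno
  have hcyc : (∀ a b : G, a * b = b * a) → False := fun hc => hG (by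
    letI : CommGroup G := { (inferInstance : Group G) with mul_comm := hc }
    exact inferInstance)
  rcases Nat.even_or_odd (Nat.card G) with heven | hodd
  · obtain ⟨z, hz⟩ := exists_prime_orderOf_dvd_card' (G := G) 2 heven.two_dvd
    have hin := BrauerSuzuki.inZStar G (BrauerSuzuki.rankOne_of_no_klein hno) z hz
    haveI hn := FittingCores.pPrimeCore_normal (G := G) 2
    rcases hn.eq_bot_or_eq_top with e | e
    · rcases (inferInstance : (Subgroup.center G).Normal).eq_bot_or_eq_top with c | c
      · have hzc : z ∈ Subgroup.center G := Subgroup.mem_center_iff.2 fun g => by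
          have h1 := hin g
          rw [e, Subgroup.mem_bot, mul_inv_eq_one, mul_inv_eq_iff_eq_mul] at h1
          exact h1
        rw [c, Subgroup.mem_bot] at hzc
        rw [hzc, orderOf_one] at hz
        omega
      · exact hcyc fun a b => Subgroup.mem_center_iff.1 (c ▸ Subgroup.mem_top b) a
    · have h1 := FittingCores.pPrimeCore_coprime (G := G) 2
      rw [e, Subgroup.card_top] at h1
      exact Nat.prime_two.coprime_iff_not_dvd.1 h1.symm heven.two_dvd
  · exact hcyc (IsSimpleGroup.comm_iff_isSolvable.2 (h G hodd))

end Cfsg.Agent.OddDown
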