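import Cfsg.Agent.Lib.OddChar.Iface
import Cfsg.Agent.Lib.Signalizer.SFT.Equivariant
import Cfsg.Agent.Lib.Techniques.PConstrained
import Cfsg.Agent.S0502

/-!
In a group whose 2-local subgroups are 2-constrained and whose Sylow 2-subgroups have a normal
elementary abelian subgroup of order at least eight, the cores of the centralizers of the elements
of a Sylow 2-subgroup generate one subgroup of odd order (modulo the odd order theorem): S3110.
-/

set_option autoImplicit false
set_option linter.style.haveILetI false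

namespace Cfsg.Agent.OddDown.CoreSub

open Subgroup
open Cfsg.Agent.Signalizer.SFT

universe u

variable {G : Type u} [Group G] [Finite G]

/-- In a `p`-constrained group, a `p'`-subgroup of the centralizer of a `p`-subgroup normalised by
that centralizer lies in the `p'`-core. -/
theorem le_pPrimeCore {p : ℕ} [Fact p.Prime] {X : Type*} [Group X] [Finite X]
    (h : Cfsg.IsPConstrained p X) {U K : Subgroup X} (hU : IsPGroup p U)
    (hK : K ≤ centralizer (U : Set X))
    (hn : centralizer (U : Set X) ≤ normalizer (K : Set X)) (hcop : (Nat.card K).Coprime p) :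
    K ≤ Cfsg.pPrimeCore p X := by
  set f := QuotientGroup.mk' (Cfsg.pPrimeCore p X) with hf
  have hker : (Nat.card f.ker).Coprime p := by
    rw [hf, QuotientGroup.ker_mk']; exact PBasic.pPrimeCore_coprime p X
  set C := centralizer ((U.map f : Subgroup (X ⧸ Cfsg.pPrimeCore p X)) : Set (X ⧸ Cfsg.pPrimeCore p X))
  have hC : (centralizer (U : Set X)).map f = C :=
    PConstr.map_centralizer_eq f (QuotientGroup.mk'_surjective _) hker hU
  have hKC : K.map f ≤ C := hC ▸ map_mono hK
  have hCn : C ≤ normalizer ((K.map f : Subgroup (X ⧸ Cfsg.pPrimeCore p X)) : Set (X ⧸ Cfsg.pPrimeCore p X)) :=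
    hC ▸ (map_mono hn).trans (le_normalizer_map f)
  have hcharP : CharP.IsCharP p ↥C := by
    have h1 := CharP.isCharP_inf_centralizer (K := (⊤ : Subgroup (X ⧸ Cfsg.pPrimeCore p X)))
      (CharP.isCharP_top.2 (PConstr.isPConstrained_iff.1 h)) (hU.map f) (by
        rw [normalizer_eq_top]; exact le_top)
    rwa [top_inf_eq] at h1
  haveI : ((K.map f).subgroupOf C).Normal := (normal_subgroupOf_iff_le_normalizer hKC).2 hCn
  have hle : (K.map f).subgroupOf C ≤ Cfsg.pPrimeCore p ↥C := by
    refine FittingCores.le_pPrimeCore inferInstance ?_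
    rw [Nat.card_congr (subgroupOfEquivOfLe hKC).toEquiv]
    exact hcop.coprime_dvd_left (K.card_map_dvd f)
  rw [PConstr.pPrimeCore_eq_bot_of_isCharP hcharP, le_bot_iff, subgroupOf_eq_bot,
    disjoint_iff, inf_eq_left.2 hKC] at hle
  intro x hx
  have h1 : f x ∈ K.map f := mem_map_of_mem f hx
  rw [hle, mem_bot] at h1
  exact (QuotientGroup.eq_one_iff x).1 h1

variable (h2c : ∀ T : Subgroup G, IsPGroup 2 T → T ≠ ⊥ →
  Cfsg.IsPConstrained 2 ↥(normalizer (T : Set G)))
include h2c

theorem constrained_centralizer {z : G} (hz : orderOf z = 2) :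
    Cfsg.IsPConstrained 2 ↥(centralizer ({z} : Set G)) := by
  haveI : Fact (Nat.Prime 2) := ⟨Nat.prime_two⟩
  have hne : zpowers z ≠ ⊥ := fun e => by
    rw [zpowers_eq_bot] at e
    rw [e, orderOf_one] at hz
    omega
  have hp : IsPGroup 2 (zpowers z) := IsPGroup.of_card (n := 1) (by rw [Nat.card_zpowers, hz]; rfl)
  have hU : IsPGroup 2 ((zpowers z).subgroupOf (normalizer ((zpowers z : Subgroup G) : Set G))) :=
    hp.comap_subtype
  have hle : centralizer ({z} : Set G) ≤ normalizer ((zpowers z : Subgroup G) : Set G) := by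
    rw [← centralizer_closure, ← zpowers_eq_closure]
    exact centralizer_le_normalizer _
  refine PConstr.isPConstrained_congr ?_ (PConstr.isPConstrained_centralizer (h2c _ hp hne) hU)
  refine (MulEquiv.subgroupCongr ?_).trans (subgroupOfEquivOfLe hle)
  ext x
  rw [mem_subgroupOf, mem_centralizer_iff, mem_centralizer_singleton_iff]
  constructor
  · intro h
    exact (congrArg Subtype.val (h ⟨z, le_normalizer (mem_zpowers z)⟩ (mem_zpowers z))).symm
  · intro h w hw
    obtain ⟨i, hi⟩ := mem_zpowers_iff.1 (mem_subgroupOf.1 hw)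
    refine Subtype.ext ?_
    rw [coe_mul, coe_mul, ← hi]
    exact ((show Commute z (x : G) from h.symm).zpow_left i).eq

/-- The core of the centralizer of a 2-element lies in that of its involution. -/
theorem core_le_core {b : G} (hb : ∃ k, orderOf b = 2 ^ k) {z : G} (hz : orderOf z = 2)
    (hzb : z ∈ zpowers b) :
    Cfsg.centralizerPPrimeCore 2 b ≤ Cfsg.centralizerPPrimeCore 2 z := by
  haveI : Fact (Nat.Prime 2) := ⟨Nat.prime_two⟩
  obtain ⟨k, hk⟩ := hb
  obtain ⟨h1, h2, h3⟩ := Components.centralizerPPrimeCore_props (p := 2) b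
  set X := centralizer ({z} : Set G)
  have hbX : centralizer ((zpowers b : Subgroup G) : Set G) ≤ X :=
    centralizer_le (fun y hy => by rw [show y = z from hy]; exact hzb)
  have hbz : zpowers b ≤ X := zpowers_le.2 (mem_centralizer_singleton_iff.2 (by
    obtain ⟨i, hi⟩ := mem_zpowers_iff.1 hzb
    rw [← hi]; exact ((Commute.refl b).zpow_right i).eq))
  have hU : IsPGroup 2 ((zpowers b).subgroupOf X) :=
    (IsPGroup.of_card (n := k) (by rw [Nat.card_zpowers, hk])).comap_subtype
  have hcen : centralizer (((zpowers b).subgroupOf X : Subgroup ↥X) : Set ↥X) =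
      (centralizer ((zpowers b : Subgroup G) : Set G)).subgroupOf X := by
    ext x
    rw [mem_subgroupOf, mem_centralizer_iff, mem_centralizer_iff]
    exact ⟨fun h w hw => congrArg Subtype.val (h ⟨w, hbz hw⟩ hw),
      fun h w hw => Subtype.ext (h (w : G) hw)⟩
  have hle := le_pPrimeCore (constrained_centralizer h2c hz) hU
    (K := (Cfsg.centralizerPPrimeCore 2 b).subgroupOf X)
    (by rw [hcen]; exact fun x hx => h1 hx)
    (by rw [hcen]; exact fun x hx => le_normalizer_comap X.subtype (h2 hx))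
    (by rw [Nat.card_congr (subgroupOfEquivOfLe (h1.trans hbX)).toEquiv]; exact h3)
  intro x hx
  exact ⟨⟨x, hbX (h1 hx)⟩, hle hx, rfl⟩

theorem equivariant (hodd : OddChar.OddSolvable.{u}) :
    Equivariant 2 fun a : G => Cfsg.centralizerPPrimeCore 2 a := by
  haveI : Fact (Nat.Prime 2) := ⟨Nat.prime_two⟩
  refine equivariant_cores fun a ha => ⟨Components.isPConstrained_iff_pLayer.1
    (constrained_centralizer h2c ha.1), hodd _ ?_⟩
  rw [← Nat.coprime_two_right]
  exact (Components.centralizerPPrimeCore_props (p := 2) a).2.2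

/-- S3110, given the odd order theorem and one normal elementary abelian subgroup of order eight. -/
theorem exists_core_subgroup (hodd : OddChar.OddSolvable.{u}) (T : Sylow 2 G)
    (E₀ : Subgroup ↥(T : Subgroup G)) [E₀.Normal] (hE : Cfsg.IsElementaryAbelian 2 E₀)
    (hE8 : 8 ≤ Nat.card E₀) :
    ∃ W : Subgroup G, Odd (Nat.card ↥W) ∧
      ∀ B : Subgroup G, B ≤ (T : Subgroup G) → ¬ Cfsg.PRankLE 2 1 ↥B →
        W = (⨆ b : {b : G // b ∈ B ∧ b ≠ 1}, Cfsg.centralizerPPrimeCore 2 (b : G)) ∧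
        normalizer (B : Set G) ≤ normalizer (W : Set G) := by
  haveI : Fact (Nat.Prime 2) := ⟨Nat.prime_two⟩
  set θ : G → Subgroup G := fun a => Cfsg.centralizerPPrimeCore 2 a with hθ
  have Θ : Equivariant 2 θ := equivariant h2c hodd
  set E : Subgroup G := E₀.map (T : Subgroup G).subtype with hEdef
  have hET : E ≤ (T : Subgroup G) := map_subtype_le _
  have hEe : Cfsg.IsElementaryAbelian 2 E := by
    refine ⟨.of_setLike_mul_comm ?_, ?_⟩
    · rintro _ ⟨x, hx, rfl⟩ _ ⟨y, hy, rfl⟩
      rw [← map_mul, ← map_mul, ElemAb.comm hE hx hy]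
    · rintro _ ⟨x, hx, rfl⟩
      rw [← map_pow, hE.2 x hx, map_one]
  have hEc : 8 ≤ Nat.card E := by rwa [hEdef, card_map_of_injective (T : Subgroup G).subtype_injective]
  have hE3 : 2 ^ 3 ≤ Nat.card E := hEc
  refine ⟨thetaClosure θ E, ?_, fun B hBT hB => ?_⟩
  · rw [← Nat.coprime_two_right]
    exact (Nat.prime_two.coprime_iff_not_dvd.2
      (iSup_props hEe hE3 (Θ.functor hEe hE3)).1.2.1).symm
  -- four-groups of `T` all give the same closure
  have hfour : ∀ U : Subgroup G, U ≤ (T : Subgroup G) → Cfsg.IsElementaryAbelian 2 U →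
      Nat.card U = 4 → thetaClosure θ U = thetaClosure θ E := by
    intro U hUT hU hU4
    have hvE : ∀ X : Subgroup G, X ≤ E → Nat.card X = 4 → Cfsg.IsRankGraphVertex 2 2 X := by
      intro X hXE hX
      refine ⟨ElemAb.of_le hEe hXE, hX.ge, fun h => ?_⟩
      have hle : E ≤ centralizer (X : Set G) := fun e he =>
        mem_centralizer_iff.2 fun x hx => ElemAb.comm hEe (hXE hx) he
      have h1 := h (E.subgroupOf _)
        (.of_setLike_mul_comm fun x hx y hy => Subtype.ext (ElemAb.comm hEe hx hy))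
        fun x hx => Subtype.ext (by simpa using hEe.2 (x : G) hx)
      rw [Nat.card_congr (subgroupOfEquivOfLe hle).toEquiv] at h1
      omega
    obtain ⟨V, -, hVE, hV⟩ := ElemAb.exists_le_card hEe (bot_le (a := E)) 2 (by simp) (by omega)
    have hV' : Cfsg.IsRankGraphVertex 2 2 V := hvE V hVE (by rw [hV]; rfl)
    have hfc := S0502.result T.isPGroup' E₀ hE.1 hE.2 hE8
    have hk : ∀ X : Subgroup G, X ≤ (T : Subgroup G) → Cfsg.IsElementaryAbelian 2 X → Nat.card X = 4 →
        IsKleinFour ↥(X.subgroupOf (T : Subgroup G)) := fun X hX hXe hX4 =>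
      ElemAb.isKleinFour_iff.2 ⟨⟨.of_setLike_mul_comm fun x hx y hy => Subtype.ext (ElemAb.comm hXe hx hy),
        fun x hx => Subtype.ext (by simpa using hXe.2 (x : G) hx)⟩,
        by rw [Nat.card_congr (subgroupOfEquivOfLe hX).toEquiv, hX4]⟩
    have hpath := hfc (V.subgroupOf _) (U.subgroupOf _) (hk V (hVE.trans hET) hV'.1 (by rw [hV]; rfl))
      (hk U hUT hU hU4)
    have main : ∀ Y : Subgroup ↥(T : Subgroup G),
        Relation.ReflTransGen (fun A B : Subgroup ↥(T : Subgroup G) => IsKleinFour ↥A ∧ IsKleinFour ↥B ∧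
          ∀ a ∈ A, ∀ b ∈ B, a * b = b * a) (V.subgroupOf (T : Subgroup G)) Y →
        Cfsg.IsRankGraphVertex 2 2 (Y.map (T : Subgroup G).subtype) ∧
          thetaClosure θ (Y.map (T : Subgroup G).subtype) = thetaClosure θ V := by
      intro Y hY
      induction hY with
      | refl => rw [map_subgroupOf_eq_of_le (hVE.trans hET)]; exact ⟨hV', rfl⟩
      | @tail X Y _ hstep ih =>
        by_cases hXY : X = Y
        · exact hXY ▸ ih
        obtain ⟨hXk, hYk, hc⟩ := hstep
        set X' := X.map (T : Subgroup G).subtype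
        set Y' := Y.map (T : Subgroup G).subtype
        have hmap : ∀ Z : Subgroup ↥(T : Subgroup G), IsKleinFour ↥Z →
            Cfsg.IsElementaryAbelian 2 (Z.map (T : Subgroup G).subtype) ∧
              Nat.card (Z.map (T : Subgroup G).subtype) = 4 := fun Z hZ => by
          obtain ⟨hZe, hZc⟩ := ElemAb.isKleinFour_iff.1 hZ
          refine ⟨⟨.of_setLike_mul_comm ?_, ?_⟩, by rw [card_map_of_injective (T : Subgroup G).subtype_injective, hZc]⟩
          · rintro _ ⟨x, hx, rfl⟩ _ ⟨y, hy, rfl⟩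
            rw [← map_mul, ← map_mul, ElemAb.comm hZe hx hy]
          · rintro _ ⟨x, hx, rfl⟩
            rw [← map_pow, hZe.2 x hx, map_one]
        obtain ⟨hX'e, hX'c⟩ := hmap X hXk
        obtain ⟨hY'e, hY'c⟩ := hmap Y hYk
        have hcomm : ∀ a ∈ X', ∀ b ∈ Y', a * b = b * a := by
          rintro _ ⟨a, ha, rfl⟩ _ ⟨b, hb, rfl⟩
          rw [← map_mul, ← map_mul, hc a ha b hb]
        have hS := Signalizer.SFT.ea_sup hX'e hY'e hcomm
        have hlt : 4 < Nat.card ↥(X' ⊔ Y') := by
          by_contra hle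
          push Not at hle
          refine hXY (map_injective (T : Subgroup G).subtype_injective ?_)
          exact (eq_of_le_of_card_ge (le_sup_left : X' ≤ X' ⊔ Y') (hle.trans hX'c.ge)).trans
            (eq_of_le_of_card_ge (le_sup_right : Y' ≤ X' ⊔ Y') (hle.trans hY'c.ge)).symm
        have hY' : Cfsg.IsRankGraphVertex 2 2 Y' := by
          refine ⟨hY'e, hY'c.ge, fun h => ?_⟩
          have hle : X' ⊔ Y' ≤ centralizer (Y' : Set G) := fun e he =>
            mem_centralizer_iff.2 fun x hx => ElemAb.comm hS (mem_sup_right hx) he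
          have h1 := h ((X' ⊔ Y').subgroupOf _)
            (.of_setLike_mul_comm fun x hx y hy => Subtype.ext (ElemAb.comm hS hx hy))
            fun x hx => Subtype.ext (by simpa using hS.2 (x : G) hx)
          rw [Nat.card_congr (subgroupOfEquivOfLe hle).toEquiv] at h1
          omega
        exact ⟨hY', (Θ.closure_eq_of_adj ih.1 hY' hcomm).symm.trans ih.2⟩
    have h := (main _ hpath).2
    rw [map_subgroupOf_eq_of_le hUT] at h
    exact h.trans (Θ.closure_eq (by rw [hV]) hVE hEe hE3).symm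
  -- every involution of `T` lies in a four-group of `T`
  have hinv : ∀ z ∈ (T : Subgroup G), orderOf z = 2 →
      θ z ≤ thetaClosure θ E := by
    intro z hzT hz
    have hz2 : z ^ 2 = 1 := hz ▸ pow_orderOf_eq_one z
    have hz1 : z ≠ 1 := fun e => by rw [e, orderOf_one] at hz; omega
    have hzn : z ∈ normalizer (E : Set G) := by
      have h1 : (T : Subgroup G) ≤ normalizer (E : Set G) := by
        have := le_normalizer_map (H := E₀) (T : Subgroup G).subtype
        rw [normalizer_eq_top, ← MonoidHom.range_eq_map, range_subtype] at this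
        exact this
      exact h1 hzT
    have hsq := ElemAb.card_le_sq_fixed hEe (v := z) hzn (by rw [← sq, hz2]; exact one_mem _)
    obtain ⟨hzz, hzz2⟩ := ElemAb.zpowers_inv hz2 hz1
    obtain ⟨e, heK, hez⟩ := ElemAb.exists_mem_not_mem_of_card_lt (V := zpowers z)
      (E := E ⊓ centralizer ({z} : Set G)) (by
        rw [hzz2]
        by_contra hle
        push Not at hle
        nlinarith)
    have hcz : ∀ x ∈ zpowers z, x * e = e * x := fun x hx => by
      obtain ⟨i, rfl⟩ := mem_zpowers_iff.1 hx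
      exact ((show Commute z e from (mem_centralizer_singleton_iff.1 heK.2).symm).zpow_left i).eq
    obtain ⟨hU, hU4⟩ := ElemAb.adjoin hzz (hEe.2 e heK.1) hcz hez
    rw [hzz2] at hU4
    rw [← hfour _ (sup_le (zpowers_le.2 hzT) (zpowers_le.2 (hET heK.1))) hU hU4]
    exact le_iSup (fun a : {a : G // a ∈ zpowers z ⊔ zpowers e ∧ a ≠ 1} => θ a.1)
      ⟨z, mem_sup_left (mem_zpowers z), hz1⟩
  have heq : thetaClosure θ E =
      ⨆ b : {b : G // b ∈ B ∧ b ≠ 1}, Cfsg.centralizerPPrimeCore 2 (b : G) := by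
    refine le_antisymm ?_ (iSup_le fun ⟨b, hb, hb1⟩ => ?_)
    · simp only [Cfsg.PRankLE, not_forall, not_le] at hB
      obtain ⟨U₀, hU₀c, hU₀p, hU₀⟩ := hB
      have hU₀e : Cfsg.IsElementaryAbelian 2 (U₀.map B.subtype) := by
        haveI := hU₀c
        refine ⟨.of_setLike_mul_comm ?_, ?_⟩
        · rintro _ ⟨x, hx, rfl⟩ _ ⟨y, hy, rfl⟩
          rw [← map_mul, ← map_mul, setLike_mul_comm (s := U₀) hx hy]
        · rintro _ ⟨x, hx, rfl⟩
          rw [← map_pow, hU₀p x hx, map_one]
      have hc : 2 < Nat.card (U₀.map B.subtype) := by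
        rw [card_map_of_injective B.subtype_injective]; simpa using hU₀
      obtain ⟨n, hn⟩ := ElemAb.card_eq_pow hU₀e
      have h4 : 2 ^ 2 ≤ Nat.card (U₀.map B.subtype) := by
        rw [hn] at hc ⊢
        refine Nat.pow_le_pow_right (by norm_num) ?_
        by_contra hlt
        push Not at hlt
        interval_cases n <;> omega
      obtain ⟨U, -, hU, hU4⟩ := ElemAb.exists_le_card hU₀e (bot_le (a := U₀.map B.subtype)) 2 (by simp) h4
      rw [← hfour U ((hU.trans (map_subtype_le _)).trans hBT) (ElemAb.of_le hU₀e hU) hU4]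
      exact iSup_le fun ⟨a, ha, ha1⟩ =>
        le_iSup (fun b : {b : G // b ∈ B ∧ b ≠ 1} => Cfsg.centralizerPPrimeCore 2 (b : G))
          ⟨a, map_subtype_le _ (hU ha), ha1⟩
    · obtain ⟨k, hk⟩ := IsPGroup.iff_orderOf.1 T.isPGroup' ⟨b, hBT hb⟩
      rw [orderOf_mk] at hk
      have hk0 : k ≠ 0 := fun e => hb1 (orderOf_eq_one_iff.1 (by rw [hk, e, pow_zero]))
      set z := b ^ 2 ^ (k - 1) with hzdef
      have hz : orderOf z = 2 := by
        refine orderOf_eq_prime ?_ fun e => ?_
        · rw [hzdef, ← pow_mul, ← pow_succ, Nat.sub_add_cancel (by omega), ← hk, pow_orderOf_eq_one]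
        · have h1 := orderOf_dvd_of_pow_eq_one e
          rw [hk] at h1
          have := (Nat.pow_dvd_pow_iff_le_right (by norm_num)).1 h1
          omega
      exact (core_le_core h2c ⟨k, hk⟩ hz (npow_mem_zpowers b _)).trans
        (hinv z (pow_mem (hBT hb) _) hz)
  refine ⟨heq, fun g hg => ?_⟩
  rw [heq]
  refine mem_normalizer_fintype ?_
  suffices h : (⨆ b : {b : G // b ∈ B ∧ b ≠ 1}, Cfsg.centralizerPPrimeCore 2 (b : G)) ≤
      (⨆ b : {b : G // b ∈ B ∧ b ≠ 1}, Cfsg.centralizerPPrimeCore 2 (b : G)).comap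
        (MulAut.conj g).toMonoidHom from fun m hm => h hm
  refine iSup_le fun ⟨b, hb, hb1⟩ => ?_
  rw [← map_le_iff_le_comap, Components.centralizerPPrimeCore_map_equiv (p := 2) (MulAut.conj g) b]
  exact le_iSup (fun c : {c : G // c ∈ B ∧ c ≠ 1} => Cfsg.centralizerPPrimeCore 2 (c : G))
    ⟨g * b * g⁻¹, (mem_normalizer_iff.1 hg b).1 hb, fun e => hb1 (conj_eq_one_iff.1 e)⟩

/-- The statement of S3110 modulo the odd order theorem. -/
theorem exists_core_subgroup_of_scn (hodd : OddChar.OddSolvable.{u})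
    (S : Sylow 2 G) (A : Subgroup ↥(S : Subgroup G)) (hAn : A.Normal) (hAab : IsMulCommutative ↥A)
    (hA3 : ¬ Cfsg.PRankLE 2 2 ↥A) (S' : Sylow 2 G) :
    ∃ W : Subgroup G, Odd (Nat.card ↥W) ∧
      ∀ B : Subgroup G, B ≤ (S' : Subgroup G) → ¬ Cfsg.PRankLE 2 1 ↥B →
        W = (⨆ b : {b : G // b ∈ B ∧ b ≠ 1}, Cfsg.centralizerPPrimeCore 2 (b : G)) ∧
        normalizer (B : Set G) ≤ normalizer (W : Set G) := by
  haveI : Fact (Nat.Prime 2) := ⟨Nat.prime_two⟩
  haveI := hAab
  let E₁ : Subgroup ↥(S : Subgroup G) :=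
    { carrier := {x | x ∈ A ∧ x ^ 2 = 1}
      mul_mem' := fun {a b} ha hb => ⟨mul_mem ha.1 hb.1, by
        rw [(show Commute a b from setLike_mul_comm (s := A) ha.1 hb.1).mul_pow, ha.2, hb.2, one_mul]⟩
      one_mem' := ⟨one_mem A, one_pow _⟩
      inv_mem' := fun {a} ha => ⟨inv_mem ha.1, by rw [inv_pow, ha.2, inv_one]⟩ }
  have hE1 : Cfsg.IsElementaryAbelian 2 E₁ :=
    ⟨.of_setLike_mul_comm fun a ha b hb => setLike_mul_comm (s := A) ha.1 hb.1, fun a ha => ha.2⟩
  haveI : E₁.Normal := ⟨fun x hx g => ⟨hAn.conj_mem x hx.1 g, by rw [conj_pow, hx.2, mul_one, mul_inv_cancel]⟩⟩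
  have hE8 : 8 ≤ Nat.card E₁ := by
    simp only [Cfsg.PRankLE, not_forall, not_le] at hA3
    obtain ⟨B, hBc, hBp, hB⟩ := hA3
    obtain ⟨n, hn⟩ := ElemAb.card_eq_pow (E := B) ⟨hBc, hBp⟩
    have h3 : 3 ≤ n := (Nat.pow_lt_pow_iff_right (by norm_num)).1 (hn ▸ hB)
    have hle : B.map A.subtype ≤ E₁ := by
      rintro _ ⟨x, hx, rfl⟩
      exact ⟨x.2, by rw [← map_pow, hBp x hx, map_one]⟩
    refine le_trans ?_ (card_le_of_le hle)
    rw [card_map_of_injective A.subtype_injective, hn]
    calc 8 = 2 ^ 3 := rfl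
      _ ≤ 2 ^ n := Nat.pow_le_pow_right (by norm_num) h3
  let e := S.equiv S'
  haveI : (E₁.map e.toMonoidHom).Normal := ‹E₁.Normal›.map e.toMonoidHom e.surjective
  refine exists_core_subgroup h2c hodd S' (E₁.map e.toMonoidHom) ⟨.of_setLike_mul_comm ?_, ?_⟩
    (by rwa [card_map_of_injective e.injective])
  · rintro _ ⟨x, hx, rfl⟩ _ ⟨y, hy, rfl⟩
    rw [← map_mul, ← map_mul, ElemAb.comm hE1 hx hy]
  · rintro _ ⟨x, hx, rfl⟩
    rw [← map_pow, hE1.2 x hx, map_one]

end Cfsg.Agent.OddDown.CoreSub
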