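import Cfsg.Prelude.Def_Transfer
import Cfsg.Agent.S3803
import Cfsg.Agent.S3861
import Cfsg.Agent.S3863
import Cfsg.Agent.Lib.TwoGroups.OddAction
import Cfsg.Agent.Lib.OddChar.Iface
import Mathlib

/-!
# Non-central real classes with equal 2-parts (S4193, from solvability of groups of odd order)
-/

set_option autoImplicit false
set_option linter.style.haveILetI false

namespace Cfsg.Agent.RealTwoPart

open Cfsg.Agent
open Cfsg.Agent.S3803
open scoped commutatorElement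

universe u

variable {X : Type*} [Group X] [Finite X]

/-- An element of odd order normalising a 2-group in which the elements inverted inside it are central in the
whole group centralises it. -/
theorem centralize_of_inner_real
    {P : Subgroup X} (hreal : ∀ x ∈ P, (∃ y ∈ P, y * x * y⁻¹ = x⁻¹) → x ∈ Subgroup.center X)
    (hP : IsPGroup 2 ↥P) {a : X} (ha : Odd (orderOf a))
    (haP : a ∈ Subgroup.normalizer (P : Set X)) : ∀ x ∈ P, a * x = x * a := by
  classical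
  have : Fact (Nat.Prime 2) := ⟨Nat.prime_two⟩
  by_contra hbad
  push Not at hbad
  obtain ⟨Q, hQmin⟩ := (Set.toFinite {Q : Subgroup X | Q ≤ P ∧ a ∈ Subgroup.normalizer (Q : Set X) ∧
    ∃ x ∈ Q, a * x ≠ x * a}).exists_minimal ⟨P, le_rfl, haP, hbad⟩
  obtain ⟨⟨hQP, haQ, x₀, hx₀, hx₀a⟩, hmin⟩ := hQmin
  have hQ : IsPGroup 2 ↥Q := hP.to_le hQP
  have hfix : ∀ K : Subgroup X, K ≤ Q → a ∈ Subgroup.normalizer (K : Set X) → K ≠ Q →
      ∀ x ∈ K, a * x = x * a := by
    intro K hKQ haK hne x hx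
    by_contra hc
    exact hne (le_antisymm hKQ (hmin ⟨hKQ.trans hQP, haK, x, hx, hc⟩ hKQ))
  have hconj : ∀ {z : X}, z ∈ Q → a * z * a⁻¹ ∈ Q := fun hz =>
    (Subgroup.mem_normalizer_iff.1 haQ _).1 hz
  -- squares are fixed
  set S := Subgroup.closure {z : X | ∃ x ∈ Q, x ^ 2 = z} with hS
  have hSQ : S ≤ Q := (Subgroup.closure_le _).2 (by rintro _ ⟨x, hx, rfl⟩; exact pow_mem hx 2)
  have hSa : a ∈ Subgroup.normalizer (S : Set X) := by
    refine mem_normalizer_of_conj_mem fun k hk => ?_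
    have h1 : S.map (MulAut.conj a).toMonoidHom ≤ S := by
      rw [hS, MonoidHom.map_closure, Subgroup.closure_le]
      rintro _ ⟨_, ⟨x, hx, rfl⟩, rfl⟩
      exact Subgroup.subset_closure ⟨a * x * a⁻¹, hconj hx, (map_pow (MulAut.conj a) x 2).symm⟩
    exact h1 ⟨k, hk, rfl⟩
  have hSne : S ≠ Q := by
    intro hSQ'
    obtain ⟨x, hx, hx1⟩ : ∃ x ∈ Q, x ≠ 1 := ⟨x₀, hx₀, fun h => hx₀a (by simp [h])⟩
    haveI : Group.IsNilpotent ↥Q := hQ.isNilpotent
    have htop : (⊥ : Subgroup ↥Q) ≠ ⊤ := fun hb => hx1 (congrArg Subtype.val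
      (Subgroup.mem_bot.1 (hb ▸ Subgroup.mem_top (⟨x, hx⟩ : ↥Q)) : (⟨x, hx⟩ : ↥Q) = 1))
    obtain ⟨M, hM, -⟩ := (eq_top_or_exists_le_coatom _).resolve_left htop
    haveI : M.Normal := Subgroup.NormalizerCondition.normal_of_coatom M Group.normalizerCondition_of_isNilpotent hM
    obtain ⟨k, hk⟩ := (hQ.index M)
    -- the quotient has no proper nontrivial subgroup, so its order is `2`
    have h2 : ∀ q : ↥Q ⧸ M, q ^ 2 = 1 := by
      intro q
      by_contra hq
      have hle : M < (Subgroup.zpowers (q ^ 2)).comap (QuotientGroup.mk' M) := by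
        refine lt_of_le_of_ne (QuotientGroup.le_comap_mk' M _) fun he => hq ?_
        obtain ⟨z, hz⟩ := QuotientGroup.mk'_surjective M (q ^ 2)
        have hzM : z ∈ M := by rw [he, Subgroup.mem_comap, hz]; exact Subgroup.mem_zpowers _
        rw [← hz]; exact (QuotientGroup.eq_one_iff z).2 hzM
      have h3 : q ∈ Subgroup.zpowers (q ^ 2) := by
        obtain ⟨z, rfl⟩ := QuotientGroup.mk'_surjective M q
        exact Subgroup.mem_comap.1 (hM.2 _ hle ▸ Subgroup.mem_top z)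
      obtain ⟨j, hj⟩ := hQ.to_quotient M q
      obtain ⟨i, hi⟩ := h3
      -- `q = q ^ (2 * i)` forces `q = 1`
      have h4 : q ^ (2 * i - 1 : ℤ) = 1 := by
        have hi' : (q ^ 2) ^ i = q := hi
        rw [zpow_sub, zpow_one, zpow_mul, zpow_two, ← sq, hi', mul_inv_cancel]
      have h5 : orderOf q ∣ 2 ^ j := orderOf_dvd_of_pow_eq_one hj
      have h6 : (orderOf q : ℤ) ∣ (2 * i - 1 : ℤ) := orderOf_dvd_iff_zpow_eq_one.2 h4
      obtain ⟨l, -, hl⟩ := (Nat.dvd_prime_pow Nat.prime_two).1 h5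
      rcases l with _ | l
      · exact hq (by rw [orderOf_eq_one_iff.1 (hl.trans (pow_zero 2)), one_pow])
      · have h7 : (2 : ℤ) ∣ 2 * i - 1 :=
          dvd_trans (by rw [hl]; push_cast; exact dvd_pow_self _ (Nat.succ_ne_zero l)) h6
        omega
    have : ∀ z : ↥Q, z ∈ M := fun z => by
      have hz : (z : X) ∈ S := by rw [hSQ']; exact z.2
      have h1 : S ≤ M.map Q.subtype := (Subgroup.closure_le _).2 (by
        rintro _ ⟨w, hw, hw2⟩
        rw [← hw2]
        refine ⟨⟨w, hw⟩ ^ 2, ?_, by simp⟩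
        exact (QuotientGroup.eq_one_iff _).1 (h2 (QuotientGroup.mk' M ⟨w, hw⟩)))
      obtain ⟨w, hw, hwz⟩ := h1 hz
      exact Q.subtype_injective hwz ▸ hw
    exact hM.1 ((Subgroup.eq_top_iff' _).2 this)
  have hsq : ∀ x ∈ Q, a * x ^ 2 = x ^ 2 * a := fun x hx =>
    hfix S hSQ hSa hSne _ (Subgroup.subset_closure ⟨x, hx, rfl⟩)
  -- it suffices that all `u = x⁻¹ x^a` are fixed
  obtain ⟨x, hx, hu⟩ : ∃ x ∈ Q, a * (x⁻¹ * (a * x * a⁻¹)) ≠ (x⁻¹ * (a * x * a⁻¹)) * a := by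
    by_contra hc
    push Not at hc
    set u := x₀⁻¹ * (a * x₀ * a⁻¹) with hu
    have h1 := inv_pow_conj (x := x₀) (hc x₀ hx₀) (by group) (orderOf a)
    rw [pow_orderOf_eq_one, one_mul, inv_one, mul_one, left_eq_mul] at h1
    have h2 := fixed_of_two_group hQ ha (mul_mem (inv_mem hx₀) (hconj hx₀)) h1
    rw [inv_mul_eq_one] at h2
    exact hx₀a (calc a * x₀ = (a * x₀ * a⁻¹) * a := by group
      _ = x₀ * a := by rw [← h2])
  set u := x⁻¹ * (a * x * a⁻¹) with hudef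
  have huQ : u ∈ Q := mul_mem (inv_mem hx) (hconj hx)
  -- squares are central in `Q`
  have hsqa : ∀ f ∈ Q, a * f ^ 2 * a⁻¹ = f ^ 2 := fun f hf => by rw [hsq f hf, mul_inv_cancel_right]
  set K := Q ⊓ Subgroup.centralizer {z : X | ∃ y ∈ Q, y ^ 2 = z} with hK
  have hKa : a ∈ Subgroup.normalizer (K : Set X) := by
    refine mem_normalizer_of_conj_mem fun k hk => ⟨hconj hk.1, Subgroup.mem_centralizer_iff.2 ?_⟩
    rintro _ ⟨y, hy, rfl⟩
    have h1 : y ^ 2 * k = k * y ^ 2 := Subgroup.mem_centralizer_iff.1 hk.2 _ ⟨y, hy, rfl⟩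
    calc y ^ 2 * (a * k * a⁻¹) = (a * y ^ 2 * a⁻¹) * (a * k * a⁻¹) := by rw [hsqa y hy]
      _ = a * (y ^ 2 * k) * a⁻¹ := by group
      _ = a * (k * y ^ 2) * a⁻¹ := by rw [h1]
      _ = (a * k * a⁻¹) * (a * y ^ 2 * a⁻¹) := by group
      _ = a * k * a⁻¹ * y ^ 2 := by rw [hsqa y hy]
  have huK : u ∈ K := by
    refine ⟨huQ, Subgroup.mem_centralizer_iff.2 ?_⟩
    rintro _ ⟨y, hy, rfl⟩
    have h1 : a * (x * y ^ 2 * x⁻¹) * a⁻¹ = x * y ^ 2 * x⁻¹ := by
      rw [← conj_pow]; exact hsqa _ (mul_mem (mul_mem hx hy) (inv_mem hx))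
    have h2 : a * x * a⁻¹ * y ^ 2 * (a * x * a⁻¹)⁻¹ = x * y ^ 2 * x⁻¹ := by
      rw [← h1]
      conv_lhs => rw [← hsqa y hy]
      group
    calc y ^ 2 * u = x⁻¹ * (x * y ^ 2 * x⁻¹) * (a * x * a⁻¹) := by rw [hudef]; group
      _ = x⁻¹ * (a * x * a⁻¹ * y ^ 2 * (a * x * a⁻¹)⁻¹) * (a * x * a⁻¹) := by rw [h2]
      _ = u * y ^ 2 := by rw [hudef]; group
  have hKQ : K = Q := by
    by_contra hne
    exact hu (hfix K inf_le_left hKa hne u huK)
  have hcent : ∀ y ∈ Q, ∀ z ∈ Q, y ^ 2 * z = z * y ^ 2 := fun y hy z hz =>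
    Subgroup.mem_centralizer_iff.1 (hKQ.ge hz).2 _ ⟨y, hy, rfl⟩
  -- commutators are central and fixed
  have hC : ∀ y ∈ Q, ∀ z ∈ Q, Commute (y ^ 2) z := hcent
  have hA' : ∀ y ∈ Q, Commute a (y ^ 2) := hsq
  have hzz : ∀ y ∈ Q, ∀ z ∈ Q, ⁅y, z⁆ = (y * z) ^ 2 * (y ^ 2)⁻¹ * (z ^ 2)⁻¹ := by
    intro y hy z hz
    calc ⁅y, z⁆ = y * z * y⁻¹ * z⁻¹ := commutatorElement_def y z
      _ = y * z * (y * (y ^ 2)⁻¹) * (z * (z ^ 2)⁻¹) := by simp only [pow_two]; group
      _ = y * z * y * ((y ^ 2)⁻¹ * z) * (z ^ 2)⁻¹ := by group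
      _ = y * z * y * (z * (y ^ 2)⁻¹) * (z ^ 2)⁻¹ := by
        rw [((hC y hy z hz).inv_left).eq]
      _ = (y * z) ^ 2 * (y ^ 2)⁻¹ * (z ^ 2)⁻¹ := by rw [pow_two (y * z)]; group
  have hcc : ∀ y ∈ Q, ∀ z ∈ Q, ∀ w ∈ Q, Commute ⁅y, z⁆ w := fun y hy z hz w hw => by
    rw [hzz y hy z hz]
    exact ((hC _ (mul_mem hy hz) w hw).mul_left (hC y hy w hw).inv_left).mul_left (hC z hz w hw).inv_left
  have hca : ∀ y ∈ Q, ∀ z ∈ Q, a * ⁅y, z⁆ * a⁻¹ = ⁅y, z⁆ := fun y hy z hz => by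
    have h1 : Commute a ⁅y, z⁆ := by
      rw [hzz y hy z hz]
      exact ((hA' _ (mul_mem hy hz)).mul_right (hA' y hy).inv_right).mul_right (hA' z hz).inv_right
    rw [h1.eq, mul_inv_cancel_right]
  have hlin : ∀ y ∈ Q, ∀ z ∈ Q, ∀ w ∈ Q, ⁅y, z * w⁆ = ⁅y, z⁆ * ⁅y, w⁆ := fun y hy z hz w hw => by
    have h1 : ⁅y, z * w⁆ = ⁅y, z⁆ * (z * ⁅y, w⁆ * z⁻¹) := by simp only [commutatorElement_def]; group
    rw [h1, ← (hcc y hy w hw z hz).eq, mul_inv_cancel_right]
  have hlin' : ∀ y ∈ Q, ∀ z ∈ Q, ∀ w ∈ Q, ⁅y * z, w⁆ = ⁅y, w⁆ * ⁅z, w⁆ := fun y hy z hz w hw => by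
    have h1 : ⁅y * z, w⁆ = y * ⁅z, w⁆ * y⁻¹ * ⁅y, w⁆ := by simp only [commutatorElement_def]; group
    rw [h1, ← (hcc z hz w hw y hy).eq, mul_inv_cancel_right]
    exact (hcc z hz w hw _ (by
      rw [commutatorElement_def]; exact mul_mem (mul_mem (mul_mem hy hw) (inv_mem hy)) (inv_mem hw))).eq
  let D : Subgroup X :=
  { carrier := {d | ∃ y ∈ Q, ⁅x, y⁆ = d}
    one_mem' := ⟨1, one_mem Q, by simp⟩
    mul_mem' := fun {d e} ⟨y, hy, hd⟩ ⟨z, hz, he⟩ =>
      ⟨y * z, mul_mem hy hz, by rw [hlin x hx y hy z hz, hd, he]⟩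
    inv_mem' := fun {d} ⟨y, hy, hd⟩ => ⟨y⁻¹, inv_mem hy, by
      rw [← hd]
      apply eq_inv_of_mul_eq_one_left
      rw [← hlin x hx _ (inv_mem hy) y hy, inv_mul_cancel]
      simp⟩ }
  refine hu ?_
  by_cases hxD : x ^ 2 ∈ D
  · -- `x` is conjugate to its inverse
    obtain ⟨y, hy, hd⟩ := hxD
    have hxc : x ∈ Subgroup.center X := by
      refine hreal x (hQP hx) ⟨y⁻¹, inv_mem (hQP hy), ?_⟩
      suffices h : y * x⁻¹ * y⁻¹ = x by
        calc y⁻¹ * x * y⁻¹⁻¹ = y⁻¹ * (y * x⁻¹ * y⁻¹) * y := by rw [h, inv_inv]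
          _ = x⁻¹ := by group
      · rw [commutatorElement_def] at hd
        calc y * x⁻¹ * y⁻¹ = x⁻¹ * (x * y * x⁻¹ * y⁻¹) := by group
          _ = x := by rw [hd, pow_two]; group
    rw [hudef, Subgroup.mem_center_iff.1 hxc a, mul_inv_cancel_right]
    simp
  let R : Subgroup X :=
  { carrier := {y | y ∈ Q ∧ ∀ z ∈ Q, ⁅y, z⁆ ∈ D}
    one_mem' := ⟨one_mem Q, fun z _ => by simp [one_mem]⟩
    mul_mem' := fun {y w} hy hw => ⟨mul_mem hy.1 hw.1, fun z hz => by
      rw [hlin' y hy.1 w hw.1 z hz]; exact mul_mem (hy.2 z hz) (hw.2 z hz)⟩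
    inv_mem' := fun {y} hy => ⟨inv_mem hy.1, fun z hz => by
      have h1 := hlin' _ (inv_mem hy.1) y hy.1 z hz
      rw [inv_mul_cancel, commutatorElement_one_left] at h1
      rw [eq_inv_of_mul_eq_one_left h1.symm]
      exact inv_mem (hy.2 z hz)⟩ }
  have hRa : a ∈ Subgroup.normalizer (R : Set X) := by
    refine mem_normalizer_of_conj_mem fun k hk => ⟨hconj hk.1, fun z hz => ?_⟩
    have hz' : a⁻¹ * z * a ∈ Q := by
      have := (Subgroup.mem_normalizer_iff.1 (inv_mem haQ) z).1 hz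
      simpa using this
    have h1 : ⁅a * k * a⁻¹, z⁆ = a * ⁅k, a⁻¹ * z * a⁆ * a⁻¹ := by simp only [commutatorElement_def]; group
    rw [h1, hca k hk.1 _ hz']
    exact hk.2 _ hz'
  have hxR : x ∈ R := ⟨hx, fun z hz => ⟨z, hz, rfl⟩⟩
  by_cases hRQ : R = Q
  swap
  · have h1 := hfix R (fun y hy => hy.1) hRa hRQ x hxR
    rw [hudef, h1, mul_inv_cancel_right]
    simp
  have hsqm : ∀ y ∈ Q, ∀ z ∈ Q, (y * z) ^ 2 = ⁅z, y⁆ * (y ^ 2 * z ^ 2) := fun y hy z hz => by
    calc (y * z) ^ 2 = y * (z * y) * z := by rw [pow_two]; group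
      _ = y * (⁅z, y⁆ * (y * z)) * z := by simp only [commutatorElement_def]; group
      _ = (y * ⁅z, y⁆) * (y * z * z) := by group
      _ = (⁅z, y⁆ * y) * (y * z * z) := by rw [(hcc z hz y hy y hy).eq]
      _ = _ := by simp only [pow_two]; group
  let K' : Subgroup X :=
  { carrier := {y | y ∈ Q ∧ y ^ 2 ∈ D}
    one_mem' := ⟨one_mem Q, by simp [one_mem]⟩
    mul_mem' := fun {y z} hy hz => ⟨mul_mem hy.1 hz.1, by
      rw [hsqm y hy.1 z hz.1]
      exact mul_mem ((hRQ.ge hz.1).2 y hy.1) (mul_mem hy.2 hz.2)⟩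
    inv_mem' := fun {y} hy => ⟨inv_mem hy.1, by rw [inv_pow]; exact inv_mem hy.2⟩ }
  have hK'a : a ∈ Subgroup.normalizer (K' : Set X) :=
    mem_normalizer_of_conj_mem fun k hk => ⟨hconj hk.1, by rw [conj_pow, hsqa k hk.1]; exact hk.2⟩
  have hK'ne : K' ≠ Q := fun h => hxD (h.ge hx).2
  refine hfix K' (fun y hy => hy.1) hK'a hK'ne u ⟨huQ, ?_⟩
  rw [hudef, hsqm _ (inv_mem hx) _ (hconj hx), conj_pow, hsqa x hx, inv_pow, inv_mul_cancel, mul_one]
  exact (hRQ.ge (hconj hx)).2 _ (inv_mem hx)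

/-- A group with a normal 2-complement is solvable, given that groups of odd order are. -/
theorem isSolvable_of_hasNormalPComplement (hodd : OddChar.OddSolvable.{u}) {G : Type u} [Group G] [Finite G]
    (h : Cfsg.HasNormalPComplement 2 G) : Group.IsSolvable G := by
  haveI : Fact (Nat.Prime 2) := ⟨Nat.prime_two⟩
  obtain ⟨P, N, hN, hc⟩ := h
  haveI := hN
  have hidx : N.index = Nat.card (P : Subgroup G) := by
    have h1 := N.card_mul_index
    rw [← hc.card_mul_card] at h1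
    exact Nat.eq_of_mul_eq_mul_left Nat.card_pos h1
  have hPi : ¬ 2 ∣ (P : Subgroup G).index := P.not_dvd_index
  have hNodd : Odd (Nat.card N) := by
    rw [← Nat.not_even_iff_odd, even_iff_two_dvd]
    intro hd
    refine hPi ?_
    have h1 := (P : Subgroup G).card_mul_index
    rw [← hc.card_mul_card, mul_comm (Nat.card N)] at h1
    rwa [Nat.eq_of_mul_eq_mul_left Nat.card_pos h1]
  haveI : Group.IsSolvable N := hodd N hNodd
  have hpg : IsPGroup 2 (G ⧸ N) := by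
    obtain ⟨k, hk⟩ := IsPGroup.iff_card.1 P.isPGroup'
    exact IsPGroup.of_card (n := k) (by rw [← Subgroup.index_eq_card, hidx, hk])
  haveI : Group.IsNilpotent (G ⧸ N) := hpg.isNilpotent
  exact Group.isSolvable_of_ker_le_range N.subtype (QuotientGroup.mk' N) (by simp)

/-- The statement of S4193, from the odd order theorem. -/
theorem solvable_and_complement (hodd : OddChar.OddSolvable.{u}) {G : Type u} [Group G] [Finite G] (a : ℕ)
    (h : ∀ x : G, IsConj x x⁻¹ → x ∉ Subgroup.center G →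
      ((Subgroup.centralizer ({x} : Set G)).index).factorization 2 = a)
    (S : Sylow 2 G) (hS : ∀ s : ↥(S : Subgroup G), IsConj s s⁻¹ → s ∈ Subgroup.center ↥(S : Subgroup G)) :
    Group.IsSolvable G ∧
      Cfsg.HasNormalPComplement 2 ↥(Subgroup.closure {g : G | ∃ k : ℕ, orderOf g = 2 ^ k}) := by
  classical
  haveI : Fact (Nat.Prime 2) := ⟨Nat.prime_two⟩
  -- an element of `S` inverted inside `S` squares to one
  have hSsq : ∀ x ∈ (S : Subgroup G), (∃ y ∈ (S : Subgroup G), y * x * y⁻¹ = x⁻¹) → x ^ 2 = 1 := by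
    rintro x hx ⟨y, hy, he⟩
    have hc := hS ⟨x, hx⟩ (isConj_iff.2 ⟨⟨y, hy⟩, Subtype.ext he⟩)
    have h1 : y * x = x * y := congrArg Subtype.val (Subgroup.mem_center_iff.1 hc ⟨y, hy⟩)
    rw [h1, mul_inv_cancel_right] at he
    rw [sq]
    exact mul_eq_one_iff_eq_inv.2 he
  by_cases hinv : ∀ x : G, x ^ 2 = 1 → x ∈ Subgroup.center G
  · -- every involution is central: there is a normal 2-complement
    have hG : Cfsg.HasNormalPComplement 2 G := by
      refine TwoFus.hasNormalPComplement_of_oddTrivial S fun E hE w hw ho => ?_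
      refine Subgroup.mem_centralizer_iff.2 fun e he => (centralize_of_inner_real ?_ (S.isPGroup'.to_le hE) ho hw e he).symm
      rintro x hx ⟨y, hy, he⟩
      exact hinv x (hSsq x (hE hx) ⟨y, hE hy, he⟩)
    exact ⟨isSolvable_of_hasNormalPComplement hodd hG, PBasic.hasNormalPComplement_subgroup _ hG⟩
  · -- some involution is not central, so all non-central real classes are odd
    push Not at hinv
    obtain ⟨t, ht, htc⟩ := hinv
    have ht' : IsPGroup 2 (Subgroup.zpowers t) := by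
      refine IsPGroup.of_card (n := 1) ?_
      rw [Nat.card_zpowers, pow_one]
      exact orderOf_eq_prime ht fun h1 => htc (h1 ▸ one_mem _)
    obtain ⟨R, hR⟩ := ht'.exists_le_sylow
    obtain ⟨g, hg⟩ := MulAction.exists_smul_eq G R S
    have hsS : g * t * g⁻¹ ∈ (S : Subgroup G) := by
      rw [← hg, Sylow.coe_subgroup_smul]
      exact ⟨t, hR (Subgroup.mem_zpowers t), rfl⟩
    set s := g * t * g⁻¹ with hs
    have hs2 : s ^ 2 = 1 := by rw [hs, conj_pow, ht, mul_one, mul_inv_cancel]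
    have hs_inv : s⁻¹ = s := inv_eq_of_mul_eq_one_left (by rw [← sq, hs2])
    have hsc : s ∉ Subgroup.center G := by
      intro hc
      refine htc ?_
      have : g⁻¹ * s * g = t := by rw [hs]; group
      rw [← this, Subgroup.mem_center_iff.1 hc g⁻¹, inv_mul_cancel_right]
      exact hc
    have hle : (S : Subgroup G) ≤ Subgroup.centralizer ({s} : Set G) := fun u hu => by
      have hc := hS ⟨s, hsS⟩ (by rw [show (⟨s, hsS⟩ : (S : Subgroup G))⁻¹ = ⟨s, hsS⟩ from Subtype.ext hs_inv])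
      rw [Subgroup.mem_centralizer_singleton_iff]
      exact congrArg Subtype.val (Subgroup.mem_center_iff.1 hc ⟨u, hu⟩)
    have hodds : ¬ 2 ∣ (Subgroup.centralizer ({s} : Set G)).index := fun hd =>
      S.not_dvd_index (hd.trans (Subgroup.index_dvd_of_le hle))
    have ha : a = 0 := by
      rw [← h s (by rw [hs_inv]) hsc, Nat.factorization_eq_zero_of_not_dvd hodds]
    have hreal : ∀ x : G, IsConj x x⁻¹ → x ^ 2 = 1 := by
      intro x hx
      by_cases hc : x ∈ Subgroup.center G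
      · obtain ⟨c, hc'⟩ := isConj_iff.1 hx
        rw [Subgroup.mem_center_iff.1 hc c, mul_inv_cancel_right] at hc'
        rw [sq]
        exact mul_eq_one_iff_eq_inv.2 hc'
      · refine (S3863.result x hx).2.1 ?_
        have h0 := h x hx hc
        rw [ha, Nat.factorization_eq_zero_iff] at h0
        rw [← Nat.not_even_iff_odd, even_iff_two_dvd]
        rcases h0 with h0 | h0 | h0
        · exact absurd Nat.prime_two h0
        · exact h0
        · exact absurd h0 Subgroup.index_ne_zero_of_finite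
    have hSn : (S : Subgroup G).Normal := (S3861.result S).1 fun x hx1 hxo hxr => hx1 <| by
      have h2 := orderOf_dvd_of_pow_eq_one (hreal x hxr)
      rcases (Nat.dvd_prime Nat.prime_two).1 h2 with h3 | h3
      · exact orderOf_eq_one_iff.1 h3
      · rw [h3] at hxo; exact absurd hxo (by decide)
    haveI := hSn
    constructor
    · have hqo : Odd (Nat.card (G ⧸ (S : Subgroup G))) := by
        rw [← Subgroup.index_eq_card, ← Nat.not_even_iff_odd, even_iff_two_dvd]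
        exact S.not_dvd_index
      haveI : Group.IsSolvable (G ⧸ (S : Subgroup G)) := hodd _ hqo
      haveI : Group.IsNilpotent (S : Subgroup G) := S.isPGroup'.isNilpotent
      exact Group.isSolvable_of_ker_le_range (S : Subgroup G).subtype (QuotientGroup.mk' (S : Subgroup G)) (by simp)
    · have hKS : Subgroup.closure {g : G | ∃ k : ℕ, orderOf g = 2 ^ k} ≤ (S : Subgroup G) := by
        refine (Subgroup.closure_le _).2 ?_
        rintro x ⟨k, hk⟩
        obtain ⟨R, hR⟩ := (IsPGroup.of_card (n := k) (by rw [Nat.card_zpowers, hk] :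
          Nat.card (Subgroup.zpowers x) = 2 ^ k)).exists_le_sylow
        haveI := Sylow.unique_of_normal S hSn
        rw [Subsingleton.elim R S] at hR
        exact hR (Subgroup.mem_zpowers x)
      have hK : IsPGroup 2 ↥(Subgroup.closure {g : G | ∃ k : ℕ, orderOf g = 2 ^ k}) := S.isPGroup'.to_le hKS
      obtain ⟨P⟩ : Nonempty (Sylow 2 ↥(Subgroup.closure {g : G | ∃ k : ℕ, orderOf g = 2 ^ k})) := inferInstance
      refine ⟨P, ⊥, inferInstance, ?_⟩
      rw [← P.3 (IsPGroup.of_equiv hK Subgroup.topEquiv.symm) le_top]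
      exact Subgroup.isComplement'_bot_top

end Cfsg.Agent.RealTwoPart
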