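import Cfsg.Agent.Lib.OddDown.FixedGenKey
import Cfsg.Agent.Lib.LocalEven.Basic
import Cfsg.Agent.Lib.OddChar.Iface

/-!
Generation of fixed points in `[Y, A] = Y` for an abelian 2-group `A` acting on `Y` of odd order,
given solvability of groups of odd order (S1329).
-/

set_option autoImplicit false

namespace Cfsg.Agent.OddDown

universe u

namespace FixedGen

open Subgroup
open scoped commutatorElement
open Cfsg.Agent.CoprimeAct

variable {G : Type u} [Group G] [Finite G] {A B Y : Subgroup G}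

/-- The claim for groups of order less than `n`. -/
def Below (n : ℕ) : Prop :=
  ∀ (H : Type u) [Group H] [Finite H] (A B Y : Subgroup H), Hyp A B Y → ⁅Y, A⁆ = Y →
    Nat.card Y < n → Y ⊓ centralizer (B : Set H) ≤ gen A B Y

/-- Reduction modulo an invariant normal subgroup. -/
theorem step (h : Hyp A B Y) (hYA : ⁅Y, A⁆ = Y) (ih : Below.{u} (Nat.card Y)) {V : Subgroup G}
    (hVY : V ≤ Y) (hV1 : V ≠ ⊥) (hYV : Y ≤ normalizer (V : Set G))
    (hAV : A ≤ normalizer (V : Set G)) (hV : V ⊓ centralizer (B : Set G) ≤ gen A B Y) :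
    Y ⊓ centralizer (B : Set G) ≤ gen A B Y := by
  set M := normalizer (V : Set G) with hMdef
  have hVM : V ≤ M := le_normalizer
  have hBM : B ≤ M := h.le.trans hAV
  haveI : (V.subgroupOf M).Normal := normal_subgroupOf_of_le_normalizer le_rfl
  set f := QuotientGroup.mk' (V.subgroupOf M) with hf
  set A' := A.subgroupOf M with hA'
  set B' := B.subgroupOf M with hB'
  set Y' := Y.subgroupOf M with hY'
  have mA : A'.map M.subtype = A := map_subgroupOf_eq_of_le hAV
  have mB : B'.map M.subtype = B := map_subgroupOf_eq_of_le hBM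
  have mY : Y'.map M.subtype = Y := map_subgroupOf_eq_of_le hYV
  have hh : Hyp A' B' Y' := by
    refine ⟨fun a ha a' ha' => Subtype.ext (h.comm a ha a' ha'), fun b hb => h.le hb,
      fun a ha => ?_, ?_, ?_⟩
    · rw [mem_normalizer_iff]
      exact fun v => mem_normalizer_iff.1 (h.norm ha) (v : G)
    · rw [Nat.card_congr (subgroupOfEquivOfLe hAV).toEquiv,
        Nat.card_congr (subgroupOfEquivOfLe hYV).toEquiv]
      exact h.cop
    · have := h.sol
      exact Group.isSolvable_of_isSolvable_injective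
        (f := (subgroupOfEquivOfLe hYV).toMonoidHom) (subgroupOfEquivOfLe hYV).injective
  have hYA' : ⁅Y', A'⁆ = Y' := by
    refine map_injective M.subtype_injective ?_
    rw [map_commutator, mA, mY, hYA]
  have hlt : Nat.card (Y'.map f) < Nat.card Y := by
    refine lt_of_lt_of_le ?_ (Nat.card_congr (subgroupOfEquivOfLe hYV).toEquiv).le
    refine lt_of_le_of_ne (Nat.le_of_dvd Nat.card_pos (card_map_dvd _ _)) ?_
    intro e
    obtain ⟨v, hv, hv1⟩ := V.bot_or_exists_ne_one.resolve_left hV1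
    have hinj : Function.Injective (f.subgroupMap Y') :=
      ((Nat.bijective_iff_surjective_and_card _).2 ⟨f.subgroupMap_surjective Y', e.symm⟩).1
    have h1 : f.subgroupMap Y' ⟨⟨v, hVM hv⟩, hVY hv⟩ = f.subgroupMap Y' 1 := by
      refine Subtype.ext ?_
      show f ⟨v, hVM hv⟩ = f 1
      rw [map_one, hf, QuotientGroup.mk'_apply, QuotientGroup.eq_one_iff]
      exact hv
    exact hv1 (congrArg (fun t : ↥Y' => ((t : ↥M) : G)) (hinj h1))
  have hq := ih _ (A'.map f) (B'.map f) (Y'.map f) (hh.map f)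
    (by rw [← map_commutator, hYA']) hlt
  have hback : gen (A'.map f) (B'.map f) (Y'.map f) ≤ (gen A' B' Y').map f := by
    refine iSup_le fun B₀ => ?_
    obtain ⟨C, hC, g, hg, hsup⟩ := B₀
    obtain ⟨b, hb, rfl⟩ := hg
    set C' := B' ⊓ C.comap f with hC'
    have hC'A : C' ≤ A' := inf_le_left.trans hh.le
    have hCC : C'.map f = C := by
      refine le_antisymm (map_le_iff_le_comap.2 inf_le_right) fun c hc => ?_
      obtain ⟨x, hx, rfl⟩ := hC hc
      exact mem_map_of_mem f ⟨hx, hc⟩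
    have hgood : Good B' C' := by
      refine ⟨inf_le_left, b, hb, fun x hx => ?_⟩
      have hn : zpowers (f b) ≤ normalizer (C : Set (↥M ⧸ V.subgroupOf M)) := by
        refine zpowers_le.2 ((centralizer_le_normalizer _) (mem_centralizer_iff.2 fun c hc => ?_))
        obtain ⟨x, hx, rfl⟩ := hC hc
        rw [← map_mul, ← map_mul, hh.comm x (hh.le hx) b (hh.le hb)]
      obtain ⟨u, hu, w, hw, huw⟩ :=
        (SolvBasic.mem_sup_iff_of_le_normalizer hn).1 (hsup (mem_map_of_mem f hx))
      obtain ⟨i, rfl⟩ := mem_zpowers_iff.1 hw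
      have e : x = x * (b ^ i)⁻¹ * b ^ i := by group
      rw [e]
      refine mul_mem (mem_sup_left ⟨B'.mul_mem hx (B'.inv_mem (zpow_mem hb i)), ?_⟩)
        (mem_sup_right (zpow_mem (mem_zpowers b) i))
      show f (x * (b ^ i)⁻¹) ∈ C
      rw [map_mul, map_inv, map_zpow, huw, mul_inv_cancel_right]
      exact hu
    show Y'.map f ⊓ centralizer ((B'.map f : Subgroup _) : Set _) ⊓
      ⁅Y'.map f ⊓ centralizer ((C : Subgroup _) : Set _), A'.map f⁆ ≤ _
    rw [← hCC, ← map_inf_centralizer f (hC'A.trans hh.norm) (hh.copSub hC'A le_rfl)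
      (Or.inr hh.sol), ← map_commutator]
    set W := ⁅Y' ⊓ centralizer (C' : Set ↥M), A'⁆ with hW
    have hWY : W ≤ Y' := (commutator_mono inf_le_left le_rfl).trans (commutator_le_left hh.norm)
    have key := map_inf_centralizer f (A := B') (K := W)
      (hh.le.trans (normalizer_commutator_ge_right _ _)) (hh.copSub hh.le hWY)
      (Or.inr (@SolvBasic.isSolvable_of_le _ _ _ Y' hWY hh.sol))
    refine le_trans (le_inf inf_le_right (inf_le_left.trans inf_le_right)) ?_
    rw [← key]
    refine map_mono fun w hw => ?_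
    exact mem_gen hgood (hWY hw.1) hw.2 hw.1
  intro y hy
  have hyM : y ∈ M := hYV hy.1
  have hy' : (⟨y, hyM⟩ : ↥M) ∈ Y' := hy.1
  have h1 : f ⟨y, hyM⟩ ∈ Y'.map f ⊓ centralizer ((B'.map f : Subgroup _) : Set _) := by
    refine ⟨mem_map_of_mem f hy', mem_centralizer_iff.2 ?_⟩
    rintro _ ⟨b, hb, rfl⟩
    rw [← map_mul, ← map_mul]
    exact congrArg f (Subtype.ext (mem_centralizer_iff.1 hy.2 b hb))
  obtain ⟨d, hd, hdy⟩ := hback (hq h1)
  rw [← inv_mul_eq_one, ← map_inv, ← map_mul, hf, QuotientGroup.mk'_apply,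
    QuotientGroup.eq_one_iff] at hdy
  have hdG : (d : G) ∈ gen A B Y := by
    have := map_gen_le M.subtype (mem_map_of_mem M.subtype hd)
    rwa [mA, mB, mY] at this
  have hv : (d : G)⁻¹ * y ∈ V ⊓ centralizer (B : Set G) :=
    ⟨hdy, (centralizer (B : Set G)).mul_mem ((centralizer (B : Set G)).inv_mem (gen_le hdG).2) hy.2⟩
  have := mul_mem hdG (hV hv)
  rwa [mul_inv_cancel_left] at this

/-- Fixed points of `A` suffice. -/
theorem inf_centralizer_le_of_fixed (h : Hyp A B Y) {V : Subgroup G} (hV : V ≤ Y)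
    (hVA : A ≤ normalizer (V : Set G)) (hfix : V ⊓ centralizer (A : Set G) ≤ gen A B Y) :
    V ⊓ centralizer (B : Set G) ≤ gen A B Y := by
  have hA := norm_fixed (h.mono hV hVA) h.le
  intro v hv
  obtain ⟨d, hd, c, hc, rfl⟩ := exists_commutator_mul hA (h.copSub le_rfl (inf_le_left.trans hV))
    (Or.inr (@SolvBasic.isSolvable_of_le G _ _ Y (inf_le_left.trans hV) h.sol)) hv
  have hdU : d ∈ V ⊓ centralizer (B : Set G) := commutator_le_left hA hd
  exact mul_mem (mem_gen (good_self B) (hV hdU.1) hdU.2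
    ((commutator_mono (inf_le_inf_right _ hV) le_rfl) hd)) (hfix ⟨hc.1.1, hc.2⟩)

/-- A normal invariant subgroup with fixed points in `gen`. -/
theorem exists_normal (h : Hyp A B Y) (hYA : ⁅Y, A⁆ = Y) (hY : Y ≠ ⊥) :
    ∃ V : Subgroup G, V ≤ Y ∧ V ≠ ⊥ ∧ Y ≤ normalizer (V : Set G) ∧
      A ≤ normalizer (V : Set G) ∧ V ⊓ centralizer (A : Set G) ≤ gen A B Y := by
  have hAB : centralizer (A : Set G) ≤ centralizer (B : Set G) := centralizer_le h.le
  by_cases hK : ∃ K : Subgroup G, K ≤ Y ∧ Y ≤ normalizer (K : Set G) ∧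
      A ≤ normalizer (K : Set G) ∧ (∀ u ∈ K, ∀ v ∈ K, u * v = v * u) ∧
      ¬ K ≤ centralizer (Y : Set G)
  · obtain ⟨K, hKY, hYK, hAK, hab, hnc⟩ := hK
    exact ⟨⁅K, Y⁆, (commutator_le_left hYK).trans hKY,
      fun e => hnc (commutator_eq_bot_iff_le_centralizer.1 e),
      le_normalizer_commutator' hYK le_normalizer, le_normalizer_commutator' hAK h.norm,
      (inf_le_inf_left _ hAB).trans (abelian_commutator_case h hYA hKY hYK hAK hab)⟩
  push_neg at hK
  -- the Fitting subgroup
  have hsol := h.sol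
  set F := (Cfsg.fittingSubgroup ↥Y).map Y.subtype with hFdef
  have hchar : (Cfsg.fittingSubgroup ↥Y).Characteristic := FittingCores.fitting_characteristic
  have hFY : F ≤ Y := map_subtype_le _
  have hNF := LEBasic.le_normalizer_map_of_characteristic (H := Y) hchar
  have hYF : Y ≤ normalizer (F : Set G) := le_normalizer.trans hNF
  have hAF : A ≤ normalizer (F : Set G) := h.norm.trans hNF
  have hCF : Y ⊓ centralizer (F : Set G) ≤ F := by
    intro y hy
    refine ⟨⟨y, hy.1⟩, FittingCores.centralizer_fitting_le (mem_centralizer_iff.2 fun z hz => ?_),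
      rfl⟩
    exact Subtype.ext (mem_centralizer_iff.1 hy.2 z (mem_map_of_mem Y.subtype hz))
  by_cases hFab : ⁅F, F⁆ = ⊥
  · have hFc : F ≤ centralizer (Y : Set G) := hK F hFY hYF hAF
      (fun u hu v hv => (mem_centralizer_iff.1
        (commutator_eq_bot_iff_le_centralizer.1 hFab hv) u hu))
    have hYeq : Y = F := le_antisymm (fun y hy => hCF ⟨hy, mem_centralizer_iff.2 fun z hz =>
      (mem_centralizer_iff.1 (hFc hz) y hy).symm⟩) hFY
    haveI : IsMulCommutative ↥Y := IsMulCommutative.of_comm fun u v => Subtype.ext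
      (mem_centralizer_iff.1 (hFc (hYeq ▸ v.2)) u u.2)
    refine ⟨Y, le_rfl, hY, le_normalizer, h.norm, ?_⟩
    have hbot := centralizer_inf_commutator_eq_bot h.norm h.cop
    rw [hYA, inf_eq_left.2 inf_le_left] at hbot
    rw [hbot]
    exact bot_le
  have hnil : Group.IsNilpotent ↥F := by
    have := FittingCores.fitting_nilpotent (G := ↥Y)
    exact Group.nilpotent_of_mulEquiv
      ((Cfsg.fittingSubgroup ↥Y).equivMapOfInjective Y.subtype Y.subtype_injective)
  obtain ⟨n, hn⟩ := (isNilpotent_iff_lowerCentralSeries F).1 hnil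
  have hγ : ∀ k, F.lowerCentralSeries k ≤ F ∧ Y ≤ normalizer (F.lowerCentralSeries k : Set G) ∧
      A ≤ normalizer (F.lowerCentralSeries k : Set G) ∧
      (1 ≤ k → F.lowerCentralSeries k ≤ ⁅F, F⁆) := by
    intro k
    induction k with
    | zero => exact ⟨le_rfl, hYF, hAF, fun h0 => absurd h0 (by omega)⟩
    | succ k ih =>
      rw [Subgroup.lowerCentralSeries_succ]
      exact ⟨(commutator_mono ih.1 le_rfl).trans F.commutator_le_self,
        le_normalizer_commutator' ih.2.1 hYF, le_normalizer_commutator' ih.2.2.1 hAF,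
        fun _ => commutator_mono ih.1 le_rfl⟩
  have hcent : ∀ j k, k + j = n → 1 ≤ k → F.lowerCentralSeries k ≤ centralizer (Y : Set G) := by
    intro j
    induction j with
    | zero =>
      intro k hk _
      rw [show k = n by omega, hn]
      exact bot_le
    | succ j ih =>
      intro k hk h1
      obtain ⟨hle, hkY, hkA, hkFF⟩ := hγ k
      have hsucc := ih (k + 1) (by omega) (by omega)
      rw [Subgroup.lowerCentralSeries_succ] at hsucc
      have hbot : ⁅⁅F.lowerCentralSeries k, F⁆, F⁆ = ⊥ :=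
        commutator_eq_bot_iff_le_centralizer.2 (hsucc.trans (centralizer_le hFY))
      have h3 : ⁅⁅F, F⁆, F.lowerCentralSeries k⁆ = ⊥ := by
        refine commutator_commutator_eq_bot_of_rotate ?_ hbot
        rw [commutator_comm F]
        exact hbot
      refine hK _ (hle.trans hFY) hkY hkA fun u hu v hv => ?_
      exact (mem_centralizer_iff.1 (commutator_eq_bot_iff_le_centralizer.1 h3 (hkFF h1 hu)) v hv).symm
  have hFF : ⁅F, F⁆ ≤ centralizer (Y : Set G) := by
    rcases le_or_gt 1 n with h1 | h1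
    · exact (hcent (n - 1) 1 (by omega) le_rfl)
    · exfalso
      have : n = 0 := by omega
      subst this
      rw [Subgroup.lowerCentralSeries_zero] at hn
      exact hFab (by rw [hn, commutator_bot_left])
  by_cases hNF' : ⁅⁅F, A⁆, F⁆ = ⊥
  swap
  · exact ⟨⁅⁅F, A⁆, F⁆, (commutator_mono (commutator_le_left hAF) le_rfl).trans
        (F.commutator_le_self.trans hFY), hNF',
      fun y hy => (centralizer_le_normalizer _) (mem_centralizer_iff.2 fun m hm =>
        (mem_centralizer_iff.1 (hFF (commutator_mono (commutator_le_left hAF) le_rfl hm)) y hy).symm),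
      le_normalizer_commutator' (normalizer_commutator_ge_right _ _) hAF,
      (inf_le_inf_left _ hAB).trans (class_two_case h hFY hAF hFF)⟩
  -- `A` centralises `F` modulo its centre
  set Z := F ⊓ centralizer (F : Set G) with hZdef
  have hCn : ∀ {X : Subgroup G}, X ≤ normalizer (F : Set G) → X ≤ normalizer (Z : Set G) :=
    fun {X} hX => (le_inf hX (hX.trans fun g hg => by
      have hle : (centralizer (F : Set G)).map (MulAut.conj g).toMonoidHom ≤
          centralizer (F : Set G) := by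
        refine (map_centralizer_le_centralizer_image _ _).trans (le_of_eq ?_)
        rw [← Subgroup.coe_map]
        exact congrArg (fun X : Subgroup G => centralizer (X : Set G))
          (mem_normalizer_iff_map_conj_eq.1 hg)
      exact mem_normalizer_iff_map_conj_eq.2 (eq_of_le_of_card_ge hle
        (card_map_of_injective (MulAut.conj g).injective).ge))).trans
      inf_normalizer_le_normalizer_inf
  have hZc : Z ≤ centralizer (Y : Set G) :=
    hK Z (inf_le_left.trans hFY) (hCn hYF) (hCn hAF)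
      (fun u hu v hv => (mem_centralizer_iff.1 hv.2 u hu.1))
  have hFA : ⁅F, A⁆ ≤ Z :=
    le_inf (commutator_le_left hAF) (commutator_eq_bot_iff_le_centralizer.1 hNF')
  set H := normalizer (F : Set G) ⊓ normalizer (Z : Set G) with hH
  let S : Submonoid G :=
    { carrier := {g | g ∈ H ∧ ∀ x ∈ F, ⁅g, x⁆ ∈ Z}
      one_mem' := ⟨one_mem H, fun x _ => by rw [commutatorElement_one_left]; exact one_mem Z⟩
      mul_mem' := fun {g k} hg hk => ⟨H.mul_mem hg.1 hk.1, fun x hx => by
        have e : ⁅g * k, x⁆ = g * ⁅k, x⁆ * g⁻¹ * ⁅g, x⁆ := by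
          simp only [commutatorElement_def]; group
        rw [e]
        exact Z.mul_mem (conj_mem_of_mem_normalizer hg.1.2 (hk.2 x hx)) (hg.2 x hx)⟩ }
  have hSA : ∀ a ∈ A, a ∈ S := fun a ha => ⟨⟨hAF ha, hCn hAF ha⟩, fun x hx => by
    rw [← commutatorElement_inv]
    exact Z.inv_mem (hFA (commutator_mem_commutator hx ha))⟩
  have hYS : ⁅Y, F⁆ ≤ Z := by
    have h1 : ⁅Y, A⁆ ≤ Subgroup.closure (S : Set G) := by
      rw [commutator_le]
      intro y hy a ha
      refine Subgroup.subset_closure ?_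
      have hconj : y * a * y⁻¹ ∈ S := by
        refine ⟨H.mul_mem (H.mul_mem ⟨hYF hy, hCn hYF hy⟩ (hSA a ha).1)
          (H.inv_mem ⟨hYF hy, hCn hYF hy⟩), fun x hx => ?_⟩
        have e : ⁅y * a * y⁻¹, x⁆ = y * ⁅a, y⁻¹ * x * y⁆ * y⁻¹ := by
          simp only [commutatorElement_def]; group
        rw [e]
        refine conj_mem_of_mem_normalizer (hCn hYF hy) ((hSA a ha).2 _ ?_)
        simpa using conj_mem_of_mem_normalizer (hYF (Y.inv_mem hy)) hx
      rw [commutatorElement_def]
      exact S.mul_mem hconj (hSA a⁻¹ (A.inv_mem ha))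
    have h2 : Subgroup.closure (S : Set G) ≤
        { S with
          inv_mem' := fun {g} hg => by
            obtain ⟨m, hm⟩ : ∃ m : ℕ, g ^ m = g⁻¹ :=
              ⟨orderOf g - 1, eq_inv_of_mul_eq_one_left (by
                rw [← pow_succ, Nat.sub_add_cancel (orderOf_pos g), pow_orderOf_eq_one])⟩
            rw [← hm]
            exact S.pow_mem hg m : Subgroup G } :=
      (Subgroup.closure_le _).2 fun g hg => hg
    rw [commutator_le]
    intro y hy x hx
    exact ((h2 (h1 (hYA.symm ▸ hy))).2 x hx)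
  have hYY : ⁅Y, Y⁆ ≤ centralizer (Y : Set G) := by
    have h1 : ⁅⁅Y, F⁆, Y⁆ = ⊥ := commutator_eq_bot_iff_le_centralizer.2 (hYS.trans hZc)
    have h2 : ⁅⁅Y, Y⁆, F⁆ = ⊥ := by
      refine commutator_commutator_eq_bot_of_rotate h1 ?_
      rw [commutator_comm F]
      exact h1
    have h3 : ⁅Y, Y⁆ ≤ centralizer (F : Set G) := commutator_eq_bot_iff_le_centralizer.1 h2
    exact (le_inf ((le_inf Y.commutator_le_self h3).trans hCF) h3).trans hZc
  refine ⟨⁅⁅Y, A⁆, Y⁆, by rw [hYA]; exact Y.commutator_le_self, fun e => ?_,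
    le_normalizer_commutator' (normalizer_commutator_ge_left _ _) le_normalizer,
    le_normalizer_commutator' (normalizer_commutator_ge_right _ _) h.norm,
    (inf_le_inf_left _ hAB).trans (class_two_case h le_rfl h.norm hYY)⟩
  rw [hYA] at e
  exact hFab (le_bot_iff.1 (e ▸ commutator_mono hFY hFY))

/-- Fixed points of `B` are generated. -/
theorem fixed_le_gen (h : Hyp A B Y) (hYA : ⁅Y, A⁆ = Y) :
    Y ⊓ centralizer (B : Set G) ≤ gen A B Y := by
  suffices ∀ n, Below.{u} n from this _ G A B Y h hYA (Nat.lt_succ_self _)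
  intro n
  induction n with
  | zero => intro H _ _ A B Y _ _ hlt; omega
  | succ n ih =>
    intro H _ _ A B Y h hYA hlt
    have ih' : Below.{u} (Nat.card Y) := fun H' _ _ A' B' Y' h' hYA' hlt' =>
      ih H' A' B' Y' h' hYA' (by omega)
    by_cases hY : Y = ⊥
    · rw [hY]; exact inf_le_left.trans bot_le
    obtain ⟨V, hVY, hV1, hYV, hAV, hfix⟩ := exists_normal (B := B) h hYA hY
    exact step h hYA ih' hVY hV1 hYV hAV (inf_centralizer_le_of_fixed h hVY hAV hfix)

end FixedGen

/-- S1329. -/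
theorem fixed_points_generation (h : Cfsg.Agent.OddChar.OddSolvable.{u}) {G : Type u} [Group G]
    [Finite G] (A B Y : Subgroup G) (hA2 : IsPGroup 2 ↥A) (hAc : IsMulCommutative ↥A) (hB : B ≤ A)
    (hYodd : Odd (Nat.card ↥Y)) (hAY : A ≤ Subgroup.normalizer (Y : Set G)) (hYA : ⁅Y, A⁆ = Y) :
    Y ⊓ Subgroup.centralizer (B : Set G) =
      ⨆ B₀ : {B₀ : Subgroup G // B₀ ≤ B ∧ ∀ [(B₀.subgroupOf B).Normal],
          IsCyclic (↥B ⧸ B₀.subgroupOf B)},
        Y ⊓ Subgroup.centralizer (B : Set G) ⊓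
          ⁅Y ⊓ Subgroup.centralizer ((B₀ : Subgroup G) : Set G), A⁆ := by
  refine le_antisymm ?_ (iSup_le fun B₀ => inf_le_left)
  have hh : FixedGen.Hyp A B Y := by
    refine ⟨fun a ha a' ha' => congrArg Subtype.val (hAc.is_comm.comm ⟨a, ha⟩ ⟨a', ha'⟩), hB, hAY,
      ?_, h ↥Y hYodd⟩
    haveI : Fact (Nat.Prime 2) := ⟨Nat.prime_two⟩
    obtain ⟨k, hk⟩ := hA2.exists_card_eq
    rw [hk]
    exact Nat.Coprime.pow_left _ (Nat.coprime_two_left.2 hYodd)
  refine (FixedGen.fixed_le_gen hh hYA).trans (iSup_le fun B₀ => ?_)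
  obtain ⟨B₀, hle, b, hb, hsup⟩ := B₀
  refine le_iSup_of_le (⟨B₀, hle, fun {hn} => ?_⟩ : {B₀ : Subgroup G // B₀ ≤ B ∧
    ∀ [(B₀.subgroupOf B).Normal], IsCyclic (↥B ⧸ B₀.subgroupOf B)}) le_rfl
  haveI := hn
  refine ⟨⟨(QuotientGroup.mk' (B₀.subgroupOf B) ⟨b, hb⟩), fun q => ?_⟩⟩
  obtain ⟨⟨x, hx⟩, rfl⟩ := QuotientGroup.mk'_surjective _ q
  have hn' : Subgroup.zpowers b ≤ Subgroup.normalizer (B₀ : Set G) := by
    refine Subgroup.zpowers_le.2 ((Subgroup.centralizer_le_normalizer _)
      (Subgroup.mem_centralizer_iff.2 fun c hc => hh.comm c (hB (hle hc)) b (hB hb)))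
  obtain ⟨u, hu, w, hw, huw⟩ := (SolvBasic.mem_sup_iff_of_le_normalizer hn').1 (hsup hx)
  obtain ⟨i, rfl⟩ := Subgroup.mem_zpowers_iff.1 hw
  refine ⟨i, ?_⟩
  have e : (⟨x, hx⟩ : ↥B) = ⟨u, hle hu⟩ * ⟨b, hb⟩ ^ i := Subtype.ext (by simp [huw])
  have h1 : QuotientGroup.mk' (B₀.subgroupOf B) ⟨u, hle hu⟩ = 1 := by
    rw [QuotientGroup.mk'_apply, QuotientGroup.eq_one_iff]
    exact hu
  show (QuotientGroup.mk' (B₀.subgroupOf B) ⟨b, hb⟩) ^ i = _
  rw [e, map_mul, map_zpow, h1, one_mul]

end Cfsg.Agent.OddDown
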