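import Cfsg.Agent.Lib.OddDown.CoreSeparatedBasic
import Cfsg.Agent.Lib.OddDown.FixedGen

/-!
The signalizer functor of two core-separated four-groups, given solvability of groups of odd order
(S1330).
-/

set_option autoImplicit false
set_option linter.style.haveILetI false

namespace Cfsg.Agent.OddDown

universe u

namespace CoreSep

open Subgroup Cfsg.Agent.Components Cfsg.Agent.BpBalance
open scoped commutatorElement

attribute [local instance] FittingCores.pPrimeCore_normal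

variable {G : Type u} [Group G]

/-- The hypotheses on the two four-groups. -/
structure CS (A A₁ A₂ : Subgroup G) : Prop where
  comm : ∀ a ∈ A, ∀ b ∈ A, a * b = b * a
  sq : ∀ a ∈ A, a ^ 2 = 1
  le₁ : A₁ ≤ A
  le₂ : A₂ ≤ A
  card₁ : Nat.card A₁ = 4
  card₂ : Nat.card A₂ = 4
  dec : ∀ a ∈ A, ∃ a₁ ∈ A₁, ∃ a₂ ∈ A₂, a = a₁ * a₂
  sep : ∀ a ∈ A, a ≠ 1 → ∀ E : Subgroup ↥(centralizer ({a} : Set G)), Cfsg.IsPComponent 2 E →
    ⁅E.map (centralizer ({a} : Set G)).subtype, A₁⁆ ≤ Cfsg.centralizerPPrimeCore 2 a ∨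
      ⁅E.map (centralizer ({a} : Set G)).subtype, A₂⁆ ≤ Cfsg.centralizerPPrimeCore 2 a

theorem CS.symm {A A₁ A₂ : Subgroup G} (c : CS A A₁ A₂) : CS A A₂ A₁ where
  comm := c.comm
  sq := c.sq
  le₁ := c.le₂
  le₂ := c.le₁
  card₁ := c.card₂
  card₂ := c.card₁
  dec a ha := by
    obtain ⟨a₁, h₁, a₂, h₂, rfl⟩ := c.dec a ha
    exact ⟨a₂, h₂, a₁, h₁, c.comm a₁ (c.le₁ h₁) a₂ (c.le₂ h₂)⟩
  sep a ha ha1 E hE := (c.sep a ha ha1 E hE).symm

variable [Finite G] {A A₁ A₂ : Subgroup G}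

/-- `O(C(A₁))`. -/
abbrev Q (A₁ : Subgroup G) : Subgroup G :=
  (Cfsg.pPrimeCore 2 ↥(centralizer (A₁ : Set G))).map (centralizer (A₁ : Set G)).subtype

/-- The first factor of `θ a`. -/
abbrev factor (A₁ : Subgroup G) (a : G) : Subgroup G :=
  ⁅Cfsg.centralizerPPrimeCore 2 a, A₁⁆ ⊔ (Cfsg.centralizerPPrimeCore 2 a ⊓ Q A₁)

theorem CS.le_centralizer (c : CS A A₁ A₂) {a : G} (ha : a ∈ A) :
    A ≤ centralizer ({a} : Set G) := fun b hb =>
  mem_centralizer_singleton_iff.2 (c.comm b hb a ha)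

theorem CS.le_normalizer_core (c : CS A A₁ A₂) {a : G} (ha : a ∈ A) :
    A ≤ normalizer (Cfsg.centralizerPPrimeCore 2 a : Set G) :=
  (c.le_centralizer ha).trans (core_props a).2.1

theorem CS.isPGroup (c : CS A A₁ A₂) : IsPGroup 2 A :=
  fun x => ⟨1, Subtype.ext (by simpa using c.sq x x.2)⟩

theorem CS.cop (c : CS A A₁ A₂) {a : G} {X : Subgroup G} (hX : X ≤ A) :
    (Nat.card X).Coprime (Nat.card (Cfsg.centralizerPPrimeCore 2 a)) := by
  haveI : Fact (Nat.Prime 2) := ⟨Nat.prime_two⟩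
  obtain ⟨k, hk⟩ := IsPGroup.iff_card.1 (c.isPGroup.to_le hX)
  rw [hk]
  exact ((core_props a).2.2.symm).pow_left k

theorem CS.solvable (c : CS A A₁ A₂) {X : Subgroup G} (hX : X ≤ A) : Group.IsSolvable X :=
  Group.isSolvable_of_comm fun u v => Subtype.ext (c.comm u (hX u.2) v (hX v.2))

theorem CS.factor_le (c : CS A A₁ A₂) {a : G} (ha : a ∈ A) :
    factor A₁ a ≤ Cfsg.centralizerPPrimeCore 2 a :=
  sup_le (CoprimeAct.commutator_le_left (c.le₁.trans (c.le_normalizer_core ha))) inf_le_left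

theorem Q_normalized : centralizer (A₁ : Set G) ≤ normalizer (Q A₁ : Set G) := by
  haveI := Cfsg.Agent.PBasic.pPrimeCore_characteristic 2 ↥(centralizer (A₁ : Set G))
  exact AxB.le_normalizer_map_subtype inferInstance

theorem CS.le_normalizer_factor (c : CS A A₁ A₂) {a : G} (ha : a ∈ A) :
    A ≤ normalizer (factor A₁ a : Set G) := by
  have hO := c.le_normalizer_core ha
  have hAC : A ≤ centralizer (A₁ : Set G) := fun b hb =>
    mem_centralizer_iff.2 fun x hx => c.comm x (c.le₁ hx) b hb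
  have hAA : A ≤ normalizer (A₁ : Set G) := hAC.trans (centralizer_le_normalizer _)
  exact (le_inf (FixedGen.le_normalizer_commutator' hO hAA)
    ((le_inf hO (hAC.trans Q_normalized)).trans inf_normalizer_le_normalizer_inf)).trans
    (normalizer_inf_normalizer_le_normalizer_sup _ _)

/-- `[z, x]` centralises a component that `z` normalises and `x` centralises. -/
theorem commutator_le_centralizer {X : Type*} [Group X] {L Z P : Subgroup X}
    (hZ : Z ≤ normalizer (L : Set X)) (hP : P ≤ centralizer (L : Set X)) :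
    ⁅Z, P⁆ ≤ centralizer (L : Set X) := by
  rw [commutator_le]
  intro z hz x hx
  rw [commutatorElement_def]
  refine mul_mem ?_ ((centralizer (L : Set X)).inv_mem (hP hx))
  have hn : normalizer (L : Set X) ≤ normalizer (centralizer (L : Set X) : Set X) :=
    (normal_subgroupOf_iff_le_normalizer (centralizer_le_normalizer _)).1 inferInstance
  exact CoprimeAct.conj_mem_of_mem_normalizer (hn (hZ hz)) (hP hx)

/-- Elements of `[O_a ∩ C(e), A₁]` fixed by `A₁` lie in `O(C(A₁))`. -/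
theorem CS.piece_le (c : CS A A₁ A₂) {a e : G} (ha : a ∈ A) (he : e ∈ A₁) (he1 : e ≠ 1) {y : G}
    (hy : y ∈ ⁅Cfsg.centralizerPPrimeCore 2 a ⊓ centralizer ({e} : Set G), A₁⁆)
    (hyC : y ∈ centralizer (A₁ : Set G)) : y ∈ Q A₁ := by
  classical
  haveI : Fact (Nat.Prime 2) := ⟨Nat.prime_two⟩
  set O := Cfsg.centralizerPPrimeCore 2 a with hO
  set Z := O ⊓ centralizer ({e} : Set G) with hZ
  set H := centralizer (A₁ : Set G) with hH
  set H₂ := centralizer ({e} : Set G) with hH₂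
  have hAH : A ≤ H := fun b hb => mem_centralizer_iff.2 fun x hx => c.comm x (c.le₁ hx) b hb
  have hAH₂ : A ≤ H₂ := c.le_centralizer (c.le₁ he)
  have hHH₂ : H ≤ H₂ := centralizer_le (Set.singleton_subset_iff.2 he)
  have hZA : A₁ ≤ normalizer (Z : Set G) :=
    c.le₁.trans ((le_inf (c.le_normalizer_core ha) (hAH₂.trans le_normalizer)).trans
      inf_normalizer_le_normalizer_inf)
  have hyZ : y ∈ Z := CoprimeAct.commutator_le_left hZA hy
  have hyO : y ∈ O := hyZ.1
  refine ⟨⟨y, hyC⟩, mem_core (hAH ha) (c.sq a ha) hyO hyC fun L hL => ?_, rfl⟩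
  -- the component `L` of `C(A₁) ⧸ O(C(A₁))`
  by_cases hne : ⁅L, zpowers (q H ⟨a, hAH ha⟩)⁆ = L
  swap
  · intro l hl
    rw [mem_centralizer_singleton_iff]
    exact (mem_centralizer_iff.1
      (commutator_eq_bot_iff_le_centralizer.1 (commute_of_ne (hAH ha) (c.sq a ha) hL hne) hl)
      _ (mem_im hyO hyC)).symm
  rw [← hne, commutator_le]
  intro l hl w hw
  obtain ⟨hcomp, hmap⟩ := exists_pComponent (p := 2) L hL
  set K := pGen 2 (L.comap (q H)) with hK
  obtain ⟨m, hm, rfl⟩ : ∃ m ∈ K, q H m = l := hmap.ge hl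
  obtain ⟨i, rfl⟩ := mem_zpowers_iff.1 hw
  rw [← map_zpow, ← map_commutatorElement, mem_centralizer_singleton_iff, ← map_mul, ← map_mul]
  set w : ↥H := (⟨a, hAH ha⟩ : ↥H) ^ i with hw'
  have hwA : (w : G) ∈ A := by simpa [hw'] using zpow_mem ha i
  -- it is enough that `[m, w, y]` lies in `O(C(e))`
  suffices hkey : ⁅⁅(m : G), (w : G)⁆, y⁆ ∈ Cfsg.centralizerPPrimeCore 2 e by
    have hmemH : (⁅⁅m, w⁆, (⟨y, hyC⟩ : ↥H)⁆ : ↥H) ∈ Cfsg.pPrimeCore 2 ↥H := by
      have hN : ((Cfsg.centralizerPPrimeCore 2 e).subgroupOf H).Normal := ⟨fun v hv g => by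
        have hg : (g : G) ∈ normalizer (Cfsg.centralizerPPrimeCore 2 e : Set G) :=
          (core_props e).2.1 (hHH₂ g.2)
        exact (mem_normalizer_iff.1 hg (v : G)).1 hv⟩
      refine Cfsg.Agent.PBasic.le_pPrimeCore hN ?_
        (show _ ∈ (Cfsg.centralizerPPrimeCore 2 e).subgroupOf H from hkey)
      refine Nat.Coprime.coprime_dvd_left (dvd_trans (dvd_of_eq ?_)
        (card_dvd_of_le (inf_le_left : Cfsg.centralizerPPrimeCore 2 e ⊓ H ≤ _))) (core_props e).2.2
      rw [← inf_subgroupOf_right, Nat.card_congr (subgroupOfEquivOfLe inf_le_right).toEquiv]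
    have h1 := (QuotientGroup.eq_one_iff (N := Cfsg.pPrimeCore 2 ↥H) _).2 hmemH
    have h2 : q H ⁅⁅m, w⁆, (⟨y, hyC⟩ : ↥H)⁆ = 1 := h1
    rw [map_commutatorElement, commutatorElement_eq_one_iff_mul_comm] at h2
    rw [map_mul, map_mul]
    exact h2
  -- work in `C(e) ⧸ O(C(e))`
  set P₁ := im H₂ A₁ with hP₁
  set P₂ := im H₂ A₂ with hP₂
  have hMle : K.map H.subtype ≤ (Cfsg.pLayer 2 ↥H₂).map H₂.subtype := by
    set R := A₁.subgroupOf H₂ with hR
    have hRp : IsPGroup 2 R :=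
      (c.isPGroup.to_le c.le₁).comap_of_injective H₂.subtype H₂.subtype_injective
    have hCR : centralizer (R : Set ↥H₂) = H.subgroupOf H₂ := by
      ext v
      constructor
      · intro hv
        exact mem_centralizer_iff.2 fun x hx =>
          congrArg Subtype.val (mem_centralizer_iff.1 hv ⟨x, hAH₂ (c.le₁ hx)⟩ hx)
      · intro hv
        exact mem_centralizer_iff.2 fun x hx => Subtype.ext (mem_centralizer_iff.1 hv (x : G) hx)
    have h1 : PCIn 2 ((K.map H.subtype).comap H₂.subtype) (H.comap H₂.subtype) :=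
      (pcin_of_comp hcomp).comap_inj H₂.subtype H₂.subtype_injective
        (by rw [range_subtype]; exact (map_subtype_le K).trans hHH₂)
    have h2 : (K.map H.subtype).subgroupOf H₂ ≤ Cfsg.pLayer 2 ↥H₂ := by
      refine le_trans ?_ (LBalance.pLayer_centralizer_le_two hRp)
      have h1' : PCIn 2 ((K.map H.subtype).subgroupOf H₂) (centralizer (R : Set ↥H₂)) := by
        rw [hCR]; exact h1
      rw [← map_subgroupOf_eq_of_le h1'.le]
      exact map_mono (le_sSup h1'.toComp)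
    rw [← map_subgroupOf_eq_of_le ((map_subtype_le K).trans hHH₂)]
    exact map_mono h2
  obtain ⟨m', hm', hmm⟩ := hMle (mem_map_of_mem H.subtype hm)
  have hlay : q H₂ m' ∈ Cfsg.layer (↥H₂ ⧸ Cfsg.pPrimeCore 2 ↥H₂) := by
    rw [← map_pLayer]
    exact mem_map_of_mem _ hm'
  -- the components centralised by `A₁`, and the others
  set E₁ : Subgroup (↥H₂ ⧸ Cfsg.pPrimeCore 2 ↥H₂) :=
    ⨆ L : {L : Subgroup (↥H₂ ⧸ Cfsg.pPrimeCore 2 ↥H₂) //
      Cfsg.IsComponent L ∧ L ≤ centralizer (P₁ : Set _)}, L.1 with hE₁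
  set E₂ : Subgroup (↥H₂ ⧸ Cfsg.pPrimeCore 2 ↥H₂) :=
    ⨆ L : {L : Subgroup (↥H₂ ⧸ Cfsg.pPrimeCore 2 ↥H₂) //
      Cfsg.IsComponent L ∧ ¬ L ≤ centralizer (P₁ : Set _)}, L.1 with hE₂
  have hE₁P : E₁ ≤ centralizer (P₁ : Set _) := iSup_le fun L => L.2.2
  have hE₂P : E₂ ≤ centralizer (P₂ : Set _) := iSup_le fun ⟨L, hL, hL1⟩ => by
    obtain ⟨hcomp', hmap'⟩ := exists_pComponent (p := 2) L hL
    set K' := pGen 2 (L.comap (q H₂))
    have tr : ∀ {X : Subgroup G}, X ≤ A →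
        ⁅K'.map H₂.subtype, X⁆ ≤ Cfsg.centralizerPPrimeCore 2 e →
        L ≤ centralizer ((im H₂ X : Subgroup _) : Set (↥H₂ ⧸ Cfsg.pPrimeCore 2 ↥H₂)) := by
      intro X hX hle
      rw [← hmap', ← commutator_eq_bot_iff_le_centralizer, ← map_commutator,
        Subgroup.map_eq_bot_iff, QuotientGroup.ker_mk']
      refine (map_le_map_iff_of_injective H₂.subtype_injective).1 ?_
      rw [map_commutator, map_subgroupOf_eq_of_le (hX.trans hAH₂)]
      exact hle
    rcases c.sep e (c.le₁ he) he1 K' hcomp' with h | h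
    · exact absurd (tr c.le₁ h) hL1
    · exact tr c.le₂ h
  have h12 : ⁅E₁, E₂⁆ = ⊥ := by
    rw [commutator_eq_bot_iff_le_centralizer]
    refine iSup_le fun L => ?_
    rw [← commutator_eq_bot_iff_le_centralizer, commutator_comm, commutator_eq_bot_iff_le_centralizer]
    refine iSup_le fun M => ?_
    rw [← commutator_eq_bot_iff_le_centralizer]
    exact components_commute M.2.1 L.2.1 fun h => M.2.2 (h ▸ L.2.2)
  have hsup : Cfsg.layer (↥H₂ ⧸ Cfsg.pPrimeCore 2 ↥H₂) ≤ E₁ ⊔ E₂ := layer_le_iff.2 fun L hL => by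
    by_cases h1 : L ≤ centralizer (P₁ : Set _)
    · exact le_sup_of_le_left (le_iSup_of_le
        (⟨L, hL, h1⟩ : {L // Cfsg.IsComponent L ∧ L ≤ centralizer (P₁ : Set _)}) le_rfl)
    · exact le_sup_of_le_right (le_iSup_of_le
        (⟨L, hL, h1⟩ : {L // Cfsg.IsComponent L ∧ ¬ L ≤ centralizer (P₁ : Set _)}) le_rfl)
  obtain ⟨m₁, hm₁, m₂, hm₂, hm12⟩ := mem_sup_of_commute h12 (hsup hlay)
  set w' : ↥H₂ := ⟨(w : G), hAH₂ hwA⟩ with hw''
  -- `w` normalises `E₁` and centralises `m₂`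
  have hwE : q H₂ w' ∈ normalizer (E₁ : Set _) := by
    have hwc : q H₂ w' ∈ centralizer (P₁ : Set _) := by
      rw [mem_centralizer_iff]
      rintro _ ⟨x, hx, rfl⟩
      rw [← map_mul, ← map_mul]
      exact congrArg (q H₂) (Subtype.ext (c.comm _ (c.le₁ hx) _ hwA))
    set g := q H₂ w'
    have hle : E₁.map (MulAut.conj g).toMonoidHom ≤ E₁ := by
      rw [hE₁, Subgroup.map_iSup]
      refine iSup_le fun L => ?_
      refine le_iSup_of_le (⟨L.1.map (MulAut.conj g).toMonoidHom, component_conj L.2.1 g, ?_⟩ :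
        {L // Cfsg.IsComponent L ∧ L ≤ centralizer (P₁ : Set _)}) le_rfl
      rintro _ ⟨l, hl, rfl⟩
      show g * l * g⁻¹ ∈ _
      exact mul_mem (mul_mem hwc (L.2.2 hl)) (inv_mem hwc)
    rw [mem_normalizer_iff_map_conj_eq]
    exact eq_of_le_of_card_ge hle (card_map_of_injective (MulAut.conj g).injective).ge
  have hm₂w : m₂ * q H₂ w' = q H₂ w' * m₂ := by
    obtain ⟨w₁, hw₁, w₂, hw₂, hww⟩ := c.dec _ hwA
    have e1 : q H₂ w' = q H₂ ⟨w₁, hAH₂ (c.le₁ hw₁)⟩ * q H₂ ⟨w₂, hAH₂ (c.le₂ hw₂)⟩ := by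
      rw [← map_mul]
      exact congrArg (q H₂) (Subtype.ext hww)
    have hc2 := mem_centralizer_iff.1 (hE₂P hm₂) _
      (mem_im (H := H₂) hw₂ (hAH₂ (c.le₂ hw₂)))
    have hm'c : q H₂ m' ∈ centralizer (P₁ : Set _) := by
      rw [mem_centralizer_iff]
      rintro _ ⟨x, hx, rfl⟩
      rw [← map_mul, ← map_mul]
      refine congrArg (q H₂) (Subtype.ext ?_)
      show (x : G) * (m' : G) = m' * x
      rw [show (m' : G) = m from hmm]
      exact mem_centralizer_iff.1 m.2 _ hx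
    have hm₂c : m₂ ∈ centralizer (P₁ : Set _) := by
      have : m₂ = m₁⁻¹ * q H₂ m' := by rw [← hm12, inv_mul_cancel_left]
      rw [this]
      exact mul_mem (inv_mem (hE₁P hm₁ : m₁ ∈ centralizer (P₁ : Set (↥H₂ ⧸ Cfsg.pPrimeCore 2 ↥H₂)))) hm'c
    have hc1 := mem_centralizer_iff.1 hm₂c _ (mem_im (H := H₂) hw₁ (hAH₂ (c.le₁ hw₁)))
    rw [e1]
    exact ((show Commute m₂ _ from hc1.symm).mul_right (show Commute m₂ _ from hc2.symm)).eq
  have hmw : ⁅q H₂ m', q H₂ w'⁆ ∈ E₁ := by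
    have e : ⁅q H₂ m', q H₂ w'⁆ = ⁅m₁, q H₂ w'⁆ := by
      rw [← hm12]
      calc ⁅m₁ * m₂, q H₂ w'⁆
          = m₁ * (m₂ * q H₂ w' * m₂⁻¹) * m₁⁻¹ * (q H₂ w')⁻¹ := by
            rw [commutatorElement_def]; group
        _ = _ := by rw [hm₂w, mul_inv_cancel_right, commutatorElement_def]
    rw [e, commutatorElement_def, mul_assoc, mul_assoc, ← mul_assoc (q H₂ w')]
    exact E₁.mul_mem hm₁ (CoprimeAct.conj_mem_of_mem_normalizer hwE (E₁.inv_mem hm₁))
  -- `y` centralises `E₁`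
  have hyE : q H₂ ⟨y, hHH₂ hyC⟩ ∈ centralizer (E₁ : Set _) := by
    have hle : E₁ ≤ centralizer {q H₂ ⟨y, hHH₂ hyC⟩} := iSup_le fun L => by
      have hZn : im H₂ Z ≤ normalizer (L.1 : Set _) :=
        (map_mono (comap_mono inf_le_left)).trans (core_le_normalizer_component (hAH₂ ha) (c.sq a ha) L.2.1)
      have hP : P₁ ≤ centralizer (L.1 : Set _) := by
        rw [← commutator_eq_bot_iff_le_centralizer, commutator_comm,
          commutator_eq_bot_iff_le_centralizer]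
        exact L.2.2
      have hmem : q H₂ ⟨y, hHH₂ hyC⟩ ∈ ⁅im H₂ Z, P₁⁆ := by
        rw [← map_commutator]
        refine mem_map_of_mem _ ?_
        have hy' : y ∈ (⁅Z.subgroupOf H₂, A₁.subgroupOf H₂⁆).map H₂.subtype := by
          rw [map_commutator, map_subgroupOf_eq_of_le inf_le_right,
            map_subgroupOf_eq_of_le (c.le₁.trans hAH₂)]
          exact hy
        obtain ⟨y', hy', hyy⟩ := hy'
        have : y' = (⟨y, hHH₂ hyC⟩ : ↥H₂) := Subtype.ext hyy
        exact this ▸ hy'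
      intro l hl
      exact mem_centralizer_singleton_iff.2
        (mem_centralizer_iff.1 (commutator_le_centralizer hZn hP hmem) l hl)
    exact mem_centralizer_iff.2 fun l hl => mem_centralizer_singleton_iff.1 (hle hl)
  have hone : q H₂ ⁅⁅m', w'⁆, (⟨y, hHH₂ hyC⟩ : ↥H₂)⁆ = 1 := by
    rw [map_commutatorElement, commutatorElement_eq_one_iff_mul_comm, map_commutatorElement]
    exact mem_centralizer_iff.1 hyE _ hmw
  refine ⟨⁅⁅m', w'⁆, (⟨y, hHH₂ hyC⟩ : ↥H₂)⁆, (QuotientGroup.eq_one_iff _).1 hone, ?_⟩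
  simp only [map_commutatorElement]
  rw [show (H₂.subtype m') = (m : G) from hmm]
  rfl

/-- The fixed points of `A₁` in the first factor. -/
theorem CS.factor_inf_le (h : Cfsg.Agent.OddChar.OddSolvable.{u}) (c : CS A A₁ A₂) {a : G}
    (ha : a ∈ A) : factor A₁ a ⊓ centralizer (A₁ : Set G) ≤ Q A₁ := by
  haveI : Fact (Nat.Prime 2) := ⟨Nat.prime_two⟩
  set O := Cfsg.centralizerPPrimeCore 2 a with hO
  have hOn : A₁ ≤ normalizer (O : Set G) := c.le₁.trans (c.le_normalizer_core ha)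
  set Y := ⁅O, A₁⁆ with hY
  have hYO : Y ≤ O := CoprimeAct.commutator_le_left hOn
  have hYA : ⁅Y, A₁⁆ = Y :=
    CoprimeAct.commutator_commutator hOn (c.cop c.le₁) (Or.inl (c.solvable c.le₁))
  have hodd : Odd (Nat.card Y) :=
    Nat.coprime_two_left.1 (((core_props a).2.2.coprime_dvd_left (card_dvd_of_le hYO)).symm)
  have hh : FixedGen.Hyp A₁ A₁ Y := ⟨fun u hu v hv => c.comm u (c.le₁ hu) v (c.le₁ hv), le_rfl,
    normalizer_commutator_ge_right _ _, (c.cop c.le₁).coprime_dvd_right (card_dvd_of_le hYO),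
    h ↥Y hodd⟩
  have hYQ : Y ⊓ centralizer (A₁ : Set G) ≤ Q A₁ := by
    refine (FixedGen.fixed_le_gen hh hYA).trans (iSup_le fun B₀ => ?_)
    obtain ⟨B₀, hle, b, hb, hsup⟩ := B₀
    obtain ⟨e, he, he1⟩ : ∃ e ∈ B₀, e ≠ 1 := by
      refine B₀.bot_or_exists_ne_one.resolve_left fun hb0 => ?_
      rw [hb0, bot_sup_eq] at hsup
      have h1 := Subgroup.card_le_of_le hsup
      have h2 : Nat.card (zpowers b) ≤ 2 := by
        rw [Nat.card_zpowers]
        exact orderOf_le_of_pow_eq_one (by norm_num) (c.sq b (c.le₁ hb))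
      have := c.card₁
      omega
    rintro y ⟨⟨-, hyC⟩, hyW⟩
    refine c.piece_le ha (hle he) he1 ?_ hyC
    exact commutator_mono (inf_le_inf hYO (centralizer_le (Set.singleton_subset_iff.2 he))) le_rfl hyW
  intro v hv
  obtain ⟨d, hd, r, hr, rfl⟩ := (SolvBasic.mem_sup_iff_of_le_normalizer
    (inf_le_left.trans (normalizer_commutator_ge_left O A₁))).1 hv.1
  have hrC : r ∈ centralizer (A₁ : Set G) := map_subtype_le _ hr.2
  have hdC : d ∈ centralizer (A₁ : Set G) := by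
    simpa using mul_mem hv.2 ((centralizer (A₁ : Set G)).inv_mem hrC)
  exact mul_mem (hYQ ⟨hd, hdC⟩) hr.2

/-- The first factor fixed by `b` centralises the components of `C(b) ⧸ O(C(b))` centralised by
`A₁`. -/
theorem CS.centralizes (h : Cfsg.Agent.OddChar.OddSolvable.{u}) (c : CS A A₁ A₂) {a : G}
    (ha : a ∈ A) {H : Subgroup G} (hAH : A ≤ H)
    {L : Subgroup (↥H ⧸ Cfsg.pPrimeCore 2 ↥H)} (hL : Cfsg.IsComponent L)
    (hL1 : L ≤ centralizer (im H A₁ : Set _)) :
    im H (factor A₁ a ⊓ H) ≤ centralizer (L : Set _) := by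
  haveI : Fact (Nat.Prime 2) := ⟨Nat.prime_two⟩
  set U := factor A₁ a ⊓ H with hU
  have hUO : U ≤ Cfsg.centralizerPPrimeCore 2 a := inf_le_left.trans (c.factor_le ha)
  have hUn : A₁ ≤ normalizer (U : Set G) := c.le₁.trans
    ((le_inf (c.le_normalizer_factor ha) (hAH.trans le_normalizer)).trans
      inf_normalizer_le_normalizer_inf)
  have hUL : im H U ≤ normalizer (L : Set _) :=
    (map_mono (comap_mono hUO)).trans (core_le_normalizer_component (hAH ha) (c.sq a ha) hL)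
  have hA1L : im H A₁ ≤ centralizer (L : Set _) := by
    rw [← commutator_eq_bot_iff_le_centralizer, commutator_comm, commutator_eq_bot_iff_le_centralizer]
    exact hL1
  rintro _ ⟨⟨u, huH⟩, hu, rfl⟩
  obtain ⟨d, hd, r, hr, hur⟩ := CoprimeAct.exists_commutator_mul hUn
    ((c.cop c.le₁).coprime_dvd_right (card_dvd_of_le hUO)) (Or.inl (c.solvable c.le₁))
    (show u ∈ U from hu)
  have hdU : d ∈ U := CoprimeAct.commutator_le_left hUn hd
  have hrH : r ∈ H := hr.1.2
  have e : q H ⟨u, huH⟩ = q H ⟨d, hdU.2⟩ * q H ⟨r, hrH⟩ := by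
    rw [← map_mul]
    exact congrArg (q H) (Subtype.ext hur)
  rw [e]
  refine mul_mem (commutator_le_centralizer hUL hA1L ?_) ?_
  · rw [← map_commutator]
    refine mem_map_of_mem _ ?_
    have hd' : d ∈ (⁅U.subgroupOf H, A₁.subgroupOf H⁆).map H.subtype := by
      rw [map_commutator, map_subgroupOf_eq_of_le inf_le_right,
        map_subgroupOf_eq_of_le (c.le₁.trans hAH)]
      exact hd
    obtain ⟨d', hd', hdd⟩ := hd'
    have : d' = (⟨d, hdU.2⟩ : ↥H) := Subtype.ext hdd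
    exact this ▸ hd'
  -- the part fixed by `A₁`
  have hrQ : r ∈ Q A₁ := c.factor_inf_le h ha ⟨hr.1.1, hr.2⟩
  set N := im H (Q A₁) with hN
  have hLN : L ≤ normalizer (N : Set _) := by
    have hker : (Nat.card (q H).ker).Coprime 2 := by
      rw [QuotientGroup.ker_mk']
      exact FittingCores.pPrimeCore_coprime 2
    refine hL1.trans ?_
    refine le_trans (CoprimeQuotient.centralizer_map (q H) (QuotientGroup.mk'_surjective _) hker
      ((c.isPGroup.to_le c.le₁).comap_of_injective H.subtype H.subtype_injective)).le ?_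
    refine (map_mono ?_).trans (le_normalizer_map (q H))
    intro g hg
    have hgC : (g : G) ∈ centralizer (A₁ : Set G) := mem_centralizer_iff.2 fun x hx =>
      congrArg Subtype.val (mem_centralizer_iff.1 hg ⟨x, hAH (c.le₁ hx)⟩ hx)
    rw [mem_normalizer_iff]
    exact fun v => mem_normalizer_iff.1 (Q_normalized hgC) (v : G)
  have hNc : (Nat.card N).Coprime 2 := by
    refine Nat.Coprime.coprime_dvd_left (card_map_dvd _ _) ?_
    refine Nat.Coprime.coprime_dvd_left (dvd_trans (dvd_of_eq ?_)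
      (card_dvd_of_le (inf_le_left : Q A₁ ⊓ H ≤ _))) ?_
    · rw [← inf_subgroupOf_right, Nat.card_congr (subgroupOfEquivOfLe inf_le_right).toEquiv]
    · rw [card_map_of_injective (centralizer (A₁ : Set G)).subtype_injective]
      exact FittingCores.pPrimeCore_coprime 2
  have hrN : q H ⟨r, hrH⟩ ∈ N := mem_im hrQ hrH
  have hrL : q H ⟨r, hrH⟩ ∈ normalizer (L : Set _) := hUL (mem_im hr.1 hrH)
  have hsol : Group.IsSolvable N := h ↥N (Nat.coprime_two_left.1 hNc.symm)
  exact commutator_eq_bot_iff_le_centralizer.1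
    (by rw [commutator_comm]; exact component_commute_solvable hL hsol hLN) hrN

/-- The hypotheses from core separation. -/
theorem cs_of {A₁ A₂ : Subgroup G} (hcs : Cfsg.IsCoreSeparated A₁ A₂) :
    CS (A₁ ⊔ A₂) A₁ A₂ := by
  obtain ⟨⟨hc1, he1⟩, ⟨hc2, he2⟩, h41, h42, -, -, hcomm, hsep⟩ := hcs
  have h12 : ⁅A₁, A₂⁆ = ⊥ := commutator_eq_bot_iff_le_centralizer.2 fun x hx =>
    mem_centralizer_iff.2 fun y hy => (hcomm x hx y hy).symm
  have hdec : ∀ a ∈ A₁ ⊔ A₂, ∃ a₁ ∈ A₁, ∃ a₂ ∈ A₂, a = a₁ * a₂ := fun a ha => by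
    obtain ⟨x, hx, y, hy, e⟩ := mem_sup_of_commute h12 ha
    exact ⟨x, hx, y, hy, e.symm⟩
  have k1 : ∀ x ∈ A₁, ∀ y ∈ A₁, Commute x y := fun x hx y hy =>
    congrArg Subtype.val (hc1.is_comm.comm ⟨x, hx⟩ ⟨y, hy⟩)
  have k2 : ∀ x ∈ A₂, ∀ y ∈ A₂, Commute x y := fun x hx y hy =>
    congrArg Subtype.val (hc2.is_comm.comm ⟨x, hx⟩ ⟨y, hy⟩)
  refine ⟨fun a ha b hb => ?_, fun a ha => ?_, le_sup_left, le_sup_right, h41, h42, hdec, hsep⟩
  · obtain ⟨x, hx, y, hy, rfl⟩ := hdec a ha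
    obtain ⟨x', hx', y', hy', rfl⟩ := hdec b hb
    exact (((k1 x hx x' hx').mul_right (hcomm x hx y' hy')).mul_left
      ((show Commute y x' from (hcomm x' hx' y hy).symm).mul_right (k2 y hy y' hy'))).eq
  · obtain ⟨x, hx, y, hy, rfl⟩ := hdec a ha
    rw [(show Commute x y from hcomm x hx y hy).mul_pow, he1 x hx, he2 y hy, one_mul]

/-- Balance for the first factor. -/
theorem CS.balance_factor (h : Cfsg.Agent.OddChar.OddSolvable.{u}) (c : CS A A₁ A₂) {a b : G}
    (ha : a ∈ A) (hb : b ∈ A) {U : Subgroup G} (hU : U ≤ factor A₁ a)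
    (hUb : U ≤ Cfsg.centralizerPPrimeCore 2 b) (hUn : A ≤ normalizer (U : Set G)) :
    U ≤ factor A₁ b := by
  intro u hu
  obtain ⟨d, hd, r, hr, rfl⟩ := CoprimeAct.exists_commutator_mul (c.le₁.trans hUn)
    ((c.cop c.le₁).coprime_dvd_right (card_dvd_of_le hUb)) (Or.inl (c.solvable c.le₁)) hu
  exact mul_mem (mem_sup_left (commutator_mono hUb le_rfl hd))
    (mem_sup_right ⟨hUb hr.1, c.factor_inf_le h ha ⟨hU hr.1, hr.2⟩⟩)

end CoreSep

open CoreSep Subgroup Cfsg.Agent.Components Cfsg.Agent.BpBalance in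
/-- S1330. -/
theorem core_separated_functor (h : Cfsg.Agent.OddChar.OddSolvable.{u}) {G : Type u} [Group G]
    [Finite G] (A₁ A₂ : Subgroup G) (hcs : Cfsg.IsCoreSeparated A₁ A₂) :
    Cfsg.IsSignalizerFunctor 2 (A₁ ⊔ A₂) (fun a =>
      (⁅Cfsg.centralizerPPrimeCore 2 a, A₁⁆ ⊔ (Cfsg.centralizerPPrimeCore 2 a ⊓
        ((Cfsg.oddCore ↥(Subgroup.centralizer ((A₁ : Subgroup G) : Set G))).map
          (Subgroup.centralizer ((A₁ : Subgroup G) : Set G)).subtype))) ⊓
      (⁅Cfsg.centralizerPPrimeCore 2 a, A₂⁆ ⊔ (Cfsg.centralizerPPrimeCore 2 a ⊓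
        ((Cfsg.oddCore ↥(Subgroup.centralizer ((A₂ : Subgroup G) : Set G))).map
          (Subgroup.centralizer ((A₂ : Subgroup G) : Set G)).subtype)))) := by
  haveI : Fact (Nat.Prime 2) := ⟨Nat.prime_two⟩
  have c := cs_of hcs
  set A := A₁ ⊔ A₂
  have hle : ∀ a ∈ A, factor A₁ a ⊓ factor A₂ a ≤ Cfsg.centralizerPPrimeCore 2 a := fun a ha =>
    inf_le_left.trans (c.factor_le ha)
  refine ⟨fun a ha _ => (hle a ha).trans (core_props a).1, fun a ha _ h2 => ?_,
    fun a ha _ b hb x hx => ⟨CoprimeAct.conj_mem_of_mem_normalizer (c.le_normalizer_factor ha hb) hx.1,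
      CoprimeAct.conj_mem_of_mem_normalizer (c.symm.le_normalizer_factor ha hb) hx.2⟩,
    fun a ha _ b hb hb1 => ?_⟩
  · exact Nat.prime_two.not_dvd_one
      (((core_props a).2.2.coprime_dvd_left (card_dvd_of_le (hle a ha))) ▸
        Nat.dvd_gcd h2 dvd_rfl)
  set H := Subgroup.centralizer ({b} : Set G) with hH
  set U := factor A₁ a ⊓ factor A₂ a ⊓ H with hU
  have hAH : A ≤ H := c.le_centralizer hb
  have hUn : A ≤ Subgroup.normalizer (U : Set G) :=
    (le_inf ((le_inf (c.le_normalizer_factor ha) (c.symm.le_normalizer_factor ha)).trans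
      inf_normalizer_le_normalizer_inf) (hAH.trans le_normalizer)).trans
      inf_normalizer_le_normalizer_inf
  have hUb : U ≤ Cfsg.centralizerPPrimeCore 2 b := by
    intro u hu
    refine ⟨⟨u, hu.2⟩, mem_core (hAH ha) (c.sq a ha) (hle a ha hu.1) hu.2 fun L hL => ?_, rfl⟩
    obtain ⟨hcomp, hmap⟩ := exists_pComponent (p := 2) L hL
    have tr : ∀ {X : Subgroup G}, X ≤ A →
        ⁅(pGen 2 (L.comap (q H))).map H.subtype, X⁆ ≤ Cfsg.centralizerPPrimeCore 2 b →
        L ≤ Subgroup.centralizer ((im H X : Subgroup _) : Set _) := by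
      intro X hX hle'
      haveI := FittingCores.pPrimeCore_normal (G := ↥H) 2
      rw [← hmap, ← commutator_eq_bot_iff_le_centralizer, ← map_commutator,
        Subgroup.map_eq_bot_iff, QuotientGroup.ker_mk']
      refine (map_le_map_iff_of_injective H.subtype_injective).1 ?_
      rw [map_commutator, map_subgroupOf_eq_of_le (hX.trans hAH)]
      exact hle'
    intro l hl
    rw [mem_centralizer_singleton_iff]
    rcases c.sep b hb hb1 _ hcomp with h1 | h1
    · exact mem_centralizer_iff.1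
        (c.centralizes h ha hAH hL (tr c.le₁ h1) (mem_im (X := factor A₁ a ⊓ H) ⟨hu.1.1, hu.2⟩ hu.2)) l hl
    · exact mem_centralizer_iff.1
        (c.symm.centralizes h ha hAH hL (tr c.le₂ h1) (mem_im (X := factor A₂ a ⊓ H) ⟨hu.1.2, hu.2⟩ hu.2)) l hl
  exact le_inf (c.balance_factor h ha hb (inf_le_left.trans inf_le_left) hUb hUn)
    (c.symm.balance_factor h ha hb (inf_le_left.trans inf_le_right) hUb hUn)

end Cfsg.Agent.OddDown
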