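import Cfsg.Agent.Lib.OddDown.FixedGenBasic

/-!
Coprime action of an abelian group: the averaging step of the generation of fixed points.
-/

set_option autoImplicit false

namespace Cfsg.Agent.OddDown.FixedGen

open Subgroup
open scoped commutatorElement
open Cfsg.Agent.CoprimeAct

variable {G : Type*} [Group G]

theorem le_normalizer_commutator' {X H K : Subgroup G} (hH : X ≤ normalizer (H : Set G))
    (hK : X ≤ normalizer (K : Set G)) : X ≤ normalizer ((⁅H, K⁆ : Subgroup G) : Set G) := by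
  intro a ha
  rw [mem_normalizer_iff_map_conj_eq, map_commutator, mem_normalizer_iff_map_conj_eq.1 (hH ha),
    mem_normalizer_iff_map_conj_eq.1 (hK ha)]

variable [Finite G] {A B Y : Subgroup G}

/-- The averaging map on an invariant abelian subgroup. -/
theorem exists_avg (h : Hyp A B Y) {M : Subgroup G} (hM : M ≤ Y)
    (hMA : A ≤ normalizer (M : Set G)) (hab : ∀ u ∈ M, ∀ v ∈ M, u * v = v * u) :
    ∃ P : ↥M →* ↥M, (∀ v, (P v : G) ∈ centralizer (B : Set G)) ∧
      (∀ v : ↥M, (v : G) ∈ centralizer (B : Set G) → (P v : G) = (v : G) ^ Nat.card B) ∧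
      (∀ b ∈ B, ∀ v w : ↥M, (w : G) = b * v * b⁻¹ → P w = P v) ∧
      (∀ W : Subgroup G, B ≤ normalizer (W : Set G) → ∀ v : ↥M, (v : G) ∈ W → (P v : G) ∈ W) := by
  classical
  have := Fintype.ofFinite B
  haveI : IsMulCommutative ↥M := IsMulCommutative.of_comm fun u v => Subtype.ext (hab u u.2 v v.2)
  open scoped IsMulCommutative in
  let c : B → ↥M →* ↥M := fun b =>
    { toFun := fun v => ⟨(b : G) * v * (b : G)⁻¹,
        conj_mem_of_mem_normalizer (hMA (h.le b.2)) v.2⟩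
      map_one' := Subtype.ext (by simp)
      map_mul' := fun u v => Subtype.ext (by simp [mul_assoc]) }
  open scoped IsMulCommutative in
  let P : ↥M →* ↥M := ∏ b : B, c b
  have hP : ∀ v, P v = ∏ b : B, c b v := fun v => MonoidHom.finsetProd_apply ..
  have hcc : ∀ (b b' : B) v, c b (c b' v) = c (b * b') v := fun b b' v =>
    Subtype.ext (by simp [c, mul_assoc])
  have hinv : ∀ (b : B) v, P (c b v) = P v := fun b v => by
    open scoped IsMulCommutative in
    simp only [hP, hcc]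
    exact Equiv.prod_comp (Equiv.mulRight b) fun b' => c b' v
  refine ⟨P, fun v => ?_, fun v hv => ?_, fun b hb v w hw => ?_, fun W hW v hv => ?_⟩
  · rw [mem_centralizer_iff]
    intro b hb
    have h1 : c ⟨b, hb⟩ (P v) = P v := by
      open scoped IsMulCommutative in
      rw [hP, map_prod]
      simp only [hcc]
      exact Equiv.prod_comp (Equiv.mulLeft (⟨b, hb⟩ : B)) fun b' => c b' v
    exact mul_inv_eq_iff_eq_mul.1 (congrArg Subtype.val h1)
  · have h1 : P v = v ^ Nat.card B := by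
      open scoped IsMulCommutative in
      rw [hP, Nat.card_eq_fintype_card, ← Finset.card_univ, ← Finset.prod_const]
      exact Finset.prod_congr rfl fun b _ =>
        Subtype.ext (conj_eq_of_commute (mem_centralizer_iff.1 hv b b.2))
    rw [h1, Subgroup.coe_pow]
  · rw [show w = c ⟨b, hb⟩ v from Subtype.ext hw, hinv]
  · open scoped IsMulCommutative in
    rw [hP]
    have : ∏ b : B, c b v ∈ W.subgroupOf M :=
      Subgroup.prod_mem _ fun b _ => conj_mem_of_mem_normalizer (hW b.2) hv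
    exact this

theorem pow_card_mem (h : Hyp A B Y) {H : Subgroup G} {v : G} (hv : v ∈ Y)
    (hp : v ^ Nat.card B ∈ H) : v ∈ H := by
  have hc : (Nat.card B).Coprime (orderOf v) :=
    (h.copSub h.le le_rfl).coprime_dvd_right (Y.orderOf_dvd_natCard hv)
  obtain ⟨k, hk⟩ := exists_pow_eq_self_of_coprime hc
  rw [← hk]
  exact pow_mem hp k

/-- An abelian invariant subgroup has its fixed points in `gen` if it is generated by commutators
with elements of the `[C_Y(B₀), A]`. -/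
theorem inf_centralizer_le (h : Hyp A B Y) {M : Subgroup G} (hM : M ≤ Y)
    (hMA : A ≤ normalizer (M : Set G)) (hab : ∀ u ∈ M, ∀ v ∈ M, u * v = v * u)
    (hgen : ∀ E : Subgroup G,
      (∀ U : Subgroup G, U ≤ Y → A ≤ normalizer (U : Set G) →
        (∀ u ∈ U, ∀ m ∈ M, u * m = m * u) → ∀ B₀, Good B B₀ →
        ∀ x ∈ ⁅Y ⊓ centralizer (B₀ : Set G), A⁆, (∀ u ∈ U, ⁅u, x⁆ ∈ M) →
          ∀ u ∈ U, ⁅u, x⁆ ∈ E) → M ≤ E) :
    M ⊓ centralizer (B : Set G) ≤ gen A B Y := by
  obtain ⟨P, hPc, hPp, hPi, hPW⟩ := exists_avg h hM hMA hab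
  set E : Subgroup G := (((gen A B Y).subgroupOf M).comap P).map M.subtype with hE
  have hmem : ∀ {m : G} (hm : m ∈ M), (P ⟨m, hm⟩ : G) ∈ gen A B Y → m ∈ E :=
    fun hm hg => ⟨⟨_, hm⟩, hg, rfl⟩
  have hME : M ≤ E := by
    refine hgen E fun U hU hUA hUM B₀ hB₀ x hx hxM u hu => ?_
    have hcomm : ∀ v ∈ U, ∀ w ∈ U, ⁅v * w, x⁆ = ⁅v, x⁆ * ⁅w, x⁆ := by
      intro v hv w hw
      rw [hab _ (hxM v hv) _ (hxM w hw),
        show ⁅v * w, x⁆ = v * ⁅w, x⁆ * v⁻¹ * ⁅v, x⁆ by simp only [commutatorElement_def]; group,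
        hUM v hv _ (hxM w hw), mul_inv_cancel_right]
    let ψ : ↥U →* ↥M :=
      MonoidHom.mk' (fun v => ⟨⁅(v : G), x⁆, hxM v v.2⟩)
        (fun v w => Subtype.ext (hcomm v v.2 w w.2))
    have hB₀A : B₀ ≤ A := hB₀.1.trans h.le
    have hC0A := norm_fixed h hB₀A
    have hxC : x ∈ Y ⊓ centralizer (B₀ : Set G) := commutator_le_left hC0A hx
    -- `[U, B₀]` is killed
    have hkill : ⁅U, B₀⁆ ≤ (P.comp ψ).ker.map U.subtype := by
      rw [commutator_le]
      intro v hv b hb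
      have hbv : b * v⁻¹ * b⁻¹ ∈ U :=
        conj_mem_of_mem_normalizer (hUA (hB₀A hb)) (inv_mem hv)
      refine ⟨⟨v, hv⟩ * ⟨_, hbv⟩, ?_, ?_⟩
      · rw [SetLike.mem_coe, MonoidHom.mem_ker, map_mul, MonoidHom.comp_apply, MonoidHom.comp_apply,
          hPi b (hB₀.1 hb) (ψ (⟨v, hv⟩⁻¹)) (ψ ⟨_, hbv⟩) ?_, map_inv, map_inv, mul_inv_cancel]
        show ⁅b * v⁻¹ * b⁻¹, x⁆ = b * ⁅v⁻¹, x⁆ * b⁻¹
        have hbx : b * x * b⁻¹ = x := conj_eq_of_commute (mem_centralizer_iff.1 hxC.2 b hb)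
        conv_lhs => rw [← hbx]
        simp only [commutatorElement_def]
        group
      · simp [commutatorElement_def, mul_assoc]
    obtain ⟨d, hd, c, hc, rfl⟩ := exists_commutator_mul (hB₀A.trans hUA)
      (h.copSub hB₀A hU) (Or.inr (@SolvBasic.isSolvable_of_le G _ _ Y hU h.sol)) hu
    obtain ⟨d', hd', rfl⟩ := hkill hd
    refine hmem (hxM _ hu) ?_
    have hcW : ⁅c, x⁆ ∈ ⁅Y ⊓ centralizer (B₀ : Set G), A⁆ := by
      rw [commutatorElement_def]
      exact mul_mem (conj_mem_of_mem_normalizer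
        (normalizer_commutator_ge_left _ _ ⟨hU hc.1, hc.2⟩) hx) (inv_mem hx)
    have e : (⟨⁅(U.subtype d') * c, x⁆, hxM _ hu⟩ : ↥M) = ψ d' * ψ ⟨c, hc.1⟩ :=
      Subtype.ext (hcomm _ d'.2 c hc.1)
    rw [SetLike.mem_coe, MonoidHom.mem_ker, MonoidHom.comp_apply] at hd'
    rw [e, map_mul, hd', one_mul]
    refine mem_gen hB₀ (hM (P _).2) (hPc _) (hPW _ ?_ _ hcW)
    exact h.le.trans (normalizer_commutator_ge_right _ _)
  rintro m ⟨hm, hmc⟩
  obtain ⟨m', hm', rfl⟩ := hME hm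
  exact pow_card_mem h (hM hm) (hPp m' hmc ▸ hm')

/-- Commutators of `Y` with an invariant abelian subgroup. -/
theorem abelian_commutator_case (h : Hyp A B Y) (hYA : ⁅Y, A⁆ = Y) {K : Subgroup G} (hK : K ≤ Y)
    (hKY : Y ≤ normalizer (K : Set G)) (hKA : A ≤ normalizer (K : Set G))
    (hab : ∀ u ∈ K, ∀ v ∈ K, u * v = v * u) :
    ⁅K, Y⁆ ⊓ centralizer (B : Set G) ≤ gen A B Y := by
  have hle : ⁅K, Y⁆ ≤ K := commutator_le_left hKY
  refine inf_centralizer_le h (hle.trans hK) (le_normalizer_commutator' hKA h.norm)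
    (fun u hu v hv => hab u (hle hu) v (hle hv)) fun E hE => ?_
  let T : Submonoid G :=
    { carrier := {y | y ∈ Y ∧ ∀ k ∈ K, ⁅k, y⁆ ∈ E}
      one_mem' := ⟨one_mem Y, fun k _ => by rw [commutatorElement_one_right]; exact one_mem E⟩
      mul_mem' := fun {y z} hy hz => ⟨Y.mul_mem hy.1 hz.1, fun k hk => by
        have h1 : ⁅k, z⁆ ∈ K := hle (commutator_mem_commutator hk hz.1)
        have e : ⁅k, y * z⁆ = ⁅k, y⁆ * (⁅k, z⁆ * ⁅⁅k, z⁆⁻¹, y⁆) := by
          simp only [commutatorElement_def]; group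
        rw [e]
        exact E.mul_mem (hy.2 k hk) (E.mul_mem (hz.2 k hk) (hy.2 _ (K.inv_mem h1)))⟩ }
  let T' : Subgroup G :=
    { T with
      inv_mem' := fun {y} hy => by
        obtain ⟨n, hn⟩ : ∃ n : ℕ, y ^ n = y⁻¹ := by
          exact ⟨orderOf y - 1, eq_inv_of_mul_eq_one_left (by
            rw [← pow_succ, Nat.sub_add_cancel (orderOf_pos y), pow_orderOf_eq_one])⟩
        rw [← hn]
        exact T.pow_mem hy n }
  have hYT : Y ≤ T' := le_of_good_commutator h hYA fun B₀ hB₀ x hx =>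
    ⟨(commutator_le_left h.norm) ((commutator_mono inf_le_left le_rfl) hx), fun k hk =>
      hE K hK hKA (fun u hu m hm => hab u hu m (hle hm)) B₀ hB₀ x hx
        (fun u hu => commutator_mem_commutator hu
          ((commutator_le_left h.norm) ((commutator_mono inf_le_left le_rfl) hx))) k hk⟩
  rw [commutator_le]
  exact fun k hk y hy => (hYT hy).2 k hk

/-- The class two case. -/
theorem class_two_case (h : Hyp A B Y) {F : Subgroup G} (hF : F ≤ Y)
    (hFA : A ≤ normalizer (F : Set G)) (hcen : ⁅F, F⁆ ≤ centralizer (Y : Set G)) :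
    ⁅⁅F, A⁆, F⁆ ⊓ centralizer (B : Set G) ≤ gen A B Y := by
  set N := ⁅F, A⁆ with hN
  have hNF : N ≤ F := commutator_le_left hFA
  have hM : ⁅N, F⁆ ≤ ⁅F, F⁆ := commutator_mono hNF le_rfl
  have hFFY : ⁅F, F⁆ ≤ Y := F.commutator_le_self.trans hF
  have hz : ∀ m ∈ ⁅N, F⁆, ∀ y ∈ Y, y * m = m * y := fun m hm y hy =>
    mem_centralizer_iff.1 (hcen (hM hm)) y hy
  have hNA : A ≤ normalizer (N : Set G) := normalizer_commutator_ge_right _ _
  refine inf_centralizer_le h (hM.trans hFFY) (le_normalizer_commutator' hNA hFA)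
    (fun u hu v hv => hz v hv u (hFFY (hM hu))) fun E hE => ?_
  let T : Submonoid G :=
    { carrier := {y | y ∈ N ∧ ∀ f ∈ F, ⁅y, f⁆ ∈ E}
      one_mem' := ⟨one_mem N, fun f _ => by rw [commutatorElement_one_left]; exact one_mem E⟩
      mul_mem' := fun {y z} hy hz' => ⟨N.mul_mem hy.1 hz'.1, fun f hf => by
        have e : ⁅y * z, f⁆ = y * ⁅z, f⁆ * y⁻¹ * ⁅y, f⁆ := by
          simp only [commutatorElement_def]; group
        rw [e, hz _ (commutator_mem_commutator hz'.1 hf) y (hF (hNF hy.1)), mul_inv_cancel_right]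
        exact E.mul_mem (hz'.2 f hf) (hy.2 f hf)⟩ }
  let T' : Subgroup G :=
    { T with
      inv_mem' := fun {y} hy => by
        obtain ⟨n, hn⟩ : ∃ n : ℕ, y ^ n = y⁻¹ := by
          exact ⟨orderOf y - 1, eq_inv_of_mul_eq_one_left (by
            rw [← pow_succ, Nat.sub_add_cancel (orderOf_pos y), pow_orderOf_eq_one])⟩
        rw [← hn]
        exact T.pow_mem hy n }
  have hh : Hyp A B N := h.mono (hNF.trans hF) hNA
  have hNN : ⁅N, A⁆ = N := commutator_commutator hFA (h.copSub le_rfl hF)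
    (Or.inr (@SolvBasic.isSolvable_of_le G _ _ Y hF h.sol))
  have hNT : N ≤ T' := le_of_good_commutator hh hNN fun B₀ hB₀ x hx => by
    have hxN : x ∈ N := (commutator_le_left hNA) ((commutator_mono inf_le_left le_rfl) hx)
    refine ⟨hxN, fun f hf => ?_⟩
    rw [← commutatorElement_inv]
    refine E.inv_mem (hE F hF hFA (fun u hu m hm => hz m hm u (hF hu)) B₀ hB₀ x
      ((commutator_mono (inf_le_inf_right _ (hNF.trans hF)) le_rfl) hx) (fun u hu => ?_) f hf)
    rw [commutator_comm]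
    exact commutator_mem_commutator hu hxN
  rw [commutator_le]
  exact fun y hy f hf => (hNT hy).2 f hf

end Cfsg.Agent.OddDown.FixedGen
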