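import Cfsg.Agent.Lib.OddDown.FixSylow
import Cfsg.Agent.Lib.OddChar.Iface
import Cfsg.Agent.Lib.TwoGroups.NormalFour
import Mathlib.GroupTheory.SemidirectProduct
import Mathlib.GroupTheory.Transfer

/-!
The automorphisms of a group with trivial odd core fixing a Sylow 2-subgroup pointwise (S0227).
-/

set_option autoImplicit false
set_option linter.style.haveILetI false
set_option linter.unusedSectionVars false

namespace Cfsg.Agent.OddDown

open Subgroup
open scoped commutatorElement

universe u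

variable {G : Type u} [Group G] [Finite G]

/-- The setting of `FixSylow` in the semidirect product. -/
theorem fix_contradiction (hO : ∀ N : Subgroup G, N.Normal → Odd (Nat.card N) → N = ⊥) (S : Sylow 2 G)
    (C : Subgroup (MulAut G)) (hC : ∀ φ ∈ C, ∀ s : G, s ∈ S → φ s = s) (T : Subgroup C) (hT : IsPGroup 2 T)
    {τ : C} (hτ : τ ∈ T) (hτc : ∀ q ∈ T, q * τ = τ * q) (hτ2 : orderOf τ = 2)
    (h : τ ∈ ⁅T, T⁆ ∨ ∃ c ∈ normalizer (T : Set C), ∃ q₀ ∈ T, τ = c * q₀ * c⁻¹ * q₀⁻¹) : False := by
  haveI : Fact (Nat.Prime 2) := ⟨Nat.prime_two⟩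
  haveI : Finite (MulAut G) := Finite.of_injective (fun e => ⇑e) fun _ _ e => MulEquiv.ext (congrFun e)
  haveI : Finite (G ⋊[C.subtype] C) := Finite.of_equiv _ SemidirectProduct.equivProd.symm
  set il : G →* G ⋊[C.subtype] C := SemidirectProduct.inl
  set ir : C →* G ⋊[C.subtype] C := SemidirectProduct.inr
  have hil : Function.Injective il := SemidirectProduct.inl_injective
  have hir : Function.Injective ir := SemidirectProduct.inr_injective
  have hcomm : ∀ (c : C), ∀ s ∈ (S : Subgroup G), ir c * il s = il s * ir c := by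
    intro c s hs
    have e : il ((C.subtype c) s) = ir c * il s * ir c⁻¹ := SemidirectProduct.inl_aut c s
    rw [show C.subtype c s = s from hC c c.2 s hs, map_inv, eq_mul_inv_iff_mul_eq] at e
    exact e.symm
  have hd : FixSylow.Setup il.range ((S : Subgroup G).map il) (T.map ir) := by
    refine ⟨?_, map_le_range _ _, S.isPGroup'.map _, ?_, hT.map _, ?_, ?_⟩
    · show (SemidirectProduct.inl : G →* G ⋊[C.subtype] C).range.Normal
      rw [SemidirectProduct.range_inl_eq_ker_rightHom]
      infer_instance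
    · rw [MonoidHom.range_eq_map, relIndex_map_map_of_injective _ _ hil, relIndex_top_right]
      exact S.not_dvd_index
    · rw [eq_bot_iff]
      rintro _ ⟨⟨g, rfl⟩, q, -, e⟩
      have h1 := congrArg SemidirectProduct.right e
      simp only [il, ir, SemidirectProduct.right_inl, SemidirectProduct.right_inr] at h1
      rw [mem_bot, ← e, h1, map_one]
    · rintro _ ⟨s, hs, rfl⟩ _ ⟨q, -, rfl⟩
      exact (hcomm q s hs).symm
  have htc : ∀ q ∈ T.map ir, q * ir τ = ir τ * q := by
    rintro _ ⟨q, hq, rfl⟩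
    rw [← map_mul, hτc q hq, map_mul]
  have hnf : ∀ s, FixSylow.Fused il.range ((S : Subgroup G).map il) (ir τ) s → s = 1 := by
    rcases h with h | ⟨c, hc, q₀, hq₀, he⟩
    · exact FixSylow.not_fused_of_commutator hd (mem_map_of_mem ir hτ) htc
        (by rw [← map_commutator]; exact mem_map_of_mem ir h)
    · refine FixSylow.not_fused_of_outer hd (mem_map_of_mem ir hτ) htc (c := ir c) (q₀ := ir q₀) ?_
        (le_normalizer_map ir (mem_map_of_mem ir hc)) (mem_map_of_mem ir hq₀) ?_
      · rintro _ ⟨s, hs, rfl⟩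
        exact hcomm c s hs
      · rw [he, map_mul, map_mul, map_mul, map_inv, map_inv]
  have hcen := FixSylow.centralizes hd (mem_map_of_mem ir hτ) htc hnf
    ((orderOf_injective ir hir τ).trans hτ2) (fun K hK hKc => by
      have e := hO (K.comap il.rangeRestrict) (hK.comap _) ?_
      · rw [← map_comap_eq_self_of_surjective il.rangeRestrict_surjective K, e, Subgroup.map_bot]
      · rw [← Nat.coprime_two_right]
        refine hKc.coprime_dvd_left (dvd_of_eq ?_)
        rw [Nat.card_congr (equivMapOfInjective (K.comap il.rangeRestrict) il.rangeRestrict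
            (MonoidHom.rangeRestrict_injective_iff.2 hil)).toEquiv,
          map_comap_eq_self_of_surjective il.rangeRestrict_surjective])
  have h1 : τ = 1 := by
    refine Subtype.ext (MulEquiv.ext fun g => ?_)
    have e : il ((C.subtype τ) g) = ir τ * il g * ir τ⁻¹ := SemidirectProduct.inl_aut τ g
    rw [← hcen _ ⟨g, rfl⟩, map_inv, mul_inv_cancel_right] at e
    exact hil e
  rw [h1, orderOf_one] at hτ2
  omega

/-- 2-subgroups of automorphisms fixing a Sylow 2-subgroup pointwise are abelian. -/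
theorem fix_abelian (hO : ∀ N : Subgroup G, N.Normal → Odd (Nat.card N) → N = ⊥) (S : Sylow 2 G)
    (C : Subgroup (MulAut G)) (hC : ∀ φ ∈ C, ∀ s : G, s ∈ S → φ s = s) (T : Subgroup C) (hT : IsPGroup 2 T) :
    ∀ a ∈ T, ∀ b ∈ T, a * b = b * a := by
  haveI : Finite (MulAut G) := Finite.of_injective (fun e => ⇑e) fun _ _ e => MulEquiv.ext (congrFun e)
  by_contra hne
  have hbot : _root_.commutator T ≠ ⊥ := by
    intro h
    refine hne fun a ha b hb => ?_
    have h1 : ⁅(⟨a, ha⟩ : T), ⟨b, hb⟩⁆ ∈ _root_.commutator T := by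
      rw [commutator_def]; exact commutator_mem_commutator (mem_top _) (mem_top _)
    rw [h, mem_bot, commutatorElement_eq_one_iff_mul_comm] at h1
    exact congrArg Subtype.val h1
  obtain ⟨z, hz, hz2, hzc⟩ := NormalFour.exists_central_mem hT hbot
  refine fix_contradiction hO S C hC T hT z.2 (fun q hq => ?_) ((Subgroup.orderOf_coe z).trans hz2)
    (Or.inl ?_)
  · exact congrArg Subtype.val (mem_center_iff.1 hzc ⟨q, hq⟩)
  · rw [← map_subtype_commutator]
    exact mem_map_of_mem _ hz

/-- S0227. -/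
theorem aut_fix_sylow (h : OddChar.OddSolvable.{u}) (hO : ∀ N : Subgroup G, N.Normal → Odd (Nat.card N) → N = ⊥)
    (S : Sylow 2 G) (C : Subgroup (MulAut G))
    (hC : ∀ φ : MulAut G, φ ∈ C ↔ ∀ s : G, s ∈ S → φ s = s) :
    (∀ T : Sylow 2 ↥C, (∀ a b : ↥T, a * b = b * a) ∧
      ∃ N : Subgroup ↥C, N.Normal ∧ Subgroup.IsComplement' N (T : Subgroup ↥C)) ∧ Group.IsSolvable ↥C := by
  haveI : Fact (Nat.Prime 2) := ⟨Nat.prime_two⟩
  haveI : Finite (MulAut G) := Finite.of_injective (fun e => ⇑e) fun _ _ e => MulEquiv.ext (congrFun e)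
  have hC' : ∀ φ ∈ C, ∀ s : G, s ∈ S → φ s = s := fun φ hφ => (hC φ).1 hφ
  have hab : ∀ T : Sylow 2 C, ∀ a ∈ (T : Subgroup C), ∀ b ∈ (T : Subgroup C), a * b = b * a :=
    fun T => fix_abelian hO S C hC' T T.isPGroup'
  have hNC : ∀ T : Sylow 2 C, normalizer ((T : Subgroup C) : Set C) ≤ centralizer ((T : Subgroup C) : Set C) := by
    intro T c hc
    haveI : IsMulCommutative (T : Subgroup C) := ⟨⟨fun a b => Subtype.ext (hab T a a.2 b b.2)⟩⟩
    let θ : (T : Subgroup C) →* (T : Subgroup C) :=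
        { toFun := fun q => ⟨c * q * c⁻¹ * (q : C)⁻¹, mul_mem ((mem_normalizer_iff.1 hc _).1 q.2) (inv_mem q.2)⟩
          map_one' := Subtype.ext (by simp)
          map_mul' := fun a b => Subtype.ext (by
            show c * (a * b : C) * c⁻¹ * (a * b : C)⁻¹ = c * a * c⁻¹ * (a : C)⁻¹ * (c * b * c⁻¹ * (b : C)⁻¹)
            have e := hab T (c * b * c⁻¹ * (b : C)⁻¹) (mul_mem ((mem_normalizer_iff.1 hc _).1 b.2) (inv_mem b.2))
              ((a : C)⁻¹) (inv_mem a.2)
            rw [mul_assoc (c * a * c⁻¹), ← e]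
            group) }
    let K : Subgroup (T : Subgroup C) := θ.range
    haveI : K.Normal := ⟨fun k hk m => by
      have e : m * k = k * m := Subtype.ext (hab T _ m.2 _ k.2)
      rwa [e, mul_inv_cancel_right]⟩
    by_cases hK : K = ⊥
    · refine mem_centralizer_iff.2 fun q hq => ?_
      have h1 : (⟨c * q * c⁻¹ * q⁻¹, mul_mem ((mem_normalizer_iff.1 hc _).1 hq) (inv_mem hq)⟩ :
          (T : Subgroup C)) ∈ K := ⟨⟨q, hq⟩, rfl⟩
      rw [hK, mem_bot] at h1
      exact (mul_inv_eq_iff_eq_mul.1 (mul_inv_eq_one.1 (congrArg Subtype.val h1))).symm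
    · exfalso
      obtain ⟨z, ⟨q, hq⟩, hz2, -⟩ := NormalFour.exists_central_mem T.isPGroup' hK
      exact fix_contradiction hO S C hC' T T.isPGroup' z.2 (fun x hx => hab T x hx _ z.2)
        ((Subgroup.orderOf_coe z).trans hz2) (Or.inr ⟨c, hc, q, q.2, (congrArg Subtype.val hq).symm⟩)
  refine ⟨fun T => ⟨fun a b => Subtype.ext (hab T a a.2 b b.2), ?_⟩, ?_⟩
  · exact ⟨(MonoidHom.transferSylow T (hNC T)).ker, inferInstance,
      MonoidHom.ker_transferSylow_isComplement' T (hNC T)⟩
  · obtain ⟨T⟩ : Nonempty (Sylow 2 C) := inferInstance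
    haveI : IsMulCommutative (T : Subgroup C) := ⟨⟨fun a b => Subtype.ext (hab T a a.2 b b.2)⟩⟩
    set f := MonoidHom.transferSylow T (hNC T)
    haveI := h f.ker (by
      rw [← Nat.not_even_iff_odd, even_iff_two_dvd]
      exact MonoidHom.not_dvd_card_ker_transferSylow T (hNC T))
    haveI := T.isPGroup'.isNilpotent
    exact Group.isSolvable_of_ker_le_range f.ker.subtype f (by simp)

end Cfsg.Agent.OddDown
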