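import Cfsg.Agent.S5212
import Cfsg.Agent.S0949
import Cfsg.Agent.Lib.Transfer.Fusion
import Cfsg.Agent.Lib.Fusion.Group
import Cfsg.Agent.Lib.FiniteGroup.IndexBasics
import Cfsg.Agent.Lib.OddChar.Iface

/-!
A group whose Sylow 2-subgroup has a cyclic normal subgroup with cyclic quotient of order at least
four is soluble, given the odd order theorem.
-/

set_option autoImplicit false

namespace Cfsg.Agent.OddDown.MetaSol

open Cfsg Cfsg.Agent

universe u

/-- A cyclic quotient in which all squares vanish has order at most two. -/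
theorem card_quotient_le_two {S : Type*} [Group S] [Finite S] (N : Subgroup S) [N.Normal]
    (hQ : IsCyclic (S ⧸ N)) (h : ∀ s : S, s * s ∈ N) : Nat.card (S ⧸ N) ≤ 2 := by
  have e : Monoid.exponent (S ⧸ N) ∣ 2 := Monoid.exponent_dvd_of_forall_pow_eq_one fun q => by
    obtain ⟨s, rfl⟩ := QuotientGroup.mk'_surjective N q
    rw [← map_pow, QuotientGroup.mk'_apply, QuotientGroup.eq_one_iff, sq]
    exact h s
  rw [hQ.exponent_eq_card] at e
  exact Nat.le_of_dvd (by norm_num) e

theorem dihedral_sq {m : ℕ} {Q : Type*} [CommGroup Q] (f : DihedralGroup m →* Q)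
    (s : DihedralGroup m) : f (s * s) = 1 := by
  rcases s with i | i
  · have h : DihedralGroup.sr 0 * DihedralGroup.r i * DihedralGroup.sr 0 = DihedralGroup.r (-i) := by
      simp [DihedralGroup.sr_mul_r, DihedralGroup.sr_mul_sr]
    have h0 : f (DihedralGroup.sr 0) * f (DihedralGroup.sr 0) = 1 := by
      rw [← map_mul, DihedralGroup.sr_mul_self, map_one]
    have h1 := congrArg f h
    rw [map_mul, map_mul, mul_comm (f (DihedralGroup.sr 0)), mul_assoc, h0, mul_one] at h1
    rw [map_mul]
    nth_rw 2 [h1]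
    rw [← map_mul, DihedralGroup.r_mul_r, add_neg_cancel, DihedralGroup.r_zero, map_one]
  · rw [DihedralGroup.sr_mul_self, map_one]

theorem quaternion_sq {m : ℕ} (hm : Even m) {Q : Type*} [CommGroup Q] (f : QuaternionGroup m →* Q)
    (s : QuaternionGroup m) : f (s * s) = 1 := by
  have key : ∀ i : ZMod (2 * m), f (QuaternionGroup.a i * QuaternionGroup.a i) = 1 := fun i => by
    have h : QuaternionGroup.xa 0 * QuaternionGroup.a i
        = QuaternionGroup.a (-i) * QuaternionGroup.xa 0 := by
      simp [QuaternionGroup.xa_mul_a, QuaternionGroup.a_mul_xa]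
    have h1 := congrArg f h
    rw [map_mul, map_mul, mul_comm] at h1
    rw [map_mul]
    nth_rw 2 [mul_right_cancel h1]
    rw [← map_mul, QuaternionGroup.a_mul_a, add_neg_cancel, QuaternionGroup.a_zero, map_one]
  rcases s with i | i
  · exact key i
  · obtain ⟨k, rfl⟩ := hm
    have h : QuaternionGroup.xa i * QuaternionGroup.xa i
        = QuaternionGroup.a (k : ZMod (2 * (k + k))) * QuaternionGroup.a (k : ZMod (2 * (k + k))) := by
      rw [QuaternionGroup.xa_mul_xa, QuaternionGroup.a_mul_a]
      simp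
    rw [h]
    exact key _

theorem quasiDihedral_sq {S : Type*} [Group S] [Finite S] (hS : Cfsg.IsQuasiDihedral S) {Q : Type*}
    [CommGroup Q] (f : S →* Q) (s : S) : f (s * s) = 1 := by
  obtain ⟨n, hn, hcard, x, y, hx, hy, hyx⟩ := hS
  obtain ⟨j, rfl⟩ : ∃ j, n = j + 3 := ⟨n - 3, by omega⟩
  obtain ⟨e, he⟩ : ∃ e, 2 ^ (j + 3 - 1) - 1 = 2 * e + 1 ∧ Odd e := by
    refine ⟨2 ^ (j + 1) - 1, ?_, ?_⟩
    · have : 1 ≤ 2 ^ (j + 1) := Nat.one_le_two_pow
      rw [show j + 3 - 1 = j + 1 + 1 from rfl, pow_succ]; omega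
    · refine Nat.Even.sub_odd Nat.one_le_two_pow ?_ odd_one
      exact (Nat.even_pow.2 ⟨even_two, by omega⟩)
  rw [he.1] at hyx
  have h1 : f x ^ (2 * e) = 1 := by
    have h := congrArg f hyx
    rw [map_mul, map_mul, map_inv, mul_comm (f y), mul_inv_cancel_right, map_pow, pow_succ] at h
    exact right_eq_mul.1 h
  have hfx : f x ^ 2 = 1 := by
    have h2 : f x ^ (2 ^ (j + 3)) = 1 := by rw [← map_pow, ← hx, pow_orderOf_eq_one, map_one]
    have h3 := pow_gcd_eq_one.2 ⟨h1, h2⟩
    have hg : Nat.gcd (2 * e) (2 ^ (j + 3)) = 2 := by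
      rw [pow_succ', Nat.gcd_mul_left, Nat.Coprime.pow_right _ (Nat.coprime_two_right.2 he.2)]
    rwa [hg] at h3
  have hfy : f y ^ 2 = 1 := by rw [← map_pow, ← hy, pow_orderOf_eq_one, map_one]
  have hidx : (Subgroup.zpowers x).index = 2 := by
    have := (Subgroup.zpowers x).card_mul_index
    rw [Nat.card_zpowers, hx, hcard, pow_succ] at this
    exact Nat.eq_of_mul_eq_mul_left (by positivity) this
  have hyn : y ∉ Subgroup.zpowers x := by
    intro hmem
    obtain ⟨k, hk⟩ := Subgroup.mem_zpowers_iff.1 hmem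
    have hc : y * x = x * y := by rw [← hk]; exact ((Commute.refl x).zpow_left k).eq
    rw [hc, mul_inv_cancel_right, pow_succ, right_eq_mul] at hyx
    have h3 : 2 ^ (j + 3) ∣ 2 * e := hx ▸ orderOf_dvd_of_pow_eq_one hyx
    rw [pow_succ'] at h3
    have h4 : 2 ∣ e := dvd_trans (dvd_pow_self 2 (by omega)) (Nat.dvd_of_mul_dvd_mul_left (by norm_num) h3)
    exact Nat.not_even_iff_odd.2 he.2 (even_iff_two_dvd.2 h4)
  have hz : ∀ t ∈ Subgroup.zpowers x, f t ^ 2 = 1 := by
    intro t ht
    obtain ⟨k, rfl⟩ := Subgroup.mem_zpowers_iff.1 ht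
    rw [map_zpow, ← zpow_natCast, ← zpow_mul, mul_comm, zpow_mul, zpow_natCast, hfx, one_zpow]
  rw [map_mul, ← sq]
  by_cases hs : s ∈ Subgroup.zpowers x
  · exact hz s hs
  · have h4 : s * y ∈ Subgroup.zpowers x :=
      (Subgroup.mul_mem_iff_of_index_two hidx).2 (iff_of_false hs hyn)
    have h5 := hz _ h4
    rwa [map_mul, mul_pow, hfy, mul_one] at h5

/-- A metacyclic group has at most four elements with trivial square, provided it is abelian. -/
theorem card_sq_one_le {S : Type*} [CommGroup S] [Finite S] (N : Subgroup S) (hN : IsCyclic N)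
    (hQ : IsCyclic (S ⧸ N)) : Nat.card {s : S // s ^ 2 = 1} ≤ 4 := by
  classical
  let T : Subgroup S := (powMonoidHom 2 : S →* S).ker
  have hT : ∀ s, s ∈ T ↔ s ^ 2 = 1 := fun s => Iff.rfl
  have two : ∀ (C : Type _) [CommGroup C] [Finite C], IsCyclic C →
      Nat.card {c : C // c ^ 2 = 1} ≤ 2 := fun C _ _ hC => by
    haveI := Fintype.ofFinite C
    rw [Nat.card_eq_fintype_card, Fintype.card_subtype]
    exact hC.card_pow_eq_one_le (by norm_num)
  let f : T →* S ⧸ N := (QuotientGroup.mk' N).comp T.subtype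
  have h1 : Nat.card f.ker ≤ 2 := by
    refine le_trans (Nat.card_le_card_of_injective
      (fun t : f.ker => (⟨⟨((t : T) : S), (QuotientGroup.eq_one_iff _).1 t.2⟩,
        Subtype.ext ((hT _).1 (t : T).2)⟩ : {c : N // c ^ 2 = 1})) fun a b e => ?_) (two N hN)
    exact Subtype.ext (Subtype.ext (congrArg (fun c : {c : N // c ^ 2 = 1} => ((c : N) : S)) e))
  have h2 : Nat.card f.range ≤ 2 := by
    refine le_trans (Nat.card_le_card_of_injective
      (fun q : f.range => (⟨(q : S ⧸ N), by
        obtain ⟨t, ht⟩ := q.2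
        rw [← ht, ← map_pow, show t ^ 2 = 1 from Subtype.ext ((hT _).1 t.2), map_one]⟩ :
          {c : S ⧸ N // c ^ 2 = 1})) fun a b e => ?_) (two _ hQ)
    exact Subtype.ext (congrArg (fun c : {c : S ⧸ N // c ^ 2 = 1} => (c : S ⧸ N)) e)
  have h3 : Nat.card T = Nat.card f.ker * Nat.card f.range := by
    rw [← Subgroup.index_ker, Subgroup.card_mul_index]
  calc Nat.card {s : S // s ^ 2 = 1} = Nat.card T := rfl
    _ ≤ 4 := by rw [h3]; exact Nat.mul_le_mul h1 h2

/-- Homocyclic groups with such a decomposition have rank at most two. -/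
theorem rank_le_two {S : Type*} [Group S] [Finite S] (N : Subgroup S) [N.Normal] (hN : IsCyclic N)
    (hQ : IsCyclic (S ⧸ N)) {n k : ℕ} (hn : 1 ≤ n)
    (e : S ≃* Multiplicative (Fin k → ZMod (2 ^ n))) : k ≤ 2 := by
  classical
  letI : CommGroup S := { (inferInstance : Group S) with
    mul_comm := fun a b => e.injective (by rw [map_mul, map_mul, mul_comm]) }
  have h4 := card_sq_one_le N hN hQ
  let g : (Fin k → Bool) → {s : S // s ^ 2 = 1} := fun b =>
    ⟨e.symm (Multiplicative.ofAdd fun i => if b i then ((2 ^ (n - 1) : ℕ) : ZMod (2 ^ n)) else 0), by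
      rw [← map_pow]
      refine e.symm.map_eq_one_iff.2 ?_
      rw [← ofAdd_nsmul]
      refine ofAdd_eq_one.2 (funext fun i => ?_)
      rw [Pi.smul_apply, Pi.zero_apply]
      split_ifs
      · rw [nsmul_eq_mul, ← Nat.cast_mul, ← pow_succ', Nat.sub_add_cancel hn, ZMod.natCast_self]
      · exact smul_zero 2⟩
  have hg : Function.Injective g := by
    intro b c h
    funext i
    have h' := congrFun (Multiplicative.ofAdd.injective
      (e.symm.injective (congrArg Subtype.val h))) i
    have hne : ((2 ^ (n - 1) : ℕ) : ZMod (2 ^ n)) ≠ 0 := by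
      rw [Ne, ZMod.natCast_eq_zero_iff]
      exact fun hd => absurd (Nat.le_of_dvd (by positivity) hd)
        (not_le.2 (Nat.pow_lt_pow_right (by norm_num) (by omega)))
    cases hb : b i <;> cases hc : c i
    · rfl
    · rw [hb, hc] at h'
      exact absurd h'.symm hne
    · rw [hb, hc] at h'
      exact absurd h' hne
    · rfl
  have h5 := Nat.card_le_card_of_injective g hg
  rw [Nat.card_fun, Nat.card_eq_fintype_card, Fintype.card_bool, Nat.card_eq_fintype_card,
    Fintype.card_fin] at h5
  by_contra hk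
  have : 2 ^ 3 ≤ 2 ^ k := Nat.pow_le_pow_right (by norm_num) (by omega)
  omega

theorem solvable_of_complement (hu : OddChar.OddSolvable.{u}) {G : Type u} [Group G] [Finite G]
    (h : Cfsg.HasNormalPComplement 2 G) : Group.IsSolvable G := by
  haveI : Fact (Nat.Prime 2) := ⟨Nat.prime_two⟩
  haveI := (PBasic.quotient_pPrimeCore_isPGroup h).isNilpotent
  exact FiniteGroup.isSolvable_of_quotient _
    (hu _ (Nat.coprime_two_right.1 (PBasic.pPrimeCore_coprime 2 G))) inferInstance

theorem solvable_of_cyclic (hu : OddChar.OddSolvable.{u}) {G : Type u} [Group G] [Finite G]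
    (S : Sylow 2 G) (hS : IsCyclic (S : Subgroup G)) : Group.IsSolvable G := by
  haveI : Fact (Nat.Prime 2) := ⟨Nat.prime_two⟩
  rcases Nat.even_or_odd (Nat.card G) with he | ho
  · exact solvable_of_complement hu (Fusion.hasNormalPComplement_of_normalizer_le_centralizer S
      (IsCyclic.normalizer_le_centralizer (Nat.minFac_eq_two_iff _ |>.2 he.two_dvd) hS))
  · exact hu G ho

/-- The statement of S4418, given the odd order theorem. -/
theorem soluble (hu : OddChar.OddSolvable.{u}) {G : Type u} [Group G] [Finite G] (S : Sylow 2 G)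
    (N : Subgroup ↥(S : Subgroup G)) [hN : N.Normal] (hNc : IsCyclic N)
    (hQc : IsCyclic (↥(S : Subgroup G) ⧸ N)) (hQ : 2 < Nat.card (↥(S : Subgroup G) ⧸ N)) :
    Group.IsSolvable G := by
  classical
  haveI : Fact (Nat.Prime 2) := ⟨Nat.prime_two⟩
  by_cases hc : IsCyclic (S : Subgroup G)
  · exact solvable_of_cyclic hu S hc
  letI : CommGroup (↥(S : Subgroup G) ⧸ N) := IsCyclic.commGroup
  have bad : (∀ s : ↥(S : Subgroup G), QuotientGroup.mk' N (s * s) = 1) → False := fun h =>
    absurd (card_quotient_le_two N hQc fun s => (QuotientGroup.eq_one_iff _).1 (h s)) (not_le.2 hQ)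
  have hd : ¬ ∃ m : ℕ, Nonempty (↥(S : Subgroup G) ≃* DihedralGroup m) := by
    rintro ⟨m, ⟨e⟩⟩
    refine bad fun s => ?_
    have := dihedral_sq ((QuotientGroup.mk' N).comp e.symm.toMonoidHom) (e s)
    simpa using this
  have hq : ¬ ∃ m : ℕ, Nonempty (↥(S : Subgroup G) ≃* QuaternionGroup m) := by
    rintro ⟨m, ⟨e⟩⟩
    rcases Nat.even_or_odd m with hm | hm
    · refine bad fun s => ?_
      have := quaternion_sq hm ((QuotientGroup.mk' N).comp e.symm.toMonoidHom) (e s)
      simpa using this
    · haveI : NeZero m := ⟨fun h => by rw [h] at hm; exact Nat.not_odd_zero hm⟩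
      obtain ⟨k, hk⟩ := S.isPGroup'.exists_card_eq
      rw [Nat.card_congr e.toEquiv, Nat.card_eq_fintype_card, QuaternionGroup.card] at hk
      have hm1 : m = 1 := by
        obtain ⟨i, -, hi⟩ := (Nat.dvd_prime_pow Nat.prime_two).1
          (show m ∣ 2 ^ k from hk ▸ dvd_mul_left m 4)
        rcases i with _ | i
        · exact hi
        · exact absurd hm (by rw [hi, pow_succ]; exact Nat.not_odd_iff_even.2 (even_two.mul_left _))
      subst hm1
      haveI := QuaternionGroup.quaternionGroup_one_isCyclic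
      exact hc (e.symm.isCyclic.1 inferInstance)
  have hsd : ¬ Cfsg.IsQuasiDihedral ↥(S : Subgroup G) := fun h =>
    bad fun s => quasiDihedral_sq h (QuotientGroup.mk' N) s
  by_cases hh : ∃ n k : ℕ, Nonempty (↥(S : Subgroup G) ≃* Multiplicative (Fin k → ZMod (2 ^ n)))
  · obtain ⟨n, k, ⟨e⟩⟩ := hh
    have hn : 2 ≤ n := by
      by_contra hn
      refine bad fun s => ?_
      suffices s * s = 1 by rw [this, map_one]
      apply e.injective
      rw [map_one, map_mul, ← toAdd_eq_zero, toAdd_mul]
      funext i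
      have hz : ∀ z : ZMod (2 ^ n), z + z = 0 := by
        interval_cases n <;> decide
      exact hz _
    have hk := rank_le_two N hNc hQc (by omega) e
    interval_cases k
    · exact absurd hQ (by
        haveI : Subsingleton ↥(S : Subgroup G) := e.injective.subsingleton
        haveI : Subsingleton (↥(S : Subgroup G) ⧸ N) := Quotient.instSubsingletonQuotient _
        rw [Nat.card_of_subsingleton (1 : ↥(S : Subgroup G) ⧸ N)]; norm_num)
    · let e1 : ↥(S : Subgroup G) ≃* Multiplicative (ZMod (2 ^ n)) :=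
        e.trans (AddEquiv.toMultiplicative
          { Equiv.funUnique (Fin 1) (ZMod (2 ^ n)) with map_add' := fun _ _ => rfl })
      exact absurd (e1.symm.isCyclic.1 inferInstance) hc
    · let e2 : ↥(S : Subgroup G) ≃* Multiplicative (ZMod (2 ^ n) × ZMod (2 ^ n)) :=
        e.trans (AddEquiv.toMultiplicative
          { finTwoArrowEquiv (ZMod (2 ^ n)) with map_add' := fun _ _ => rfl })
      set O := Cfsg.pPrimeCore 2 G with hO
      let π := QuotientGroup.mk' O
      let P : Sylow 2 (G ⧸ O) := S.mapSurjective (QuotientGroup.mk'_surjective O)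
      have hinj : Function.Injective (π.comp (S : Subgroup G).subtype) := by
        rw [injective_iff_map_eq_one]
        intro s hs
        have h1 : (s : G) ∈ O := (QuotientGroup.eq_one_iff _).1 hs
        obtain ⟨i, hi⟩ := S.isPGroup' s
        have h2 : (s : G) ^ (2 ^ i) = 1 := by simpa using congrArg Subtype.val hi
        have h3 : orderOf (s : G) ∣ Nat.card O := Subgroup.orderOf_dvd_natCard _ h1
        have h4 := Nat.eq_one_of_dvd_coprimes ((PBasic.pPrimeCore_coprime 2 G).pow_right i) h3
          (orderOf_dvd_of_pow_eq_one h2)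
        exact Subtype.ext (orderOf_eq_one_iff.1 h4)
      let eP : ↥(P : Subgroup (G ⧸ O)) ≃* ↥(S : Subgroup G) :=
        ((MulEquiv.subgroupCongr (show (π.comp (S : Subgroup G).subtype).range = (P : Subgroup (G ⧸ O))
          by rw [MonoidHom.range_comp, Subgroup.range_subtype]; rfl)).symm.trans
            (MonoidHom.ofInjective hinj).symm)
      obtain ⟨hPn, -, hidx⟩ := Cfsg.Agent.S0949.result P n hn (eP.trans e2) fun M hM hodd => by
        have := PBasic.le_pPrimeCore (p := 2) hM (Nat.coprime_two_right.2 hodd)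
        rw [PBasic.pPrimeCore_quotient_pPrimeCore] at this
        exact le_bot_iff.1 this
      haveI := hPn
      have hq : Group.IsSolvable (G ⧸ O) := by
        haveI := P.isPGroup'.isNilpotent
        refine FiniteGroup.isSolvable_of_quotient (P : Subgroup (G ⧸ O)) inferInstance ?_
        haveI : IsCyclic ((G ⧸ O) ⧸ (P : Subgroup (G ⧸ O))) := by
          rcases hidx with h | h
          · haveI : Subsingleton ((G ⧸ O) ⧸ (P : Subgroup (G ⧸ O))) :=
              (Nat.card_eq_one_iff_unique.1 h).1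
            exact isCyclic_of_subsingleton
          · haveI : Fact (Nat.Prime 3) := ⟨Nat.prime_three⟩
            exact isCyclic_of_prime_card h
        letI := IsCyclic.commGroup (α := (G ⧸ O) ⧸ (P : Subgroup (G ⧸ O)))
        infer_instance
      exact FiniteGroup.isSolvable_of_quotient O
        (hu _ (Nat.coprime_two_right.1 (PBasic.pPrimeCore_coprime 2 G))) hq
  · have hinner := Cfsg.Agent.S5212.result (S := (S : Subgroup G)) S.isPGroup'
      (Cfsg.groupFusionSystem (S : Subgroup G)) (FusionSys.groupFusionSystem_saturated S)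
      ⟨N, hN, hNc, hQc⟩ hh hd hq hsd
    refine solvable_of_complement hu (Fusion.hasNormalPComplement_of_controlsFusion S fun x hx g hg => ?_)
    have hle : Subgroup.zpowers x ≤ (S : Subgroup G) := (Subgroup.zpowers_le).2 hx
    have hmem : (MulAut.conj g).toMonoidHom.comp (Subgroup.zpowers x).subtype ∈
        (Cfsg.groupFusionSystem (S : Subgroup G)).Hom (Subgroup.zpowers x) := by
      refine ⟨hle, fun y => ?_, g, fun y => rfl⟩
      obtain ⟨k, hk⟩ := Subgroup.mem_zpowers_iff.1 y.2
      show g * (y : G) * g⁻¹ ∈ (S : Subgroup G)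
      rw [← hk, ← conj_zpow]
      exact zpow_mem hg k
    rw [hinner] at hmem
    obtain ⟨-, v, hv, he⟩ := hmem
    exact ⟨v, hv, (he ⟨x, Subgroup.mem_zpowers x⟩).symm⟩

end Cfsg.Agent.OddDown.MetaSol
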