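import Cfsg.Agent.Lib.OddChar.Iface
import Cfsg.Agent.Lib.Solvable.SchurZassenhaus
import Cfsg.Prelude.Def_HallClasses

/-!
Consequences of the odd order theorem on Hall subgroups: π-separable groups satisfy D_π and C_π is closed
under extensions.
-/

set_option autoImplicit false
set_option linter.style.haveILetI false
set_option linter.unusedSectionVars false

namespace Cfsg.Agent.OddDown

open scoped Pointwise
open Cfsg.Agent.SolvBasic

universe u

variable {G : Type u} [Group G] [Finite G]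

theorem solvable_or (h : OddChar.OddSolvable.{u}) {A K : Subgroup G}
    (hcop : (Nat.card A).Coprime (Nat.card K)) : Group.IsSolvable A ∨ Group.IsSolvable K := by
  rcases Nat.even_or_odd (Nat.card A) with hA | hA
  · refine Or.inr (h _ ?_)
    rw [← Nat.not_even_iff_odd]
    intro hK
    exact Nat.not_coprime_of_dvd_of_dvd one_lt_two hA.two_dvd hK.two_dvd hcop
  · exact Or.inl (h _ hA)

/-- All prime divisors of `n` lie in `π`. -/
def PiNum (π : Set ℕ) (n : ℕ) : Prop := ∀ q : ℕ, q.Prime → q ∣ n → q ∈ π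

theorem PiNum.dvd {π : Set ℕ} {m n : ℕ} (h : PiNum π n) (hd : m ∣ n) : PiNum π m :=
  fun q hq hqm => h q hq (hqm.trans hd)

theorem PiNum.mul {π : Set ℕ} {m n : ℕ} (hm : PiNum π m) (hn : PiNum π n) : PiNum π (m * n) :=
  fun q hq hd => (hq.dvd_mul.1 hd).elim (hm q hq) (hn q hq)

theorem PiNum.coprime {π : Set ℕ} {m n : ℕ} (hm : PiNum π m) (hn : PiNum πᶜ n) : m.Coprime n :=
  Nat.coprime_of_dvd fun q hq h1 h2 => hn q hq h2 (hm q hq h1)

theorem eq_one_of_pi {π : Set ℕ} {n : ℕ} (h1 : PiNum π n) (h2 : PiNum πᶜ n) : n = 1 :=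
  Nat.eq_one_of_dvd_coprimes (h1.coprime h2) dvd_rfl dvd_rfl

theorem isPiHall_iff {π : Set ℕ} {H : Subgroup G} :
    Cfsg.IsPiHall π H ↔ PiNum π (Nat.card H) ∧ PiNum πᶜ H.index :=
  ⟨fun h => ⟨h.1, fun q hq hd hm => h.2 q hq hm hd⟩, fun h => ⟨h.1, fun q hq hm hd => h.2 q hq hd hm⟩⟩

/-- Hall π-subgroups exist and every π-subgroup lies in a conjugate of each of them. -/
def DP (π : Set ℕ) (G : Type u) [Group G] : Prop :=
  (∃ H : Subgroup G, Cfsg.IsPiHall π H) ∧
    ∀ H U : Subgroup G, Cfsg.IsPiHall π H → PiNum π (Nat.card U) → ∃ g : G, MulAut.conj g • U ≤ H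

theorem dp_of_pi {π : Set ℕ} (hG : PiNum π (Nat.card G)) : DP π G := by
  refine ⟨⟨⊤, isPiHall_iff.2 ⟨by rwa [Subgroup.card_top], ?_⟩⟩, fun H U hH _ => ⟨1, ?_⟩⟩
  · intro q hq hd
    rw [Subgroup.index_top] at hd
    exact absurd (Nat.eq_one_of_dvd_one hd) hq.ne_one
  · have h1 := eq_one_of_pi (hG.dvd H.index_dvd_card) (isPiHall_iff.1 hH).2
    rw [Subgroup.index_eq_one] at h1
    rw [h1]
    exact le_top

theorem card_eq_mul (N H : Subgroup G) [N.Normal] :
    Nat.card H = Nat.card (H.map (QuotientGroup.mk' N)) * Nat.card (N.subgroupOf H) := by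
  have h := (N.subgroupOf H).card_mul_index
  rw [← Subgroup.relIndex_ker, QuotientGroup.ker_mk', Subgroup.relIndex, mul_comm]
  exact h.symm

theorem card_subgroupOf_dvd (N H : Subgroup G) : Nat.card (N.subgroupOf H) ∣ Nat.card N := by
  rw [Nat.card_congr (Subgroup.equivMapOfInjective (N.subgroupOf H) H.subtype H.subtype_injective).toEquiv]
  exact Subgroup.card_dvd_of_le (by rintro _ ⟨x, hx, rfl⟩; exact hx)

theorem piHall_map {π : Set ℕ} (N : Subgroup G) [N.Normal] {H : Subgroup G} (hH : Cfsg.IsPiHall π H) :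
    Cfsg.IsPiHall π (H.map (QuotientGroup.mk' N)) := by
  rw [isPiHall_iff] at hH ⊢
  exact ⟨hH.1.dvd (H.card_map_dvd _), hH.2.dvd (Subgroup.index_map_dvd H (QuotientGroup.mk'_surjective N))⟩

/-- A normal π-subgroup lies in every Hall π-subgroup. -/
theorem le_piHall {π : Set ℕ} (N : Subgroup G) [N.Normal] (hN : PiNum π (Nat.card N)) {H : Subgroup G}
    (hH : Cfsg.IsPiHall π H) : N ≤ H := by
  rw [isPiHall_iff] at hH
  have h1 : H.relIndex (H ⊔ N) = 1 := by
    refine eq_one_of_pi (π := π) ?_ (hH.2.dvd (Subgroup.relIndex_dvd_index_of_le le_sup_left))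
    refine (hH.1.mul hN).dvd ((Subgroup.relIndex_dvd_card _ _).trans ⟨Nat.card (H ⊓ N : Subgroup G), ?_⟩)
    rw [mul_comm (Nat.card H), ← card_sup_mul_card_inf
      (Subgroup.le_normalizer_of_normal : H ≤ Subgroup.normalizer (N : Set G)), sup_comm, inf_comm]
  exact le_sup_right.trans (Subgroup.relIndex_eq_one.1 h1)

theorem dp_ext_pi {π : Set ℕ} (N : Subgroup G) [N.Normal] (hN : PiNum π (Nat.card N))
    (hQ : DP π (G ⧸ N)) : DP π G := by
  obtain ⟨⟨Hb, hHb⟩, hconj⟩ := hQ
  constructor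
  · rw [isPiHall_iff] at hHb
    refine ⟨Hb.comap (QuotientGroup.mk' N), isPiHall_iff.2 ⟨?_, ?_⟩⟩
    · rw [card_eq_mul N]
      refine PiNum.mul ?_ (hN.dvd (card_subgroupOf_dvd _ _))
      rw [Subgroup.map_comap_eq_self_of_surjective (QuotientGroup.mk'_surjective N)]
      exact hHb.1
    · rw [Subgroup.index_comap_of_surjective _ (QuotientGroup.mk'_surjective N)]
      exact hHb.2
  · intro H U hH hU
    obtain ⟨g', hg'⟩ := hconj _ (U.map (QuotientGroup.mk' N)) (piHall_map N hH) (hU.dvd (U.card_map_dvd _))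
    obtain ⟨g, rfl⟩ := QuotientGroup.mk'_surjective N g'
    refine ⟨g, ?_⟩
    rwa [← map_conjSmul, Subgroup.map_le_iff_le_comap, Subgroup.comap_map_eq, QuotientGroup.ker_mk',
      sup_eq_left.2 (le_piHall N hN hH)] at hg'

theorem dp_ext_compl (h : OddChar.OddSolvable.{u}) {π : Set ℕ} (N : Subgroup G) [N.Normal]
    (hN : PiNum πᶜ (Nat.card N)) (hQ : DP π (G ⧸ N)) : DP π G := by
  obtain ⟨⟨Hb, hHb⟩, hconj⟩ := hQ
  constructor
  · rw [isPiHall_iff] at hHb
    set K := Hb.comap (QuotientGroup.mk' N) with hK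
    have hNK : N ≤ K := fun x hx => by
      rw [hK, Subgroup.mem_comap, QuotientGroup.mk'_apply, (QuotientGroup.eq_one_iff x).2 hx]
      exact one_mem _
    have cN : Nat.card (N.subgroupOf K) = Nat.card N :=
      Nat.card_congr (Subgroup.subgroupOfEquivOfLe hNK).toEquiv
    have hidx : (N.subgroupOf K).index = Nat.card Hb := by
      have := Subgroup.relIndex_ker (QuotientGroup.mk' N) (K := K)
      rw [QuotientGroup.ker_mk'] at this
      rw [← Subgroup.relIndex, this, hK,
        Subgroup.map_comap_eq_self_of_surjective (QuotientGroup.mk'_surjective N)]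
    obtain ⟨C, hC⟩ := Subgroup.exists_right_complement'_of_coprime (N := N.subgroupOf K)
      (by rw [cN, hidx]; exact (hHb.1.coprime hN).symm)
    have hCc : Nat.card (C.map K.subtype) = Nat.card Hb := by
      rw [Subgroup.card_map_of_injective K.subtype_injective, ← hC.symm.index_eq_card, hidx]
    refine ⟨C.map K.subtype, isPiHall_iff.2 ⟨hCc ▸ hHb.1, ?_⟩⟩
    have hi := (C.map K.subtype).card_mul_index
    rw [hCc] at hi
    have hK' := K.card_mul_index
    rw [card_eq_mul N K, hK, Subgroup.map_comap_eq_self_of_surjective (QuotientGroup.mk'_surjective N),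
      Subgroup.index_comap_of_surjective _ (QuotientGroup.mk'_surjective N), mul_assoc] at hK'
    rw [Nat.eq_of_mul_eq_mul_left Nat.card_pos (hi.trans hK'.symm)]
    exact (hN.dvd (card_subgroupOf_dvd _ _)).mul hHb.2
  · intro H U hH hU
    obtain ⟨g', hg'⟩ := hconj _ (U.map (QuotientGroup.mk' N)) (piHall_map N hH) (hU.dvd (U.card_map_dvd _))
    obtain ⟨g, rfl⟩ := QuotientGroup.mk'_surjective N g'
    rw [← map_conjSmul, Subgroup.map_le_iff_le_comap, Subgroup.comap_map_eq, QuotientGroup.ker_mk'] at hg'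
    set U' := MulAut.conj g • U with hU'
    have hU'c : PiNum π (Nat.card U') := by rw [hU', card_conjSmul]; exact hU
    have hn : U' ≤ Subgroup.normalizer (N : Set G) := Subgroup.le_normalizer_of_normal
    have hcop : (Nat.card U').Coprime (Nat.card N) := hU'c.coprime hN
    set B := H ⊓ (N ⊔ U') with hB
    have hNB : N ⊔ B = N ⊔ U' := by
      refine le_antisymm (sup_le le_sup_left inf_le_right) (sup_le le_sup_left fun x hx => ?_)
      obtain ⟨a, ha, b, hb, rfl⟩ := Subgroup.mem_sup_of_normal_left.1 (sup_comm H N ▸ hg' hx : x ∈ N ⊔ H)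
      refine mul_mem (Subgroup.mem_sup_left ha) (Subgroup.mem_sup_right (Subgroup.mem_inf.2 ⟨hb, ?_⟩))
      have := mul_mem (Subgroup.mem_sup_left (inv_mem ha) : a⁻¹ ∈ N ⊔ U') (Subgroup.mem_sup_right hx)
      rwa [inv_mul_cancel_left] at this
    obtain ⟨hc, -⟩ := SchurZ.exists_complement_in hn hcop inf_le_right hNB
    have hone : Nat.card (N ⊓ B : Subgroup G) = 1 :=
      eq_one_of_pi ((isPiHall_iff.1 hH).1.dvd
          (Subgroup.card_dvd_of_le (inf_le_right.trans inf_le_left)))
        (hN.dvd (Subgroup.card_dvd_of_le inf_le_left))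
    rw [hone, one_mul] at hc
    obtain ⟨k, -, hk⟩ := SchurZ.conj_in hn hcop (solvable_or h hcop) (inf_le_right : B ≤ N ⊔ U') hc
    refine ⟨k * g, ?_⟩
    rw [← conjSmul_conjSmul, ← hU', hk]
    exact inf_le_left

/-- π-separable groups satisfy the full analogue of Sylow's theorems. -/
theorem dp_of_separable (h : OddChar.OddSolvable.{u}) (π : Set ℕ) {G : Type u} [Group G] [Finite G]
    (n : ℕ) (H : Fin (n + 1) → Subgroup G) (h0 : H 0 = ⊥) (hl : H (Fin.last n) = ⊤) (hm : Monotone H)
    (hn : ∀ i, (H i).Normal)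
    (hs : ∀ i : Fin n, PiNum π ((H i.castSucc).relIndex (H i.succ)) ∨
      PiNum πᶜ ((H i.castSucc).relIndex (H i.succ))) : DP π G := by
  induction hc : Nat.card G using Nat.strong_induction_on generalizing G with
  | _ N ih =>
  subst hc
  by_cases hne : ∀ i, H i = ⊥
  · refine dp_of_pi fun q hq hd => ?_
    rw [← Subgroup.card_top, ← hl, hne, Subgroup.card_bot] at hd
    exact absurd (Nat.eq_one_of_dvd_one hd) hq.ne_one
  push Not at hne
  obtain ⟨i, hi, hmin⟩ : ∃ i : Fin n, H i.succ ≠ ⊥ ∧ H i.castSucc = ⊥ := by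
    by_contra hcon
    push Not at hcon
    obtain ⟨j, hj⟩ := hne
    refine hj ?_
    clear hj
    induction j using Fin.induction with
    | zero => exact h0
    | succ k hk => by_contra hk'; exact hcon k hk' hk
  haveI := hn i.succ
  have hlt : Nat.card (G ⧸ H i.succ) < Nat.card G := by
    rw [← Subgroup.index_eq_card, ← (H i.succ).card_mul_index]
    exact lt_mul_left (Nat.pos_of_ne_zero Subgroup.index_ne_zero_of_finite)
      ((H i.succ).one_lt_card_iff_ne_bot.2 hi)
  have hQ : DP π (G ⧸ H i.succ) := ih _ hlt (fun j => (H j).map (QuotientGroup.mk' (H i.succ)))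
    (by simp only [h0, Subgroup.map_bot])
    (by simp only [hl, Subgroup.map_top_of_surjective _ (QuotientGroup.mk'_surjective _)])
    (fun a b hab => Subgroup.map_mono (hm hab))
    (fun j => (hn j).map _ (QuotientGroup.mk'_surjective _))
    (fun j => by
      haveI := hn j.castSucc
      have hd : ((H j.castSucc).map (QuotientGroup.mk' (H i.succ))).relIndex
          ((H j.succ).map (QuotientGroup.mk' (H i.succ))) ∣ (H j.castSucc).relIndex (H j.succ) := by
        rw [Subgroup.relIndex_map_map, QuotientGroup.ker_mk',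
          show H j.succ ⊔ H i.succ = H j.succ ⊔ (H j.castSucc ⊔ H i.succ) by
            rw [← sup_assoc, sup_eq_left.2 (hm j.castSucc_lt_succ.le)],
          Subgroup.relIndex_sup_right]
        exact Subgroup.relIndex_dvd_of_le_left _ le_sup_left
      exact (hs j).imp (·.dvd hd) (·.dvd hd))
    rfl
  rcases hs i with hp | hp <;> rw [hmin, Subgroup.relIndex_bot_left] at hp
  · exact dp_ext_pi _ hp hQ
  · exact dp_ext_compl h _ hp hQ

theorem eq_of_le_piHall {π : Set ℕ} {H K : Subgroup G} (hH : Cfsg.IsPiHall π H) (hK : Cfsg.IsPiHall π K)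
    (hle : K ≤ H) : K = H :=
  le_antisymm hle (Subgroup.relIndex_eq_one.1 (eq_one_of_pi
    ((isPiHall_iff.1 hH).1.dvd (Subgroup.relIndex_dvd_card K H))
    ((isPiHall_iff.1 hK).2.dvd (Subgroup.relIndex_dvd_index_of_le hle))))

theorem piHall_conj {π : Set ℕ} {K : Subgroup G} (hK : Cfsg.IsPiHall π K) (g : G) :
    Cfsg.IsPiHall π (MulAut.conj g • K) := by
  rw [isPiHall_iff] at hK ⊢
  refine ⟨by rw [card_conjSmul]; exact hK.1, ?_⟩
  have h1 := (MulAut.conj g • K).card_mul_index
  rw [card_conjSmul, ← K.card_mul_index] at h1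
  rw [Nat.eq_of_mul_eq_mul_left Nat.card_pos h1]
  exact hK.2

theorem DP.conj {π : Set ℕ} (hD : DP π G) {H K : Subgroup G} (hH : Cfsg.IsPiHall π H)
    (hK : Cfsg.IsPiHall π K) : ∃ g : G, MulAut.conj g • H = K := by
  obtain ⟨g, hg⟩ := hD.2 K H hK (isPiHall_iff.1 hH).1
  exact ⟨g, eq_of_le_piHall hK (piHall_conj hH g) hg⟩

theorem conjSmul_eq_map (g : G) (H : Subgroup G) :
    MulAut.conj g • H = H.map (MulAut.conj g).toMonoidHom := rfl

/-- S1908. -/
theorem separable_dpi (h : OddChar.OddSolvable.{u}) (π : Set ℕ)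
    (hsep : ∃ (n : ℕ) (H : Fin (n + 1) → Subgroup G), H 0 = ⊥ ∧ H (Fin.last n) = ⊤ ∧ Monotone H ∧
      (∀ i, (H i).Normal) ∧
      ∀ i : Fin n, (∀ q : ℕ, q.Prime → q ∣ (H i.castSucc).relIndex (H i.succ) → q ∈ π) ∨
        (∀ q : ℕ, q.Prime → q ∣ (H i.castSucc).relIndex (H i.succ) → q ∉ π)) :
    (∃ K : Subgroup G, Cfsg.IsPiHall π K) ∧
      (∀ K L : Subgroup G, Cfsg.IsPiHall π K → Cfsg.IsPiHall π L →
        ∃ g : G, L = K.map (MulAut.conj g).toMonoidHom) ∧
      ∀ U : Subgroup G, (∀ q : ℕ, q.Prime → q ∣ Nat.card U → q ∈ π) →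
        ∃ K : Subgroup G, Cfsg.IsPiHall π K ∧ U ≤ K := by
  obtain ⟨n, H, h0, hl, hm, hn, hs⟩ := hsep
  have hD := dp_of_separable h π n H h0 hl hm hn hs
  refine ⟨hD.1, fun K L hK hL => ?_, fun U hU => ?_⟩
  · obtain ⟨g, hg⟩ := hD.conj hK hL
    exact ⟨g, hg.symm⟩
  · obtain ⟨K, hK⟩ := hD.1
    obtain ⟨g, hg⟩ := hD.2 K U hK hU
    refine ⟨MulAut.conj g⁻¹ • K, piHall_conj hK _, ?_⟩
    rw [map_inv, Subgroup.subset_pointwise_smul_iff, inv_inv]
    exact hg

/-- The core of the extension argument: a group with a normal π-subgroup `D` inside a normal subgroup `A₁`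
with π'-index over `D` and π-quotient by `A₁`. -/
theorem dp_three (h : OddChar.OddSolvable.{u}) (π : Set ℕ) {Y : Type u} [Group Y] [Finite Y]
    (D A₁ : Subgroup Y) [D.Normal] [A₁.Normal] (hDA : D ≤ A₁) (hD : PiNum π (Nat.card D))
    (hA : PiNum πᶜ (D.relIndex A₁)) (hY : PiNum π A₁.index) : DP π Y := by
  refine dp_ext_pi D hD ?_
  haveI : (A₁.map (QuotientGroup.mk' D)).Normal :=
    Subgroup.Normal.map inferInstance _ (QuotientGroup.mk'_surjective D)
  refine dp_ext_compl h (A₁.map (QuotientGroup.mk' D)) ?_ (dp_of_pi ?_)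
  · rwa [← Subgroup.relIndex_ker, QuotientGroup.ker_mk']
  · rw [← Subgroup.index_eq_card,
      Subgroup.index_map_eq _ (QuotientGroup.mk'_surjective D) (by rwa [QuotientGroup.ker_mk'])]
    exact hY

/-- S4310: C_π is closed under extensions. -/
theorem cpi_extension (h : OddChar.OddSolvable.{u}) (π : Set ℕ) (A : Subgroup G) [A.Normal]
    (hA : Cfsg.IsCPiGroup π ↥A) (hQ : Cfsg.IsCPiGroup π (G ⧸ A)) : Cfsg.IsCPiGroup π G := by
  obtain ⟨⟨Da, hDa⟩, hAconj⟩ := hA
  obtain ⟨⟨Hb, hHb⟩, hQconj⟩ := hQ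
  set f := QuotientGroup.mk' A with hf
  -- everything normalizing a Hall subgroup of `A` over a Hall subgroup of `G / A`
  have key : ∀ (Db : Subgroup ↥A), Cfsg.IsPiHall π Db → ∀ Hc : Subgroup (G ⧸ A), Cfsg.IsPiHall π Hc →
      DP π ↥(Hc.comap f ⊓ Subgroup.normalizer ((Db.map A.subtype : Subgroup G) : Set G)) ∧
        PiNum πᶜ (Hc.comap f ⊓ Subgroup.normalizer ((Db.map A.subtype : Subgroup G) : Set G)).index := by
    intro Db hDb Hc hHc
    set D := Db.map A.subtype with hD
    set M := Hc.comap f with hM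
    set N := Subgroup.normalizer (D : Set G) with hN
    set Y := M ⊓ N with hY
    have hAM : A ≤ M := fun x hx => by
      rw [hM, Subgroup.mem_comap, hf, QuotientGroup.mk'_apply, (QuotientGroup.eq_one_iff x).2 hx]
      exact one_mem _
    have hDA : D ≤ A := Subgroup.map_subtype_le _
    have hDY : D ≤ Y := le_inf (hDA.trans hAM) Subgroup.le_normalizer
    have hDc : Nat.card D = Nat.card Db := Subgroup.card_map_of_injective A.subtype_injective
    have hMA : M ≤ A ⊔ Y := by
      intro x hx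
      have hle : MulAut.conj x • D ≤ A := by
        rintro _ ⟨d, hd, rfl⟩
        exact ‹A.Normal›.conj_mem d (hDA hd) x
      have hHx : Cfsg.IsPiHall π ((MulAut.conj x • D).subgroupOf A) := by
        rw [isPiHall_iff] at hDb ⊢
        have c : Nat.card ((MulAut.conj x • D).subgroupOf A) = Nat.card Db := by
          rw [Nat.card_congr (Subgroup.subgroupOfEquivOfLe hle).toEquiv, card_conjSmul, hDc]
        refine ⟨c ▸ hDb.1, ?_⟩
        have h1 := ((MulAut.conj x • D).subgroupOf A).card_mul_index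
        rw [c, ← Db.card_mul_index] at h1
        rw [Nat.eq_of_mul_eq_mul_left Nat.card_pos h1]
        exact hDb.2
      obtain ⟨a, ha⟩ := hAconj _ _ hHx hDb
      have h2 : MulAut.conj ((a : G) * x) • D = D := by
        have h3 := congrArg (Subgroup.map A.subtype) ha
        rw [← conjSmul_eq_map, map_conjSmul, Subgroup.map_subgroupOf_eq_of_le hle] at h3
        rw [← conjSmul_conjSmul]
        exact h3.symm
      have hxY : (a : G) * x ∈ Y :=
        Subgroup.mem_inf.2 ⟨mul_mem (hAM a.2) hx, mem_normalizer_iff_conjSmul.2 h2⟩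
      have := mul_mem (Subgroup.mem_sup_left (inv_mem a.2) : (a : G)⁻¹ ∈ A ⊔ Y) (Subgroup.mem_sup_right hxY)
      rwa [inv_mul_cancel_left] at this
    have hidxM : PiNum πᶜ M.index := by
      rw [hM, Subgroup.index_comap_of_surjective _ (QuotientGroup.mk'_surjective A)]
      exact (isPiHall_iff.1 hHc).2
    have hsup : A ⊔ Y = M := le_antisymm (sup_le hAM inf_le_left) hMA
    have hAD : PiNum πᶜ (D.relIndex A) := by
      have := (isPiHall_iff.1 hDb).2
      rwa [show Db = D.subgroupOf A by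
        rw [hD, Subgroup.subgroupOf, Subgroup.comap_map_eq_self_of_injective A.subtype_injective]] at this
    constructor
    · haveI : (D.subgroupOf Y).Normal := Subgroup.normal_subgroupOf_of_le_normalizer inf_le_right
      refine dp_three h π (D.subgroupOf Y) (A.subgroupOf Y) (fun x hx => hDA hx) ?_ ?_ ?_
      · rw [Nat.card_congr (Subgroup.subgroupOfEquivOfLe hDY).toEquiv, hDc]
        exact (isPiHall_iff.1 hDb).1
      · rw [show A.subgroupOf Y = (A ⊓ Y).subgroupOf Y from (Subgroup.inf_subgroupOf_right A Y).symm,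
          Subgroup.relIndex_subgroupOf inf_le_right]
        refine hAD.dvd ?_
        rw [← Subgroup.relIndex_mul_relIndex D (A ⊓ Y) A (le_inf hDA hDY) inf_le_left]
        exact dvd_mul_right _ _
      · show PiNum π (A.relIndex Y)
        rw [← Subgroup.relIndex_sup_right Y A, sup_comm, hsup, ← QuotientGroup.ker_mk' A,
          Subgroup.relIndex_ker, ← hf, hM, Subgroup.map_comap_eq_self_of_surjective (QuotientGroup.mk'_surjective A)]
        exact (isPiHall_iff.1 hHc).1
    · rw [← Subgroup.relIndex_mul_index (inf_le_left : Y ≤ M)]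
      refine PiNum.mul ?_ hidxM
      have e1 : Y.relIndex M = (A ⊓ Y).relIndex A := by
        have e2 : (A ⊓ Y).relIndex Y * Y.relIndex M = (A ⊓ Y).relIndex A * A.relIndex M := by
          rw [Subgroup.relIndex_mul_relIndex _ _ _ inf_le_right inf_le_left,
            Subgroup.relIndex_mul_relIndex _ _ _ inf_le_left hAM]
        have e3 : A.relIndex M = (A ⊓ Y).relIndex Y := by
          rw [Subgroup.inf_relIndex_right, ← hsup, sup_comm, Subgroup.relIndex_sup_right]
        rw [e3, mul_comm] at e2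
        exact Nat.eq_of_mul_eq_mul_right (Nat.pos_of_ne_zero Subgroup.index_ne_zero_of_finite) e2
      rw [e1]
      refine hAD.dvd ?_
      rw [← Subgroup.relIndex_mul_relIndex D (A ⊓ Y) A (le_inf hDA hDY) inf_le_left]
      exact dvd_mul_left _ _
  constructor
  · obtain ⟨⟨⟨HY, hHY⟩, -⟩, hidx⟩ := key Da hDa Hb hHb
    refine ⟨HY.map (Subgroup.subtype _), isPiHall_iff.2 ⟨?_, ?_⟩⟩
    · rw [Subgroup.card_map_of_injective (Subgroup.subtype_injective _)]
      exact (isPiHall_iff.1 hHY).1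
    · rw [Subgroup.index_map_subtype]
      exact (isPiHall_iff.1 hHY).2.mul hidx
  · intro H K hH hK
    -- the same image in the quotient
    obtain ⟨gb, hgb⟩ := hQconj _ _ (piHall_map A hH) (piHall_map A hK)
    obtain ⟨g, rfl⟩ := QuotientGroup.mk'_surjective A gb
    rw [← conjSmul_eq_map, ← map_conjSmul] at hgb
    set H₁ := MulAut.conj g • H with hH₁
    have hH₁' := piHall_conj hH g
    have hinf : ∀ L : Subgroup G, Cfsg.IsPiHall π L → Cfsg.IsPiHall π (L.subgroupOf A) := by
      intro L hL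
      rw [isPiHall_iff] at hL ⊢
      refine ⟨hL.1.dvd (card_subgroupOf_dvd L A), ?_⟩
      have h1 : L.relIndex A ∣ L.index := by
        rw [← Subgroup.relIndex_mul_index (le_sup_left : L ≤ L ⊔ A)]
        refine dvd_mul_of_dvd_left ?_ _
        have h2 : (L ⊓ A).relIndex A * A.relIndex (L ⊔ A) = (L ⊓ A).relIndex L * L.relIndex (L ⊔ A) := by
          rw [Subgroup.relIndex_mul_relIndex _ _ _ inf_le_right le_sup_right,
            Subgroup.relIndex_mul_relIndex _ _ _ inf_le_left le_sup_left]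
        rw [Subgroup.inf_relIndex_right, Subgroup.inf_relIndex_left, Subgroup.relIndex_sup_right,
          mul_comm] at h2
        exact (Nat.eq_of_mul_eq_mul_left (Nat.pos_of_ne_zero Subgroup.index_ne_zero_of_finite) h2).dvd
      exact hL.2.dvd h1
    obtain ⟨a, ha⟩ := hAconj _ _ (hinf _ hH₁') (hinf _ hK)
    set H₂ := MulAut.conj (a : G) • H₁ with hH₂
    have hH₂' := piHall_conj hH₁' (a : G)
    have hD : H₂ ⊓ A = K ⊓ A := by
      rw [← Subgroup.subgroupOf_map_subtype K A, ha, ← conjSmul_eq_map, map_conjSmul, Subgroup.subgroupOf_map_subtype,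
        hH₂, Subgroup.smul_inf, Subgroup.coe_subtype, conjSmul_eq_self_of_mem_normalizer (H := A)
          (show (a : G) ∈ Subgroup.normalizer (A : Set G) from Subgroup.le_normalizer a.2)]
    have hsame : H₂.map f = K.map f := by
      rw [hH₂, map_conjSmul, show f (a : G) = 1 from (QuotientGroup.eq_one_iff _).2 a.2, map_one, one_smul]
      exact hgb.symm
    obtain ⟨hDP, -⟩ := key _ (hinf _ hK) _ (piHall_map A hK)
    set Y := (K.map f).comap f ⊓ Subgroup.normalizer (((K.subgroupOf A).map A.subtype : Subgroup G) : Set G)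
      with hY
    have hle : ∀ L : Subgroup G, L.map f = K.map f → L ⊓ A = K ⊓ A → L ≤ Y := by
      intro L h1 h2
      refine le_inf (h1 ▸ Subgroup.le_comap_map f L) ?_
      rw [Subgroup.subgroupOf_map_subtype, ← h2]
      exact (le_inf Subgroup.le_normalizer Subgroup.le_normalizer_of_normal).trans
        Subgroup.inf_normalizer_le_normalizer_inf
    have hsub : ∀ L : Subgroup G, Cfsg.IsPiHall π L → L ≤ Y → Cfsg.IsPiHall π (L.subgroupOf Y) := by
      intro L hL hLY
      rw [isPiHall_iff] at hL ⊢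
      exact ⟨(Nat.card_congr (Subgroup.subgroupOfEquivOfLe hLY).toEquiv) ▸ hL.1,
        hL.2.dvd (Subgroup.relIndex_dvd_index_of_le hLY)⟩
    have hH₂Y := hle _ hsame hD
    have hKY := hle _ rfl rfl
    obtain ⟨y, hy⟩ := hDP.conj (hsub _ hH₂' hH₂Y) (hsub _ hK hKY)
    refine ⟨y * a * g, ?_⟩
    have h5 := congrArg (Subgroup.map Y.subtype) hy
    rw [map_subtype_conjSmul, Subgroup.map_subgroupOf_eq_of_le hH₂Y, Subgroup.map_subgroupOf_eq_of_le hKY,
      hH₂, hH₁, conjSmul_conjSmul, conjSmul_conjSmul] at h5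
    rw [← conjSmul_eq_map]
    exact h5.symm

end Cfsg.Agent.OddDown
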