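import Cfsg.Agent.Lib.OddDown.AutFix
import Cfsg.Agent.Lib.OddDown.Hall
import Cfsg.Prelude.Def_KGroupFacts
import Mathlib.GroupTheory.Nilpotent

/-!
S2962 and S3065.
-/

set_option autoImplicit false
set_option linter.style.haveILetI false
set_option linter.unusedSectionVars false

namespace Cfsg.Agent.OddDown

open Subgroup
open scoped commutatorElement Pointwise

universe u

variable {G : Type u} [Group G] [Finite G]

/-- A 2-group with `C_S(Q) = C_S(t)` for some `t` in the derived group of `Q` is centralized by `Q`. -/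
theorem sylow_centralized {Q S : Subgroup G} (hQ : IsPGroup 2 Q) (hS : IsPGroup 2 S)
    (hn : Q ≤ normalizer (S : Set G)) {t : G} (htQ : t ∈ ⁅Q, Q⁆)
    (hC : S ⊓ centralizer ({t} : Set G) ≤ centralizer (Q : Set G)) : S ≤ centralizer (Q : Set G) := by
  haveI : Fact (Nat.Prime 2) := ⟨Nat.prime_two⟩
  set C := S ⊓ centralizer (Q : Set G) with hCdef
  by_contra hne
  have hlt : C.subgroupOf S < ⊤ := by
    refine lt_top_iff_ne_top.2 fun h => hne fun x hx => ?_
    exact ((h ▸ mem_top (⟨x, hx⟩ : S) : (⟨x, hx⟩ : S) ∈ C.subgroupOf S) :).2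
  haveI := hS.isNilpotent
  obtain ⟨⟨l₀, hl₀S⟩, hl₀, hl₀C⟩ :=
    SetLike.exists_of_lt (Group.normalizerCondition_of_isNilpotent _ hlt)
  set L := S ⊓ normalizer (C : Set G) with hL
  have hl₀L : l₀ ∈ L := by
    refine ⟨hl₀S, mem_normalizer_fintype fun x hx => ?_⟩
    exact (mem_normalizer_iff.1 hl₀ ⟨x, hx.1⟩).1 hx
  have hCL : C ≤ L := le_inf inf_le_left le_normalizer
  have hQC : Q ≤ normalizer (C : Set G) := fun q hq => centralizer_le_normalizer _
    (mem_centralizer_iff.2 fun x hx => ((mem_centralizer_iff.1 hx.2) q hq).symm)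
  have hQL : Q ≤ normalizer (L : Set G) :=
    (le_inf hn (hQC.trans le_normalizer)).trans inf_normalizer_le_normalizer_inf
  set T₀ := Q ⊔ L with hT₀
  have hT₀2 : IsPGroup 2 T₀ := IsPGroup.to_sup_of_normal_right' hQ (hS.to_le inf_le_left) hQL
  have hT₀C : T₀ ≤ normalizer (C : Set G) := sup_le hQC inf_le_right
  haveI : (C.subgroupOf T₀).Normal := normal_subgroupOf_of_le_normalizer hT₀C
  haveI : (L.subgroupOf T₀).Normal := normal_subgroupOf_of_le_normalizer (sup_le hQL le_normalizer)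
  set π := QuotientGroup.mk' (C.subgroupOf T₀) with hπ
  haveI : ((L.subgroupOf T₀).map π).Normal := Normal.map inferInstance π (QuotientGroup.mk'_surjective _)
  have hbot : (L.subgroupOf T₀).map π ≠ ⊥ := by
    intro h
    have h1 : π ⟨l₀, mem_sup_right hl₀L⟩ ∈ (L.subgroupOf T₀).map π :=
      mem_map_of_mem π (show (⟨l₀, mem_sup_right hl₀L⟩ : T₀) ∈ L.subgroupOf T₀ from hl₀L)
    rw [h, mem_bot, hπ, QuotientGroup.mk'_apply, QuotientGroup.eq_one_iff] at h1
    exact hl₀C (show l₀ ∈ C from h1)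
  obtain ⟨z, ⟨⟨d, hdT⟩, hdL, rfl⟩, hz2, hzc⟩ :=
    NormalFour.exists_central_mem (hT₀2.to_quotient _) hbot
  have hdC : d ∉ C := fun h => by
    rw [show π ⟨d, hdT⟩ = 1 from
      (QuotientGroup.eq_one_iff _).2 (show (⟨d, hdT⟩ : T₀) ∈ C.subgroupOf T₀ from h), orderOf_one] at hz2
    omega
  have hdS : d ∈ S := hdL.1
  have hdN : d ∈ normalizer (C : Set G) := hdL.2
  have hcC : ∀ q ∈ Q, q * d * q⁻¹ * d⁻¹ ∈ C := by
    intro q hq
    have h1 := mem_center_iff.1 hzc (π ⟨q, mem_sup_left hq⟩)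
    have h2 : π (⟨q, mem_sup_left hq⟩ * ⟨d, hdT⟩ * ⟨q, mem_sup_left hq⟩⁻¹ * ⟨d, hdT⟩⁻¹) = 1 := by
      rw [map_mul, map_mul, map_mul, map_inv, map_inv, h1]; group
    exact (QuotientGroup.eq_one_iff (N := C.subgroupOf T₀) _).1 h2
  have hfix : ∀ q ∈ Q, ∀ x ∈ C, q * x * q⁻¹ = x := fun q hq x hx =>
    mul_inv_eq_iff_eq_mul.2 (mem_centralizer_iff.1 hx.2 q hq)
  have hcc : ∀ q ∈ Q, ∀ x ∈ C, Commute (q * d * q⁻¹ * d⁻¹) x := by
    intro q hq x hx
    have hx' : d⁻¹ * x * d ∈ C := (mem_normalizer_iff''.1 hdN x).1 hx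
    have e := hfix q hq _ hx'
    have e2 := hfix q⁻¹ (inv_mem hq) x hx
    have e3 : (q * d * q⁻¹)⁻¹ * x * (q * d * q⁻¹) = d⁻¹ * x * d := by
      calc (q * d * q⁻¹)⁻¹ * x * (q * d * q⁻¹) = q * (d⁻¹ * (q⁻¹ * x * q⁻¹⁻¹) * d) * q⁻¹ := by group
        _ = _ := by rw [e2, e]
    show q * d * q⁻¹ * d⁻¹ * x = x * (q * d * q⁻¹ * d⁻¹)
    calc q * d * q⁻¹ * d⁻¹ * x = (q * d * q⁻¹) * (d⁻¹ * x * d) * d⁻¹ := by group
      _ = _ := by rw [← e3]; group
  let φ : Q →* G :=
    { toFun := fun q => (q : G) * d * (q : G)⁻¹ * d⁻¹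
      map_one' := by simp
      map_mul' := fun a b => by
        have e := hfix a a.2 _ (hcC b b.2)
        calc ((a * b : Q) : G) * d * ((a * b : Q) : G)⁻¹ * d⁻¹
            = ((a : G) * ((b : G) * d * (b : G)⁻¹ * d⁻¹) * (a : G)⁻¹) * ((a : G) * d * (a : G)⁻¹ * d⁻¹) := by
              rw [Subgroup.coe_mul]; group
          _ = _ := by rw [e, (hcc b b.2 _ (hcC a a.2)).eq] }
  have hker : ⁅Q, Q⁆ ≤ φ.ker.map Q.subtype := by
    rw [commutator_le]
    intro a ha b hb
    refine ⟨⁅(⟨a, ha⟩ : Q), ⟨b, hb⟩⁆, ?_, map_commutatorElement Q.subtype _ _⟩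
    rw [SetLike.mem_coe, MonoidHom.mem_ker, map_commutatorElement, commutatorElement_eq_one_iff_mul_comm]
    exact hcc a ha _ (hcC b hb)
  obtain ⟨⟨t', ht'⟩, hk, rfl⟩ := hker htQ
  refine hdC ⟨hdS, hC ⟨hdS, mem_centralizer_singleton_iff.2 ?_⟩⟩
  have e : t' * d * t'⁻¹ * d⁻¹ = 1 := hk
  exact (mul_inv_eq_iff_eq_mul.1 (mul_inv_eq_one.1 e)).symm

/-- S2962. -/
theorem commutator_solvable_odd (h : OddChar.OddSolvable.{u}) (N Q : Subgroup G) [N.Normal]
    (hQ : IsPGroup 2 Q) (hdisj : Q ⊓ N = ⊥) (t : G)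
    (htZ : t ∈ Q ⊓ centralizer (Q : Set G)) (htQ : t ∈ ⁅Q, Q⁆)
    (hC : N ⊓ centralizer (Q : Set G) = N ⊓ centralizer ({t} : Set G)) :
    Group.IsSolvable ↥⁅N, Q⁆ ∧ Odd (Nat.card ↥⁅N, Q⁆) := by
  haveI : Fact (Nat.Prime 2) := ⟨Nat.prime_two⟩
  haveI : (Cfsg.oddCore ↥N).Characteristic :=
    characteristic_iff_map_eq.2 fun φ => FittingCores.pPrimeCore_map_equiv 2 φ
  set O := (Cfsg.oddCore ↥N).map N.subtype with hO
  haveI hOn : O.Normal := ConjAct.normal_of_characteristic_of_normal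
  have hON : O ≤ N := map_subtype_le _
  have hOc : (Nat.card O).Coprime 2 :=
    (FittingCores.pPrimeCore_coprime (G := ↥N) 2).coprime_dvd_left
      (dvd_of_eq (card_map_of_injective N.subtype_injective))
  obtain ⟨T, hT⟩ := hQ.exists_le_sylow
  set S := (T : Subgroup G) ⊓ N with hS
  have hS2 : IsPGroup 2 S := T.isPGroup'.to_le inf_le_left
  have hSi : ¬ 2 ∣ S.relIndex N := by
    rw [hS, inf_relIndex_right]
    exact PTerm.sylow_inf_subnormal T.not_dvd_index ‹N.Normal›.isSubnormal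
  have hQS : Q ≤ normalizer (S : Set G) :=
    (le_inf (hT.trans le_normalizer) le_normalizer_of_normal).trans inf_normalizer_le_normalizer_inf
  have hSQ : S ≤ centralizer (Q : Set G) := sylow_centralized hQ hS2 hQS htQ
    fun x hx => (hC.ge ⟨hx.1.2, hx.2⟩).2
  -- the induced automorphisms
  set π := QuotientGroup.mk' O with hπ
  set Nb := N.map π with hNb
  haveI : Nb.Normal := Normal.map ‹N.Normal› π (QuotientGroup.mk'_surjective O)
  let ψ : Q →* MulAut Nb := ((MulAut.conjNormal (H := Nb)).comp π).comp Q.subtype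
  have hSb2 : IsPGroup 2 ((S.map π).subgroupOf Nb) :=
    (hS2.map π).comap_of_injective Nb.subtype Nb.subtype_injective
  have hSbi : ¬ 2 ∣ ((S.map π).subgroupOf Nb).index := by
    show ¬ 2 ∣ (S.map π).relIndex (N.map π)
    rw [relIndex_map_map, QuotientGroup.ker_mk', sup_eq_left.2 hON]
    exact fun hd => hSi (hd.trans (relIndex_dvd_of_le_left N le_sup_left))
  let Sb : Sylow 2 Nb := hSb2.toSylow hSbi
  let Cb : Subgroup (MulAut Nb) :=
    { carrier := {φ | ∀ s : Nb, s ∈ Sb → φ s = s}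
      one_mem' := fun s _ => rfl
      mul_mem' := fun {a b} ha hb s hs => by rw [MulAut.mul_apply, hb s hs, ha s hs]
      inv_mem' := fun {a} ha s hs => by
        conv_lhs => rw [← ha s hs]
        exact a.symm_apply_apply s }
  have hψC : ∀ q, ψ q ∈ Cb := by
    rintro q ⟨s, hsN⟩ hs
    obtain ⟨x, hx, rfl⟩ : s ∈ S.map π := hs
    refine Subtype.ext ?_
    show π q * π x * (π q)⁻¹ = π x
    rw [← map_inv, ← map_mul, ← map_mul, mem_centralizer_iff.1 (hSQ hx) q q.2, mul_inv_cancel_right]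
  let ψ' : Q →* Cb := ψ.codRestrict Cb hψC
  have hOb : ∀ K : Subgroup Nb, K.Normal → Odd (Nat.card K) → K = ⊥ := by
    intro K hK hKo
    set r := π.subgroupMap N with hr
    have hrs : Function.Surjective r := π.subgroupMap_surjective N
    have hrk : r.ker = O.subgroupOf N := by
      ext x
      rw [MonoidHom.mem_ker, Subtype.ext_iff, MonoidHom.subgroupMap_apply_coe, mem_subgroupOf]
      exact QuotientGroup.eq_one_iff (x : G)
    have hcard : (Nat.card (K.comap r)).Coprime 2 := by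
      rw [← card_mul_index (r.ker.subgroupOf (K.comap r))]
      refine Nat.Coprime.mul_left (hOc.coprime_dvd_left ?_) ?_
      · rw [hrk]
        exact (card_subgroupOf_dvd _ _).trans (dvd_of_eq (Nat.card_congr (subgroupOfEquivOfLe hON).toEquiv))
      · rw [← relIndex, relIndex_ker, map_comap_eq_self_of_surjective hrs]
        exact Nat.coprime_two_right.2 hKo
    have hle : K.comap r ≤ Cfsg.oddCore ↥N := FittingCores.le_pPrimeCore (hK.comap r) hcard
    rw [← map_comap_eq_self_of_surjective hrs K, Subgroup.map_eq_bot_iff, hrk]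
    exact fun x hx => ⟨x, hle hx, rfl⟩
  have hab := fix_abelian hOb Sb Cb (fun φ hφ => hφ) ψ'.range
    (hQ.of_surjective ψ'.rangeRestrict ψ'.rangeRestrict_surjective)
  have hker : ⁅Q, Q⁆ ≤ ψ'.ker.map Q.subtype := by
    rw [commutator_le]
    intro a ha b hb
    refine ⟨⁅(⟨a, ha⟩ : Q), ⟨b, hb⟩⁆, ?_, map_commutatorElement Q.subtype _ _⟩
    rw [SetLike.mem_coe, MonoidHom.mem_ker, map_commutatorElement, commutatorElement_eq_one_iff_mul_comm]
    exact hab _ ⟨_, rfl⟩ _ ⟨_, rfl⟩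
  have htN : ∀ n ∈ N, t * n * t⁻¹ * n⁻¹ ∈ O := by
    intro n hn
    obtain ⟨t', hk, e⟩ := hker htQ
    have hk' : ψ t' = 1 := congrArg Subtype.val hk
    have h1 : (π (t' : G)) * π n * (π (t' : G))⁻¹ = π n :=
      congrArg Subtype.val (DFunLike.congr_fun hk' (⟨π n, mem_map_of_mem π hn⟩ : Nb))
    rw [← QuotientGroup.eq_one_iff]
    show π (t * n * t⁻¹ * n⁻¹) = 1
    rw [show t = (t' : G) from e.symm, map_mul, map_mul, map_mul, map_inv, map_inv, h1, mul_inv_cancel]
  -- conclusion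
  have hle : ⁅N, Q⁆ ≤ O := by
    rw [commutator_le]
    intro n hn q hq
    set A := zpowers t with hA
    have hA2 : IsPGroup 2 A := hQ.to_le (zpowers_le.2 htZ.1)
    have hcop : (Nat.card A).Coprime (Nat.card O) := by
      obtain ⟨k, hk⟩ := IsPGroup.iff_card.1 hA2
      rw [hk]
      exact hOc.symm.pow_left k
    have hB : MulAut.conj n • A ≤ O ⊔ A := by
      rintro _ ⟨a, ⟨i, rfl⟩, rfl⟩
      show n * t ^ i * n⁻¹ ∈ O ⊔ A
      rw [← conj_zpow]
      refine zpow_mem ?_ i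
      have h1 := hOn.conj_mem _ (inv_mem (htN n hn)) 1
      rw [one_mul, inv_one, mul_one] at h1
      have h2 := mul_mem (mem_sup_left h1 : _ ∈ O ⊔ A) (mem_sup_right (mem_zpowers t))
      rwa [show (t * n * t⁻¹ * n⁻¹)⁻¹ * t = n * t * n⁻¹ by group] at h2
    haveI : IsMulCommutative A := inferInstance
    obtain ⟨k, hk, hkA⟩ := SchurZ.conj_in le_normalizer_of_normal hcop (Or.inl inferInstance) hB
      (SolvBasic.card_conjSmul n A)
    have hc : k⁻¹ * n ∈ centralizer ({t} : Set G) := by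
      have hcn : k⁻¹ * n ∈ normalizer (A : Set G) := by
        rw [SolvBasic.mem_normalizer_iff_conjSmul, ← SolvBasic.conjSmul_conjSmul, ← hkA,
          SolvBasic.conjSmul_inv_conjSmul]
      have h1 : k⁻¹ * n * t * (k⁻¹ * n)⁻¹ * t⁻¹ ∈ A ⊓ N := by
        refine ⟨A.mul_mem ((mem_normalizer_iff.1 hcn t).1 (mem_zpowers t)) (A.inv_mem (mem_zpowers t)), ?_⟩
        rw [mul_assoc, mul_assoc]
        refine N.mul_mem (N.mul_mem (N.inv_mem (hON hk)) hn) ?_
        rw [← mul_assoc]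
        exact ‹N.Normal›.conj_mem _ (N.inv_mem (N.mul_mem (N.inv_mem (hON hk)) hn)) t
      have h2 : A ⊓ N ≤ ⊥ := hdisj ▸ inf_le_inf_right N (zpowers_le.2 htZ.1)
      exact mem_centralizer_singleton_iff.2 (mul_inv_eq_iff_eq_mul.1 (mul_inv_eq_one.1 (mem_bot.1 (h2 h1))))
    have hcQ := (hC.ge ⟨N.mul_mem (N.inv_mem (hON hk)) hn, hc⟩).2
    have e : q * (k⁻¹ * n) = k⁻¹ * n * q := mem_centralizer_iff.1 hcQ q hq
    have e2 : ⁅n, q⁆ = k * (q * k⁻¹ * q⁻¹) := by
      rw [commutatorElement_def]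
      calc n * q * n⁻¹ * q⁻¹ = k * (k⁻¹ * n * q) * (k⁻¹ * n)⁻¹ * k⁻¹ * q⁻¹ := by group
        _ = _ := by rw [← e]; group
    rw [e2]
    exact mul_mem hk (hOn.conj_mem _ (inv_mem hk) q)
  have hodd : Odd (Nat.card ↥⁅N, Q⁆) :=
    Nat.coprime_two_right.1 (hOc.coprime_dvd_left (card_dvd_of_le hle))
  exact ⟨h _ hodd, hodd⟩

/-- S3065. -/
theorem out_solvable (h : OddChar.OddSolvable.{u}) [IsSimpleGroup G] (S : Sylow 2 G)
    (hS1 : (S : Subgroup G) ≠ ⊥) (hS : Group.IsSolvable (MulAut ↥S)) : Group.IsSolvable (Cfsg.Out G) := by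
  haveI : Fact (Nat.Prime 2) := ⟨Nat.prime_two⟩
  haveI : Finite (MulAut G) := Finite.of_injective (fun e => ⇑e) fun _ _ e => MulEquiv.ext (congrFun e)
  have hO : ∀ N : Subgroup G, N.Normal → Odd (Nat.card N) → N = ⊥ := by
    intro N hN hodd
    rcases hN.eq_bot_or_eq_top with e | e
    · exact e
    · exfalso
      rw [e, card_top] at hodd
      obtain ⟨k, hk⟩ := IsPGroup.iff_card.1 S.isPGroup'
      rcases k with _ | k
      · exact hS1 (eq_bot_of_card_eq _ (by rw [hk, pow_zero]))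
      · have h2 : 2 ∣ Nat.card G := (dvd_pow_self 2 k.succ_ne_zero).trans (hk ▸ card_subgroup_dvd_card _)
        exact Nat.not_even_iff_odd.2 hodd (even_iff_two_dvd.2 h2)
  let Na : Subgroup (MulAut G) :=
    { carrier := {φ | ∀ x, x ∈ (S : Subgroup G) ↔ φ x ∈ (S : Subgroup G)}
      one_mem' := fun x => Iff.rfl
      mul_mem' := fun {a b} ha hb x => (hb x).trans (ha _)
      inv_mem' := fun {a} ha x => by
        conv_lhs => rw [← a.apply_symm_apply x]
        exact (ha _).symm }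
  let res : Na →* MulAut ↥S :=
    { toFun := fun φ =>
        { toFun := fun s => ⟨(φ : MulAut G) s, (φ.2 s).1 s.2⟩
          invFun := fun s => ⟨((φ : MulAut G)⁻¹) s, ((inv_mem φ.2 : (φ : MulAut G)⁻¹ ∈ Na) s).1 s.2⟩
          left_inv := fun s => Subtype.ext ((φ : MulAut G).symm_apply_apply s)
          right_inv := fun s => Subtype.ext ((φ : MulAut G).apply_symm_apply s)
          map_mul' := fun a b => Subtype.ext (map_mul (φ : MulAut G) (a : G) b) }
      map_one' := rfl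
      map_mul' := fun a b => rfl }
  let C : Subgroup (MulAut G) := res.ker.map Na.subtype
  have hC : ∀ φ : MulAut G, φ ∈ C ↔ ∀ s : G, s ∈ S → φ s = s := by
    intro φ
    constructor
    · rintro ⟨a, ha, rfl⟩ s hs
      exact congrArg Subtype.val (DFunLike.congr_fun ha ⟨s, hs⟩)
    · intro hf
      have hN : φ ∈ Na := by
        intro x
        refine ⟨fun hx => by rw [hf x hx]; exact hx, fun hx => ?_⟩
        have := φ.injective (hf _ hx)
        rwa [this] at hx
      exact ⟨⟨φ, hN⟩, MulEquiv.ext fun s => Subtype.ext (hf s s.2), rfl⟩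
  haveI := (aut_fix_sylow h hO S C hC).2
  haveI : Group.IsSolvable res.ker :=
    Group.isSolvable_of_surjective (f := (equivMapOfInjective res.ker Na.subtype Na.subtype_injective).symm.toMonoidHom)
      (equivMapOfInjective res.ker Na.subtype Na.subtype_injective).symm.surjective
  haveI : Group.IsSolvable Na := Group.isSolvable_of_ker_le_range res.ker.subtype res (by simp)
  refine Group.isSolvable_of_surjective (f := (QuotientGroup.mk' (Cfsg.Inn G)).comp Na.subtype) fun q => ?_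
  obtain ⟨φ, rfl⟩ := QuotientGroup.mk'_surjective (Cfsg.Inn G) q
  obtain ⟨g, hg⟩ := MulAction.exists_smul_eq G ((φ : MulAut G) • S) S
  have hmem : MulAut.conj g * φ ∈ Na := by
    intro x
    have e : (S : Subgroup G) = MulAut.conj g • (φ • (S : Subgroup G)) := by
      conv_lhs => rw [← hg]
      rfl
    rw [← mul_smul] at e
    conv_rhs => rw [e]
    exact (Subgroup.smul_mem_pointwise_smul_iff (a := MulAut.conj g * φ) (S := (S : Subgroup G)) (x := x)).symm
  refine ⟨⟨_, hmem⟩, ?_⟩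
  show QuotientGroup.mk' (Cfsg.Inn G) (MulAut.conj g * φ) = _
  rw [map_mul, show QuotientGroup.mk' (Cfsg.Inn G) (MulAut.conj g) = 1 from
    (QuotientGroup.eq_one_iff _).2 ⟨g, rfl⟩, one_mul]

end Cfsg.Agent.OddDown
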