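import Cfsg.Prelude.Def_Transfer
import Cfsg.Agent.Lib.Solvable.Fitting
import Cfsg.Agent.Lib.FGStruct.Counting
import Cfsg.Agent.Lib.FiniteGroup.FittingPow
import Cfsg.Agent.Lib.OddChar.Iface
import Mathlib

/-!
# A-groups with a class of maximal 2-power size (S4133, from solvability of groups of odd order)

The key step: a group with abelian Sylow 2-subgroups which is the product of a subgroup of odd
order and a Sylow 2-subgroup is solvable.
-/

set_option autoImplicit false
set_option linter.style.haveILetI false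

namespace Cfsg.Agent.AGroupTwo

open Cfsg.Agent

universe u

/-- Every `2`-subgroup is abelian. -/
def Ab2 (G : Type*) [Group G] : Prop :=
  ∀ P : Subgroup G, IsPGroup 2 ↥P → ∀ a ∈ P, ∀ b ∈ P, a * b = b * a

section

variable {G : Type*} [Group G]

theorem Ab2.sub (h : Ab2 G) (K : Subgroup G) : Ab2 ↥K := fun P hP a ha b hb =>
  Subtype.ext (h (P.map K.subtype) (hP.map _) _ (Subgroup.mem_map_of_mem _ ha) _
    (Subgroup.mem_map_of_mem _ hb))

theorem Ab2.quotient [Finite G] (h : Ab2 G) (N : Subgroup G) [N.Normal] : Ab2 (G ⧸ N) := by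
  classical
  haveI : Fact (Nat.Prime 2) := ⟨Nat.prime_two⟩
  intro P hP
  obtain ⟨Q, hQ⟩ := hP.exists_le_sylow
  obtain ⟨S⟩ : Nonempty (Sylow 2 G) := inferInstance
  set S' := S.mapSurjective (QuotientGroup.mk'_surjective N) with hS'
  obtain ⟨c, hc⟩ := MulAction.exists_smul_eq (G ⧸ N) S' Q
  intro a ha b hb
  have hmem : ∀ u ∈ P, ∃ s ∈ (S : Subgroup G), c * (QuotientGroup.mk' N s) * c⁻¹ = u := by
    intro u hu
    have h1 : u ∈ ((c • S' : Sylow 2 (G ⧸ N)) : Subgroup (G ⧸ N)) := by rw [hc]; exact hQ hu
    rw [Sylow.coe_subgroup_smul, Subgroup.mem_pointwise_smul_iff_inv_smul_mem] at h1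
    rw [hS', Sylow.coe_mapSurjective, Subgroup.mem_map] at h1
    obtain ⟨s, hs, he⟩ := h1
    refine ⟨s, hs, ?_⟩
    rw [he]
    simp [MulAut.smul_def, ← map_inv, mul_assoc]
  obtain ⟨s, hs, rfl⟩ := hmem a ha
  obtain ⟨t, ht, rfl⟩ := hmem b hb
  simp only [← mul_assoc, inv_mul_cancel_right]
  congr 1
  rw [mul_assoc c, mul_assoc c, ← map_mul, ← map_mul, h _ S.2 s hs t ht]

theorem ab2_of_sylow [Finite G] (h : ∀ P : Sylow 2 G, IsMulCommutative (P : Subgroup G)) :
    Ab2 G := by
  intro P hP a ha b hb
  obtain ⟨Q, hQ⟩ := hP.exists_le_sylow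
  exact congrArg Subtype.val ((h Q).1.1 ⟨a, hQ ha⟩ ⟨b, hQ hb⟩)

end

/-- A group with abelian Sylow `2`-subgroups that has a subgroup of odd order and `2`-power index
is solvable. -/
theorem solvable_of_odd_two_power_index (hOS : OddChar.OddSolvable.{u}) :
    ∀ (n : ℕ) (G : Type u) [Group G] [Finite G], Nat.card G ≤ n → Ab2 G → ∀ H : Subgroup G,
      Odd (Nat.card H) → ∀ k : ℕ, H.index = 2 ^ k → Group.IsSolvable G := by
  intro n
  induction n with
  | zero =>
    intro G _ _ hn
    exact absurd (Nat.card_pos (α := G)) (by omega)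
  | succ n ih =>
    intro G _ _ hn hab H hH k hk
    classical
    haveI : Fact (Nat.Prime 2) := ⟨Nat.prime_two⟩
    by_contra hns
    -- proper subgroups of compatible shape are solvable
    have hsub : ∀ K : Subgroup G, K ≠ ⊤ → (∃ j, H.relIndex K = 2 ^ j) → Group.IsSolvable ↥K := by
      intro K hK ⟨j, hj⟩
      have hlt : Nat.card K < Nat.card G := by
        rcases lt_or_eq_of_le (Nat.le_of_dvd Nat.card_pos K.card_subgroup_dvd_card) with h | h
        · exact h
        · exact absurd ((Subgroup.card_eq_iff_eq_top K).1 h) hK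
      refine ih ↥K (by omega) (hab.sub K) (H.subgroupOf K) ?_ j hj
      refine hH.of_dvd_nat ?_
      rw [← Subgroup.inf_subgroupOf_right,
        Nat.card_congr (Subgroup.subgroupOfEquivOfLe (inf_le_right : H ⊓ K ≤ K)).toEquiv]
      exact Subgroup.card_dvd_of_le inf_le_left
    -- simplicity
    have hsimple : ∀ N : Subgroup G, N.Normal → N = ⊥ ∨ N = ⊤ := by
      intro N hN
      by_contra hcon
      push Not at hcon
      obtain ⟨hNb, hNt⟩ := hcon
      obtain ⟨j, -, hj⟩ := (Nat.dvd_prime_pow Nat.prime_two).1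
        (hk ▸ FiniteGroup.relIndex_dvd_index_of_normal_right H N)
      haveI : Group.IsSolvable ↥N := hsub N hNt ⟨j, hj⟩
      have hlt : Nat.card (G ⧸ N) < Nat.card G := by
        have h1 := Subgroup.card_eq_card_quotient_mul_card_subgroup N
        have h2 : 1 < Nat.card N := (Subgroup.one_lt_card_iff_ne_bot N).2 hNb
        have h3 : 0 < Nat.card (G ⧸ N) := Nat.card_pos
        nlinarith
      obtain ⟨i, -, hi⟩ := (Nat.dvd_prime_pow Nat.prime_two).1
        (hk ▸ Subgroup.index_map_dvd H (QuotientGroup.mk'_surjective N))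
      haveI : Group.IsSolvable (G ⧸ N) := ih (G ⧸ N) (by omega) (hab.quotient N)
        (H.map (QuotientGroup.mk' N)) (hH.of_dvd_nat (Subgroup.card_map_dvd _ _)) i hi
      exact hns (Group.isSolvable_of_ker_le_range N.subtype (QuotientGroup.mk' N) (by simp))
    have hcen : Subgroup.center G = ⊥ := by
      rcases hsimple (Subgroup.center G) inferInstance with h | h
      · exact h
      · refine absurd (Group.isSolvable_of_comm fun a b => ?_) hns
        exact ((Subgroup.mem_center_iff.1 (h ▸ Subgroup.mem_top a)) b).symm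
    have hHtop : H ≠ ⊤ := fun h => hns (hOS G (by rwa [h, Subgroup.card_top] at hH))
    -- the Sylow subgroup is a complement
    obtain ⟨S⟩ : Nonempty (Sylow 2 G) := inferInstance
    have hcard : Nat.card (S : Subgroup G) = 2 ^ k := by
      rw [S.card_eq_multiplicity, ← H.card_mul_index, hk]
      rw [Nat.factorization_mul Nat.card_pos.ne' (by positivity), Finsupp.add_apply,
        Nat.factorization_eq_zero_of_not_dvd (fun h => (Nat.not_even_iff_odd.2 hH) (even_iff_two_dvd.2 h)),
        zero_add, Nat.prime_two.factorization_pow, Finsupp.single_eq_same]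
    have hco : (Nat.card H).Coprime (Nat.card (S : Subgroup G)) := by
      rw [hcard]
      exact Nat.Coprime.pow_right _ hH.coprime_two_right
    have hcomp : H.IsComplement' (S : Subgroup G) :=
      Subgroup.isComplement'_of_coprime (by rw [hcard, ← hk, H.card_mul_index]) hco
    have hHS : ∀ g : G, ∃ h ∈ H, ∃ s ∈ (S : Subgroup G), g = h * s := by
      intro g
      obtain ⟨⟨h, s⟩, he⟩ := hcomp.existsUnique g |>.exists
      exact ⟨h, h.2, s, s.2, he.symm⟩
    have hSne : (S : Subgroup G) ≠ ⊥ := by
      intro h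
      refine hHtop (eq_top_iff.2 fun g _ => ?_)
      obtain ⟨a, ha, s, hs, rfl⟩ := hHS g
      rw [h, Subgroup.mem_bot] at hs
      rwa [hs, mul_one]
    have hSab : ∀ a ∈ (S : Subgroup G), ∀ b ∈ (S : Subgroup G), a * b = b * a := hab _ S.2
    set M := Subgroup.normalizer ((S : Subgroup G) : Set G) with hM
    -- centralizers of nontrivial elements of S normalize S
    have hCM : ∀ t ∈ (S : Subgroup G), t ≠ 1 →
        Subgroup.centralizer ({t} : Set G) ≤ M := by
      intro t ht ht1
      set C := Subgroup.centralizer ({t} : Set G) with hC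
      have hSC : (S : Subgroup G) ≤ C := fun s hs =>
        Subgroup.mem_centralizer_singleton_iff.2 (hSab s hs t ht)
      have hCtop : C ≠ ⊤ := fun h => ht1 (by
        have h1 : t ∈ Subgroup.center G := Subgroup.mem_center_iff.2 fun g =>
          (Subgroup.mem_centralizer_singleton_iff.1 (h ▸ Subgroup.mem_top g : g ∈ C))
        rwa [hcen, Subgroup.mem_bot] at h1)
      have hHC : ∀ c ∈ C, ∃ h ∈ H ⊓ C, ∃ s ∈ (S : Subgroup G), c = h * s := by
        intro c hc
        obtain ⟨h, hh, s, hs, rfl⟩ := hHS c
        refine ⟨h, ⟨hh, ?_⟩, s, hs, rfl⟩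
        have := mul_mem hc (inv_mem (hSC hs))
        rwa [mul_inv_cancel_right] at this
      have hCcard : Nat.card C = Nat.card ↥(H ⊓ C) * Nat.card (S : Subgroup G) := by
        rw [← Nat.card_prod]
        refine (Nat.card_congr (Equiv.ofBijective
          (fun hs : ↥(H ⊓ C) × (S : Subgroup G) =>
            (⟨(hs.1 : G) * hs.2, mul_mem hs.1.2.2 (hSC hs.2.2)⟩ : C)) ⟨?_, ?_⟩)).symm
        · rintro ⟨a, b⟩ ⟨a', b'⟩ he
          have he' : (a : G) * (b : G) = (a' : G) * (b' : G) := congrArg Subtype.val he
          have h1 : (a' : G)⁻¹ * (a : G) = (b' : G) * (b : G)⁻¹ := by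
            rw [eq_mul_inv_iff_mul_eq, mul_assoc, he', inv_mul_cancel_left]
          have h2 : (a' : G)⁻¹ * (a : G) = 1 := Subgroup.disjoint_def.1 hcomp.disjoint
            (mul_mem (inv_mem a'.2.1) a.2.1) (h1 ▸ mul_mem b'.2 (inv_mem b.2))
          refine Prod.ext (Subtype.ext (inv_mul_eq_one.1 h2).symm) (Subtype.ext ?_)
          rw [h2] at h1
          exact (mul_inv_eq_one.1 h1.symm).symm
        · intro c
          obtain ⟨h, hh, s, hs, e⟩ := hHC c c.2
          exact ⟨(⟨h, hh⟩, ⟨s, hs⟩), Subtype.ext e.symm⟩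
      have hrel : H.relIndex C = 2 ^ k := by
        have h1 := (H.subgroupOf C).card_mul_index
        rw [← Subgroup.inf_subgroupOf_right,
          Nat.card_congr (Subgroup.subgroupOfEquivOfLe (inf_le_right : H ⊓ C ≤ C)).toEquiv,
          hCcard, hcard, Subgroup.inf_subgroupOf_right] at h1
        exact Nat.eq_of_mul_eq_mul_left Nat.card_pos h1
      haveI : Group.IsSolvable ↥C := hsub C hCtop ⟨k, hrel⟩
      -- the odd core of C is trivial
      have hcore : Cfsg.pPrimeCore 2 ↥C = ⊥ := by
        set D := Cfsg.pPrimeCore 2 ↥C with hD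
        haveI hDn : D.Normal := FittingCores.pPrimeCore_normal 2
        have hDodd : Odd (Nat.card D) :=
          Nat.coprime_two_right.1 (FittingCores.pPrimeCore_coprime 2)
        set HC := H.subgroupOf C with hHCdef
        have hHCi : HC.index = 2 ^ k := hrel
        have hDle : D ≤ HC := by
          rw [← Subgroup.relIndex_eq_one]
          have h1 : HC.relIndex D ∣ 2 ^ k :=
            hHCi ▸ FiniteGroup.relIndex_dvd_index_of_normal_right HC D
          have h2 : HC.relIndex D ∣ Nat.card D := Subgroup.index_dvd_card _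
          exact Nat.eq_one_of_dvd_coprimes
            (Nat.Coprime.pow_right k (Nat.coprime_two_right.2 hDodd)) h2 h1
        rw [eq_bot_iff]
        intro d hd
        have hcl : Subgroup.normalClosure ({(d : G)} : Set G) ≤ H := by
          rw [Subgroup.normalClosure, Subgroup.closure_le]
          intro y hy
          obtain ⟨x, hx, hc⟩ := Group.mem_conjugatesOfSet_iff.mp hy
          rw [Set.mem_singleton_iff] at hx
          subst hx
          obtain ⟨g, rfl⟩ := isConj_iff.mp hc
          obtain ⟨h, hh, s, hs, rfl⟩ := hHS g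
          have h3 : (⟨s, hSC hs⟩ : C) * d * (⟨s, hSC hs⟩ : C)⁻¹ ∈ D := hDn.conj_mem d hd _
          have h4 : s * (d : G) * s⁻¹ ∈ H := hDle h3
          have h5 : h * s * (d : G) * (h * s)⁻¹ = h * (s * (d : G) * s⁻¹) * h⁻¹ := by group
          rw [h5]
          exact mul_mem (mul_mem hh h4) (inv_mem hh)
        rcases hsimple _ Subgroup.normalClosure_normal with h | h
        · have h1 : (d : G) ∈ (⊥ : Subgroup G) :=
            h ▸ Subgroup.subset_normalClosure (Set.mem_singleton _)
          exact Subgroup.mem_bot.2 (Subtype.ext (Subgroup.mem_bot.1 h1))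
        · exact absurd (eq_top_iff.2 (h ▸ hcl)) hHtop
      -- hence S is normal in C
      set S' := S.subtype hSC with hS'
      have hOS' : Cfsg.pCore 2 ↥C ≤ (S' : Subgroup ↥C) := by
        have h1 : IsPGroup 2 ((S' : Subgroup ↥C) ⊔ Cfsg.pCore 2 ↥C : Subgroup ↥C) :=
          haveI := FittingCores.pCore_normal (G := ↥C) 2
          S'.isPGroup'.to_sup_of_normal_right (FittingCores.pCore_isPGroup 2)
        exact le_sup_right.trans (le_of_eq (S'.is_maximal' h1 le_sup_left))
      have hS'eq : (S' : Subgroup ↥C) = Cfsg.pCore 2 ↥C := by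
        refine le_antisymm ?_ hOS'
        refine le_trans (fun s hs => ?_) (FittingCores.centralizer_pCore_le Nat.prime_two hcore)
        exact Subgroup.mem_centralizer_iff.2 fun o ho =>
          Subtype.ext (hSab _ (hOS' ho) _ hs)
      intro c hc
      rw [hM, Subgroup.mem_normalizer_iff]
      intro s
      have hn : (S' : Subgroup ↥C).Normal := hS'eq ▸ FittingCores.pCore_normal 2
      constructor
      · intro hs
        exact hn.conj_mem ⟨s, hSC hs⟩ hs ⟨c, hc⟩
      · intro hs
        have h1 : (⟨c, hc⟩ : C)⁻¹ * ⟨c * s * c⁻¹, hSC hs⟩ * (⟨c, hc⟩ : C)⁻¹⁻¹ ∈ (S' : Subgroup ↥C) :=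
          hn.conj_mem ⟨c * s * c⁻¹, hSC hs⟩ hs (⟨c, hc⟩ : C)⁻¹
        have h2 : c⁻¹ * (c * s * c⁻¹) * c⁻¹⁻¹ ∈ (S : Subgroup G) := h1
        rwa [show c⁻¹ * (c * s * c⁻¹) * c⁻¹⁻¹ = s by group] at h2
    have hSM : (S : Subgroup G) ≤ M := Subgroup.le_normalizer
    have hMtop : M ≠ ⊤ := by
      intro h
      haveI := Subgroup.normalizer_eq_top_iff.1 h
      rcases hsimple _ this with h1 | h1
      · exact hSne h1
      · exact hns (Group.isSolvable_of_comm fun a b =>
          hSab a (h1 ▸ Subgroup.mem_top a) b (h1 ▸ Subgroup.mem_top b))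
    -- 2-elements of M lie in S
    have hMS : ∀ w ∈ M, ∀ i : ℕ, orderOf w ∣ 2 ^ i → w ∈ (S : Subgroup G) := by
      intro w hw i hi
      have hp : IsPGroup 2 (Subgroup.zpowers w) := by
        obtain ⟨j, -, hj⟩ := (Nat.dvd_prime_pow Nat.prime_two).1 hi
        exact IsPGroup.of_card (n := j) (by rw [Nat.card_zpowers, hj])
      have h1 : IsPGroup 2 ((Subgroup.zpowers w) ⊔ (S : Subgroup G) : Subgroup G) :=
        hp.to_sup_of_normal_right' S.2 (Subgroup.zpowers_le.2 hw)
      rw [← S.is_maximal' h1 le_sup_right]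
      exact (le_sup_left : _ ≤ Subgroup.zpowers w ⊔ (S : Subgroup G)) (Subgroup.mem_zpowers w)
    have hpowM : ∀ x ∈ M, Odd (orderOf x) ∨ ∃ w ∈ (S : Subgroup G), w ≠ 1 ∧ orderOf w = 2 ∧
        ∃ i : ℕ, w = x ^ i := by
      intro x hx
      rcases Nat.even_or_odd (orderOf x) with h | h
      · refine Or.inr ⟨x ^ (orderOf x / 2), ?_, ?_, ?_, _, rfl⟩
        all_goals have h2 := orderOf_pow_orderOf_div (orderOf_pos x).ne' (even_iff_two_dvd.1 h)
        · exact hMS _ (pow_mem hx _) 1 (by rw [h2, pow_one])
        · intro h1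
          rw [h1, orderOf_one] at h2
          omega
        · exact h2
      · exact Or.inl h
    -- no element of odd order with a centralizer of even order is inverted by an involution
    have hreal : ∀ x u : G, Odd (orderOf x) → orderOf u = 2 → u * x * u⁻¹ = x⁻¹ →
        Even (Nat.card (Subgroup.centralizer ({x} : Set G))) → x = 1 := by
      intro x u hxo hu huinv hev
      set C := Subgroup.centralizer ({x} : Set G) with hC
      have huC : Subgroup.zpowers u ≤ Subgroup.normalizer (C : Set G) := by
        rw [Subgroup.zpowers_le, Subgroup.mem_normalizer_iff]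
        have key : ∀ c : G, c ∈ C → u * c * u⁻¹ ∈ C := by
          intro c hc
          rw [hC, Subgroup.mem_centralizer_singleton_iff] at hc ⊢
          have hxe : x = u * x⁻¹ * u⁻¹ := by
            rw [← huinv]
            have huu : u * u = 1 := by rw [← pow_two, ← hu, pow_orderOf_eq_one]
            have hui : u⁻¹ = u := inv_eq_of_mul_eq_one_right huu
            rw [hui]; simp [mul_assoc, huu]
            rw [← mul_assoc u u, huu, one_mul]
          rw [hxe]
          have hc' : c * x⁻¹ = x⁻¹ * c := (Commute.inv_right (show Commute c x from hc)).eq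
          calc u * c * u⁻¹ * (u * x⁻¹ * u⁻¹) = u * (c * x⁻¹) * u⁻¹ := by group
            _ = u * (x⁻¹ * c) * u⁻¹ := by rw [hc']
            _ = _ := by group
        intro c
        refine ⟨key c, fun h => ?_⟩
        have huu : u * u = 1 := by rw [← pow_two, ← hu, pow_orderOf_eq_one]
        have hui : u⁻¹ = u := inv_eq_of_mul_eq_one_right huu
        have := key _ h
        rwa [hui, show u * (u * c * u) * u = (u * u) * c * (u * u) by group, huu, one_mul,
          mul_one] at this
      set K := Subgroup.zpowers u ⊔ C with hK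
      haveI hCn : (C.subgroupOf K).Normal :=
        Subgroup.normal_subgroupOf_of_le_normalizer (sup_le huC Subgroup.le_normalizer)
      obtain ⟨P, hP⟩ := ((IsPGroup.of_card (n := 1) (by
          rw [Nat.card_zpowers, Subgroup.orderOf_mk, hu, pow_one]) :
        IsPGroup 2 (Subgroup.zpowers (⟨u, le_sup_left (a := Subgroup.zpowers u)
          (Subgroup.mem_zpowers u)⟩ : K))) |> fun h => h.exists_le_sylow)
      have h2 : 2 ∣ Nat.card (C.subgroupOf K) := by
        rw [Nat.card_congr (Subgroup.subgroupOfEquivOfLe (le_sup_right : C ≤ K)).toEquiv]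
        exact even_iff_two_dvd.1 hev
      obtain ⟨⟨t, htC⟩, htP, ht2⟩ : ∃ t : K, t ∈ (P : Subgroup K) ∧ t ∈ C.subgroupOf K ∧
          orderOf t = 2 := by
        obtain ⟨⟨t, htm⟩, hto⟩ := exists_prime_orderOf_dvd_card' 2 h2
        rw [Subgroup.orderOf_mk] at hto
        obtain ⟨Q, hQ⟩ := (IsPGroup.of_card (n := 1) (by rw [Nat.card_zpowers, hto, pow_one]) :
          IsPGroup 2 (Subgroup.zpowers t)).exists_le_sylow
        obtain ⟨c, hc⟩ := MulAction.exists_smul_eq K Q P
        refine ⟨c * t * c⁻¹, ?_, hCn.conj_mem t htm c, ?_⟩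
        · rw [← hc, Sylow.coe_subgroup_smul, ← MulAut.conj_apply, ← MulAut.smul_def]
          exact Subgroup.smul_mem_pointwise_smul _ _ _ (hQ (Subgroup.mem_zpowers t))
        · rw [← MulAut.conj_apply, MulEquiv.orderOf_eq, hto]
      have htu : Commute t u :=
        congrArg Subtype.val ((hab.sub K) _ P.2 _ htP _ (hP (Subgroup.mem_zpowers _)))
      have htx : x * t = t * x := (Subgroup.mem_centralizer_singleton_iff.1 ht2.1).symm
      have hto : orderOf t = 2 := by rw [← ht2.2, Subgroup.orderOf_mk]
      -- move `t` into `S`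
      obtain ⟨g, hg⟩ : ∃ g : G, g⁻¹ * t * g ∈ (S : Subgroup G) := by
        obtain ⟨Q, hQ⟩ := (IsPGroup.of_card (n := 1) (by rw [Nat.card_zpowers, hto, pow_one]) :
          IsPGroup 2 (Subgroup.zpowers t)).exists_le_sylow
        obtain ⟨c, hc⟩ := MulAction.exists_smul_eq G Q S
        refine ⟨c⁻¹, ?_⟩
        rw [inv_inv, ← hc, Sylow.coe_subgroup_smul, ← MulAut.conj_apply, ← MulAut.smul_def]
        exact Subgroup.smul_mem_pointwise_smul _ _ _ (hQ (Subgroup.mem_zpowers t))
      set f := (MulAut.conj g⁻¹).toMonoidHom with hf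
      have hfa : ∀ a, f a = g⁻¹ * a * g := fun a => by simp [hf]
      have ht' : f t ∈ (S : Subgroup G) := by rwa [hfa]
      have ht1 : f t ≠ 1 := fun h => by
        rw [map_eq_one_iff f (MulAut.conj g⁻¹).injective] at h
        rw [h, orderOf_one] at hto
        omega
      have hxM : f x ∈ M := hCM _ ht' ht1 (Subgroup.mem_centralizer_singleton_iff.2 (by
        rw [← map_mul, ← map_mul, htx]))
      have huM : f u ∈ M := hCM _ ht' ht1 (Subgroup.mem_centralizer_singleton_iff.2 (by
        rw [← map_mul, ← map_mul, htu.eq]))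
      have huS : f u ∈ (S : Subgroup G) := hMS _ huM 1 (by
        rw [pow_one]; exact (orderOf_map_dvd f u).trans (dvd_of_eq hu))
      have hxx : f (x⁻¹ * x⁻¹) ∈ (S : Subgroup G) := by
        have h1 : f x * (f u)⁻¹ * (f x)⁻¹ ∈ (S : Subgroup G) :=
          (Subgroup.mem_normalizer_iff.1 hxM _).1 (inv_mem huS)
        have h2 := mul_mem huS h1
        rwa [← map_inv, ← map_inv, ← map_mul, ← map_mul, ← map_mul, ← mul_assoc,
          ← mul_assoc, huinv] at h2
      obtain ⟨j, hj⟩ := S.2 ⟨_, hxx⟩
      have h1 : f (x⁻¹ * x⁻¹) ^ 2 ^ j = 1 := congrArg Subtype.val hj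
      rw [← map_pow, map_eq_one_iff f (MulAut.conj g⁻¹).injective, ← pow_two, ← pow_mul,
        inv_pow, inv_eq_one] at h1
      exact orderOf_eq_one_iff.1 (Nat.eq_one_of_dvd_coprimes
        (Nat.Coprime.mul_right (Nat.coprime_two_right.2 hxo)
          (Nat.Coprime.pow_right j (Nat.coprime_two_right.2 hxo)))
        dvd_rfl (orderOf_dvd_of_pow_eq_one h1))
    -- two involutions of S
    have hSpow : ∀ s ∈ (S : Subgroup G), ∃ j : ℕ, s ^ 2 ^ j = 1 := fun s hs => by
      obtain ⟨j, hj⟩ := S.2 ⟨s, hs⟩
      exact ⟨j, congrArg Subtype.val hj⟩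
    obtain ⟨t, htS, hto⟩ : ∃ t ∈ (S : Subgroup G), orderOf t = 2 := by
      obtain ⟨⟨t, ht⟩, hto⟩ := exists_prime_orderOf_dvd_card' (G := (S : Subgroup G)) 2 (by
        rw [hcard]
        refine dvd_pow_self _ fun h => hSne ?_
        rw [← Subgroup.card_eq_one, hcard, h, pow_zero])
      exact ⟨t, ht, by rwa [Subgroup.orderOf_mk] at hto⟩
    obtain ⟨t₂, ht₂S, ht₂o, htt⟩ : ∃ t₂ ∈ (S : Subgroup G), orderOf t₂ = 2 ∧ t₂ ≠ t := by
      by_contra hcon
      push Not at hcon
      -- then M centralizes S, and Burnside's transfer theorem applies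
      have hsq : ∀ v ∈ (S : Subgroup G), v * v = 1 → v = 1 ∨ v = t := by
        intro v hv h
        by_cases hv1 : v = 1
        · exact Or.inl hv1
        exact Or.inr (hcon v hv (orderOf_eq_prime (by rw [pow_two, h]) hv1))
      have hMc : ∀ x ∈ M, ∀ s ∈ (S : Subgroup G), x * s = s * x := by
        intro x hx
        obtain ⟨m, i, hm, hi⟩ : ∃ m i : ℕ, Odd m ∧ orderOf x = 2 ^ i * m := by
          obtain ⟨i, m, hm, he⟩ := Nat.exists_eq_two_pow_mul_odd (orderOf_pos x).ne'
          exact ⟨m, i, hm, he⟩
        -- odd part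
        have hodd : ∀ y ∈ M, Odd (orderOf y) → ∀ s ∈ (S : Subgroup G), y * s = s * y := by
          intro y hy hyo
          have hcomm : ∀ j : ℕ, ∀ s ∈ (S : Subgroup G), s ^ 2 ^ j = 1 → y * s = s * y := by
            intro j
            induction j with
            | zero => intro s _ h; rw [pow_zero, pow_one] at h; simp [h]
            | succ j ihj =>
              intro s hs h
              have hs2 : y * (s * s) = s * s * y := ihj _ (mul_mem hs hs) (by
                rw [← pow_two, ← pow_mul, ← pow_succ']; exact h)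
              have hys : y * s * y⁻¹ ∈ (S : Subgroup G) :=
                (Subgroup.mem_normalizer_iff.1 hy s).1 hs
              set d := s⁻¹ * (y * s * y⁻¹) with hd
              have hdS : d ∈ (S : Subgroup G) := mul_mem (inv_mem hs) hys
              have hcm : Commute (y * s * y⁻¹) s⁻¹ := hSab _ hys _ (inv_mem hs)
              have hd2 : d * d = 1 := by
                calc d * d = s⁻¹ * ((y * s * y⁻¹) * s⁻¹) * (y * s * y⁻¹) := by rw [hd]; group
                  _ = s⁻¹ * (s⁻¹ * (y * s * y⁻¹)) * (y * s * y⁻¹) := by rw [hcm.eq]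
                  _ = s⁻¹ * s⁻¹ * (y * (s * s) * y⁻¹) := by group
                  _ = 1 := by rw [hs2]; group
              have hdy : y * d = d * y := by
                rcases hsq d hdS hd2 with h1 | h1
                · simp [h1]
                · have hyt : y * t * y⁻¹ ∈ (S : Subgroup G) :=
                    (Subgroup.mem_normalizer_iff.1 hy t).1 htS
                  have ho : orderOf (y * t * y⁻¹) = 2 := by
                    rw [← MulAut.conj_apply, MulEquiv.orderOf_eq, hto]
                  have := hcon _ hyt ho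
                  rw [h1]
                  calc y * t = (y * t * y⁻¹) * y := by group
                    _ = t * y := by rw [this]
              have hiter : ∀ i : ℕ, y ^ i * s * (y ^ i)⁻¹ = s * d ^ i := by
                intro i
                induction i with
                | zero => simp
                | succ i ihi =>
                  calc y ^ (i + 1) * s * (y ^ (i + 1))⁻¹
                      = y * (y ^ i * s * (y ^ i)⁻¹) * y⁻¹ := by rw [pow_succ']; group
                    _ = y * (s * d ^ i) * y⁻¹ := by rw [ihi]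
                    _ = (y * s * y⁻¹) * (y * d ^ i * y⁻¹) := by group
                    _ = (y * s * y⁻¹) * d ^ i := by
                      rw [(Commute.pow_right (show Commute y d from hdy) i).eq]; group
                    _ = s * d ^ (i + 1) := by
                      rw [pow_succ', ← mul_assoc, show s * d = y * s * y⁻¹ by
                        rw [hd, mul_inv_cancel_left]]
              have h1 := hiter (orderOf y)
              rw [pow_orderOf_eq_one, one_mul, inv_one, mul_one] at h1
              have h2 : d ^ orderOf y = 1 := mul_left_cancel (h1.symm.trans (mul_one s).symm)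
              obtain ⟨q, hq⟩ := hyo
              rw [hq, pow_succ, pow_mul, pow_two, hd2, one_pow, one_mul] at h2
              calc y * s = (y * s * y⁻¹) * y := by group
                _ = s * y := by rw [← inv_mul_eq_one.1 h2]
          intro s hs
          obtain ⟨j, hj⟩ := hSpow s hs
          exact hcomm j s hs hj
        intro s hs
        have hco' : Nat.Coprime (2 ^ i) m := Nat.Coprime.pow_left i (Nat.coprime_two_left.2 hm)
        have hxm : x ^ m ∈ (S : Subgroup G) := hMS _ (pow_mem hx m) i (by
          apply orderOf_dvd_of_pow_eq_one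
          rw [← pow_mul, mul_comm, ← hi, pow_orderOf_eq_one])
        have h2i : Odd (orderOf (x ^ 2 ^ i)) := by
          refine hm.of_dvd_nat (orderOf_dvd_of_pow_eq_one ?_)
          rw [← pow_mul, ← hi, pow_orderOf_eq_one]
        have c1 : Commute (x ^ 2 ^ i) s := hodd _ (pow_mem hx _) h2i s hs
        have c2 : Commute (x ^ m) s := hSab _ hxm s hs
        have hb := Nat.gcd_eq_gcd_ab (2 ^ i) m
        rw [hco'.gcd_eq_one, Nat.cast_one] at hb
        have hx' : x = (x ^ 2 ^ i) ^ (Nat.gcdA (2 ^ i) m) * (x ^ m) ^ (Nat.gcdB (2 ^ i) m) := by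
          rw [← zpow_natCast, ← zpow_natCast, ← zpow_mul, ← zpow_mul, ← zpow_add, ← hb, zpow_one]
        rw [hx']
        exact ((c1.zpow_left _).mul_left (c2.zpow_left _)).eq
      have hb : Subgroup.normalizer ((S : Subgroup G) : Set G) ≤
          Subgroup.centralizer ((S : Subgroup G) : Set G) := fun x hx =>
        Subgroup.mem_centralizer_iff.2 fun s hs => (hMc x hx s hs).symm
      have hker := MonoidHom.ker_transferSylow_isComplement' S hb
      rcases hsimple _ (MonoidHom.normal_ker (MonoidHom.transferSylow S hb)) with h | h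
      · rw [h, Subgroup.isComplement'_bot_left] at hker
        exact hMtop (eq_top_iff.2 (hker ▸ hSM))
      · rw [h, Subgroup.isComplement'_top_left] at hker
        exact hSne hker
    -- an inverted element of odd prime order in M
    obtain ⟨u, x, hu, huinv, hxM, hxp⟩ : ∃ u x : G, orderOf u = 2 ∧ u * x * u⁻¹ = x⁻¹ ∧ x ∈ M ∧
        ∃ q : ℕ, q.Prime ∧ Odd q ∧ orderOf x = q := by
      -- two involutions in one coset
      obtain ⟨u₁, u₂, hu₁, hu₂, hne, hcos, hu₁M⟩ : ∃ u₁ u₂ : G, orderOf u₁ = 2 ∧ orderOf u₂ = 2 ∧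
          u₁ ≠ u₂ ∧ u₁⁻¹ * u₂ ∈ M ∧ u₁ ∉ M := by
        by_contra hcon
        push Not at hcon
        let ι : Sylow 2 G → G := fun P => (MulAction.exists_smul_eq G S P).choose
        have hι : ∀ P : Sylow 2 G, ι P • S = P := fun P =>
          (MulAction.exists_smul_eq G S P).choose_spec
        let f : Sylow 2 G × Bool → G := fun Pb =>
          ι Pb.1 * (if Pb.2 then t else t₂) * (ι Pb.1)⁻¹
        have hfo : ∀ Pb, orderOf (f Pb) = 2 := fun Pb => by
          simp only [f, ← MulAut.conj_apply, MulEquiv.orderOf_eq]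
          cases Pb.2
          · simpa using ht₂o
          · simpa using hto
        have hfin : ∀ Pb : Sylow 2 G × Bool, f Pb ∈ (Pb.1 : Subgroup G) := fun Pb => by
          have e : (Pb.1 : Subgroup G) = ((ι Pb.1 • S : Sylow 2 G) : Subgroup G) := by rw [hι]
          rw [e, Sylow.coe_subgroup_smul]
          simp only [f, ← MulAut.conj_apply, ← MulAut.smul_def]
          refine Subgroup.smul_mem_pointwise_smul _ _ _ ?_
          cases Pb.2
          · simpa using ht₂S
          · simpa using htS
        have huniq : ∀ (P : Sylow 2 G) (v : G), orderOf v = 2 → v ∈ (P : Subgroup G) →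
            v ∈ (S : Subgroup G) → P = S := by
          intro P v hv hvP hvS
          have hv1 : v ≠ 1 := fun h => by rw [h, orderOf_one] at hv; omega
          have hPab := hab _ P.2
          refine Sylow.ext (Eq.symm (P.is_maximal' S.2 fun w hw => ?_))
          have hwM : w ∈ M :=
            hCM v hvS hv1 (Subgroup.mem_centralizer_singleton_iff.2 (hPab w hw v hvP))
          obtain ⟨j, hj⟩ := P.2 ⟨w, hw⟩
          exact hMS w hwM j (orderOf_dvd_of_pow_eq_one (congrArg Subtype.val hj))
        have hfinj : Function.Injective f := by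
          rintro ⟨P, b⟩ ⟨P', b'⟩ he
          have hPP : P = P' := by
            set c := ι P with hc
            have h1 : f (P', b') ∈ (P : Subgroup G) := he ▸ hfin (P, b)
            have key : ((c⁻¹ • P' : Sylow 2 G)) = S := huniq (c⁻¹ • P') (c⁻¹ * f (P', b') * c)
              (by rw [show c⁻¹ * f (P', b') * c = MulAut.conj c⁻¹ (f (P', b')) by simp,
                  MulEquiv.orderOf_eq]; exact hfo _)
              (by
                rw [Sylow.coe_subgroup_smul,
                  show c⁻¹ * f (P', b') * c = MulAut.conj c⁻¹ • f (P', b') by simp]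
                exact Subgroup.smul_mem_pointwise_smul _ _ _ (hfin (P', b')))
              (by
                rw [← hι P, ← hc, Sylow.coe_subgroup_smul,
                  Subgroup.mem_pointwise_smul_iff_inv_smul_mem] at h1
                simpa [← map_inv, MulAut.smul_def] using h1)
            calc P = c • S := (hι P).symm
              _ = P' := by rw [← key, smul_inv_smul]
          subst hPP
          have h2 : (if b then t else t₂) = (if b' then t else t₂) :=
            mul_left_cancel (mul_right_cancel he)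
          cases b <;> cases b' <;> first | rfl | (exfalso; simp at h2; exact htt (by first | exact h2 | exact h2.symm))
        -- involutions outside M
        have hout : ∀ Pb : {Pb : Sylow 2 G × Bool // Pb.1 ≠ S}, f Pb.1 ∉ M := fun Pb hmem =>
          Pb.2 (huniq _ _ (hfo _) (hfin _) (hMS _ hmem 1 (by rw [hfo, pow_one])))
        let F : {Pb : Sylow 2 G × Bool // Pb.1 ≠ S} →
            {c : G ⧸ M // c ≠ QuotientGroup.mk 1} := fun Pb =>
          ⟨QuotientGroup.mk (f Pb.1), fun h => hout Pb (by
            rw [QuotientGroup.eq, mul_one] at h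
            exact inv_mem_iff.1 h)⟩
        have hFinj : Function.Injective F := by
          intro a b he
          have h1 : (QuotientGroup.mk (f a.1) : G ⧸ M) = QuotientGroup.mk (f b.1) :=
            congrArg Subtype.val he
          rw [QuotientGroup.eq] at h1
          apply Subtype.ext
          apply hfinj
          by_contra hne
          exact hout a (hcon _ _ (hfo _) (hfo _) hne h1)
        have hc1 := Nat.card_le_card_of_injective F hFinj
        have hidx : Nat.card (Sylow 2 G) = M.index := S.card_eq_index_normalizer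
        haveI := Fintype.ofFinite (Sylow 2 G)
        haveI := Fintype.ofFinite (G ⧸ M)
        have e1 : Nat.card {Pb : Sylow 2 G × Bool // Pb.1 ≠ S} = 2 * (M.index - 1) := by
          rw [Nat.card_congr (Equiv.prodSubtypeFstEquivSubtypeProd (p := fun P : Sylow 2 G => P ≠ S)), Nat.card_prod,
            Nat.card_eq_fintype_card, Fintype.card_subtype_compl, Fintype.card_subtype_eq,
            ← Nat.card_eq_fintype_card, hidx, Nat.card_eq_fintype_card, Fintype.card_bool, mul_comm]
        have e2 : Nat.card {c : G ⧸ M // c ≠ QuotientGroup.mk 1} = M.index - 1 := by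
          rw [Nat.card_eq_fintype_card, Fintype.card_subtype_compl, Fintype.card_subtype_eq,
            ← Nat.card_eq_fintype_card]
          rfl
        have h2 : 1 < M.index := Subgroup.one_lt_index_of_ne_top hMtop
        omega
      set x := u₁⁻¹ * u₂ with hx
      have hinv : u₁ * x * u₁⁻¹ = x⁻¹ := by
        have h2 : u₂ * u₂ = 1 := by rw [← pow_two, ← hu₂, pow_orderOf_eq_one]
        have h3 : u₁ * u₁ = 1 := by rw [← pow_two, ← hu₁, pow_orderOf_eq_one]
        rw [hx, mul_inv_rev, inv_inv, inv_eq_of_mul_eq_one_right h2, ← mul_assoc, mul_inv_cancel,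
          one_mul, inv_eq_of_mul_eq_one_right h3]
      have hpow : ∀ i : ℕ, u₁ * x ^ i * u₁⁻¹ = (x ^ i)⁻¹ := fun i => by
        rw [← conj_pow, hinv, inv_pow]
      have hxo : Odd (orderOf x) := by
        rcases hpowM x hcos with h | ⟨w, hwS, hw1, hw2, i, rfl⟩
        · exact h
        · refine absurd (hCM _ hwS hw1 (Subgroup.mem_centralizer_singleton_iff.2 ?_)) hu₁M
          have hwi : (x ^ i)⁻¹ = x ^ i :=
            inv_eq_of_mul_eq_one_right (by rw [← pow_two, ← hw2, pow_orderOf_eq_one])
          calc u₁ * x ^ i = (u₁ * x ^ i * u₁⁻¹) * u₁ := by group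
            _ = x ^ i * u₁ := by rw [hpow, hwi]
      have hx1 : orderOf x ≠ 1 := fun h => hne (inv_mul_eq_one.1 (orderOf_eq_one_iff.1 h))
      obtain ⟨q, hq, hqd⟩ := Nat.exists_prime_and_dvd hx1
      refine ⟨u₁, x ^ (orderOf x / q), hu₁, hpow _, pow_mem hcos _, q, hq, hxo.of_dvd_nat hqd, ?_⟩
      exact orderOf_pow_orderOf_div (orderOf_pos x).ne' hqd
    obtain ⟨q, hq, hqo, hxo⟩ := hxp
    haveI := Fact.mk hq
    have hCodd : ¬ Even (Nat.card (Subgroup.centralizer ({x} : Set G))) := fun h => by
      rw [hreal x u (hxo.symm ▸ hqo) hu huinv h, orderOf_one] at hxo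
      exact hq.ne_one hxo.symm
    -- count the fixed points of x on the cosets of H
    have hX : IsPGroup q (Subgroup.zpowers x) :=
      IsPGroup.of_card (n := 1) (by rw [Nat.card_zpowers, hxo, pow_one])
    have hnd : ¬ q ∣ Nat.card (G ⧸ H) := by
      rw [show Nat.card (G ⧸ H) = 2 ^ k from hk]
      intro h
      have h2 := (Nat.prime_dvd_prime_iff_eq hq Nat.prime_two).1 (hq.dvd_of_dvd_pow h)
      rw [h2] at hqo
      exact absurd hqo (by decide)
    obtain ⟨a, ha⟩ : ∃ a : G ⧸ H, a ∈ MulAction.fixedPoints (Subgroup.zpowers x) (G ⧸ H) :=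
      hX.nonempty_fixed_point_of_prime_not_dvd_card (G ⧸ H) hnd
    have hax : x • a = a := ha ⟨x, Subgroup.mem_zpowers x⟩
    -- uniqueness
    have hun : ∀ b : G ⧸ H, x • b = b → b = a := by
      intro b hb
      induction a using QuotientGroup.induction_on with
      | _ ga =>
      induction b using QuotientGroup.induction_on with
      | _ gb =>
      obtain ⟨h, hh, s, hs, he⟩ := hHS (ga⁻¹ * gb)
      obtain ⟨h', hh', s', hs', he'⟩ := hHS (gb * ga⁻¹)⁻¹
      -- the element of S moving `a` to `b`
      obtain ⟨ha', hha', sa, hsa, hea⟩ := hHS ga⁻¹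
      obtain ⟨hb', hhb', sb, hsb, heb⟩ := hHS gb⁻¹
      set w := sb⁻¹ * sa with hw
      have hwS : w ∈ (S : Subgroup G) := mul_mem (inv_mem hsb) hsa
      have hwab : w • (QuotientGroup.mk ga : G ⧸ H) = QuotientGroup.mk gb := by
        show (QuotientGroup.mk (w * ga) : G ⧸ H) = QuotientGroup.mk gb
        rw [QuotientGroup.eq, hw]
        have e1 : ga = sa⁻¹ * ha'⁻¹ := by rw [← inv_inv ga, hea, mul_inv_rev]
        have e2 : gb = sb⁻¹ * hb'⁻¹ := by rw [← inv_inv gb, heb, mul_inv_rev]
        rw [e1, e2, show (sb⁻¹ * sa * (sa⁻¹ * ha'⁻¹))⁻¹ * (sb⁻¹ * hb'⁻¹) = ha' * hb'⁻¹ by group]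
        exact mul_mem hha' (inv_mem hhb')
      set v := w⁻¹ * (x * w * x⁻¹) with hv
      have hvS : v ∈ (S : Subgroup G) :=
        mul_mem (inv_mem hwS) ((Subgroup.mem_normalizer_iff.1 hxM w).1 hwS)
      have hva : v • (QuotientGroup.mk ga : G ⧸ H) = QuotientGroup.mk ga := by
        have h1 : x⁻¹ • (QuotientGroup.mk ga : G ⧸ H) = QuotientGroup.mk ga := by
          conv_lhs => rw [← hax, inv_smul_smul]
        rw [hv, mul_smul, mul_smul, mul_smul, h1, hwab, hb, ← hwab, inv_smul_smul]
      have hv1 : v = 1 := by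
        have h1 : (QuotientGroup.mk (v * ga) : G ⧸ H) = QuotientGroup.mk ga := hva
        rw [QuotientGroup.eq] at h1
        have e1 : ga = sa⁻¹ * ha'⁻¹ := by rw [← inv_inv ga, hea, mul_inv_rev]
        rw [e1] at h1
        have h2 : sa * v⁻¹ * sa⁻¹ ∈ H := by
          have := mul_mem (mul_mem (inv_mem hha') h1) hha'
          convert this using 1
          group
        rw [hSab sa hsa _ (inv_mem hvS), mul_inv_cancel_right, inv_mem_iff] at h2
        have := Subgroup.disjoint_def.1 hcomp.disjoint h2 hvS
        exact this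
      have hwC : w ∈ Subgroup.centralizer ({x} : Set G) := by
        rw [Subgroup.mem_centralizer_singleton_iff]
        have h1 : x * w * x⁻¹ = w := by
          rw [← mul_inv_cancel_left w (x * w * x⁻¹), ← hv, hv1, mul_one]
        calc w * x = (x * w * x⁻¹) * x := by rw [h1]
          _ = x * w := by group
      have hw1 : w = 1 := by
        obtain ⟨j, hj⟩ := hSpow w hwS
        have h2 : orderOf w ∣ Nat.card (Subgroup.centralizer ({x} : Set G)) := by
          rw [← Subgroup.orderOf_mk w hwC]; exact orderOf_dvd_natCard _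
        obtain ⟨i, -, hi⟩ := (Nat.dvd_prime_pow Nat.prime_two).1 (orderOf_dvd_of_pow_eq_one hj)
        rcases Nat.eq_zero_or_pos i with h0 | h0
        · exact orderOf_eq_one_iff.1 (by rw [hi, h0, pow_zero])
        · exact absurd (even_iff_two_dvd.2 ((dvd_pow_self 2 h0.ne').trans (hi ▸ h2))) hCodd
      rw [hw1, one_smul] at hwab
      exact hwab.symm
    have hua : u • a = a := hun _ (by
      have h1 : x * u = u * x⁻¹ := by
        have huu : u * u = 1 := by rw [← pow_two, ← hu, pow_orderOf_eq_one]
        calc x * u = u * (u * x * u⁻¹) * (u * u) := by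
              rw [huu, mul_one, ← mul_assoc, ← mul_assoc, huu, one_mul,
                inv_eq_of_mul_eq_one_right huu]
          _ = u * x⁻¹ * (u * u) := by rw [huinv]
          _ = u * x⁻¹ := by rw [huu, mul_one]
      rw [← mul_smul, h1, mul_smul]
      congr 1
      conv_lhs => rw [← hax, inv_smul_smul])
    induction a using QuotientGroup.induction_on with
    | _ ga =>
    have h1 : (QuotientGroup.mk (u * ga) : G ⧸ H) = QuotientGroup.mk ga := hua
    rw [QuotientGroup.eq] at h1
    have h2 : orderOf (ga⁻¹ * u * ga) ∣ Nat.card H := by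
      have h3 : ga⁻¹ * u * ga ∈ H := by
        have := inv_mem h1
        convert this using 1
        group
      rw [← Subgroup.orderOf_mk _ h3]; exact orderOf_dvd_natCard _
    rw [show ga⁻¹ * u * ga = MulAut.conj ga⁻¹ u by simp, MulEquiv.orderOf_eq, hu] at h2
    exact (Nat.not_even_iff_odd.2 hH) (even_iff_two_dvd.2 h2)

section

variable {G : Type u} [Group G] [Finite G]

/-- A subgroup equal to its derived subgroup lies in every term of the derived series. -/
theorem perfect_le_derivedSeries {E : Subgroup G} (hE : ⁅E, E⁆ = E) (i : ℕ) :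
    E ≤ derivedSeries G i := by
  induction i with
  | zero => simp
  | succ i ihi =>
    rw [derivedSeries_succ]
    conv_lhs => rw [← hE]
    exact Subgroup.commutator_mono ihi ihi

/-- With abelian Sylow `2`-subgroups, a perfect subgroup lies in every subgroup of `2`-power index. -/
theorem perfect_le_of_two_power_index (hOS : OddChar.OddSolvable.{u}) (hab : Ab2 G)
    {E : Subgroup G} (hE : ⁅E, E⁆ = E) (H : Subgroup G) {k : ℕ} (hk : H.index = 2 ^ k) : E ≤ H := by
  classical
  haveI : Fact (Nat.Prime 2) := ⟨Nat.prime_two⟩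
  set R := H.normalCore with hR
  haveI : R.Normal := Subgroup.normalCore_normal H
  set f := QuotientGroup.mk' R with hf
  have hodd : Odd (Nat.card (H.map f)) := by
    rw [← Nat.not_even_iff_odd, even_iff_two_dvd]
    intro h2
    -- the Sylow 2-subgroup of H lies in the core
    obtain ⟨T⟩ : Nonempty (Sylow 2 H) := inferInstance
    obtain ⟨S, hS⟩ := (T.2.map H.subtype).exists_le_sylow
    have hTR : (T : Subgroup H).map H.subtype ≤ R := by
      intro z hz b
      obtain ⟨h, hh, s, hs, rfl⟩ : ∃ h ∈ H, ∃ s ∈ (S : Subgroup G), b = h * s := by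
        -- G = H S as the index of H is a power of 2
        haveI : MulAction.IsPretransitive (S : Subgroup G) (G ⧸ H) := by
          constructor
          have key : Nat.card (MulAction.orbit (S : Subgroup G) (QuotientGroup.mk 1 : G ⧸ H)) =
              Nat.card (G ⧸ H) := by
            refine le_antisymm (Nat.card_le_card_of_injective _ Subtype.val_injective) ?_
            rw [Nat.card_coe_set_eq, ← MulAction.index_stabilizer]
            · set J := MulAction.stabilizer (S : Subgroup G) (QuotientGroup.mk 1 : G ⧸ H)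
              have hJ : ∀ j ∈ J, ((j : (S : Subgroup G)) : G) ∈ H := by
                intro j hj
                have h1 : (QuotientGroup.mk ((j : G) * 1) : G ⧸ H) = QuotientGroup.mk 1 := hj
                rw [QuotientGroup.eq, mul_one, mul_one] at h1
                exact inv_mem_iff.1 h1
              have hJc : Nat.card J ∣ Nat.card H := by
                rw [← Subgroup.card_map_of_injective (K := J) (f := (S : Subgroup G).subtype) (Subgroup.subtype_injective _)]
                exact Subgroup.card_dvd_of_le (by rintro _ ⟨j, hj, rfl⟩; exact hJ j hj)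
              obtain ⟨a, ha⟩ := (IsPGroup.iff_card).1 S.2
              obtain ⟨b, -, hb⟩ := (Nat.dvd_prime_pow Nat.prime_two).1 (ha ▸ Subgroup.card_subgroup_dvd_card J)
              have hJT : Nat.card J ≤ 2 ^ (Nat.card H).factorization 2 := by
                rw [hb]
                refine Nat.pow_le_pow_right (by norm_num) ?_
                exact (Nat.Prime.pow_dvd_iff_le_factorization Nat.prime_two Nat.card_pos.ne').1 (hb ▸ hJc)
              have hScard : Nat.card (S : Subgroup G) =
                  2 ^ (Nat.card H).factorization 2 * Nat.card (G ⧸ H) := by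
                rw [S.card_eq_multiplicity, ← H.card_mul_index,
                  Nat.factorization_mul Nat.card_pos.ne' (by rw [hk]; positivity), Finsupp.add_apply,
                  pow_add, show Nat.card (G ⧸ H) = 2 ^ k from hk, hk,
                  Nat.prime_two.factorization_pow, Finsupp.single_eq_same]
              have h2' := J.card_mul_index
              rw [hScard] at h2'
              have h3 : 0 < J.index := Nat.pos_of_ne_zero Subgroup.FiniteIndex.index_ne_zero
              by_contra hlt
              push Not at hlt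
              have h4 : Nat.card J * J.index <
                  2 ^ (Nat.card H).factorization 2 * Nat.card (G ⧸ H) :=
                lt_of_lt_of_le (Nat.mul_lt_mul_of_pos_left hlt Nat.card_pos)
                  (Nat.mul_le_mul_right _ hJT)
              omega
          haveI := Fintype.ofFinite (G ⧸ H)
          have huniv : MulAction.orbit (S : Subgroup G) (QuotientGroup.mk 1 : G ⧸ H) = Set.univ :=
            Set.eq_of_subset_of_ncard_le (Set.subset_univ _) (by
              rw [Set.ncard_univ, ← Nat.card_coe_set_eq, key]) Set.finite_univ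
          intro a c
          obtain ⟨s₁, hs₁⟩ := (huniv ▸ Set.mem_univ a :
            a ∈ MulAction.orbit (S : Subgroup G) (QuotientGroup.mk 1 : G ⧸ H))
          obtain ⟨s₂, hs₂⟩ := (huniv ▸ Set.mem_univ c :
            c ∈ MulAction.orbit (S : Subgroup G) (QuotientGroup.mk 1 : G ⧸ H))
          exact ⟨s₂ * s₁⁻¹, by rw [← hs₁, ← hs₂]; simp [mul_smul]⟩
        obtain ⟨s, hs⟩ := MulAction.exists_smul_eq (S : Subgroup G)
          (QuotientGroup.mk 1 : G ⧸ H) (QuotientGroup.mk b⁻¹)
        have h1 : (QuotientGroup.mk ((s : G) * 1) : G ⧸ H) = QuotientGroup.mk b⁻¹ := hs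
        rw [QuotientGroup.eq, mul_one] at h1
        refine ⟨b * s, ?_, (s : G)⁻¹, inv_mem s.2, by group⟩
        have := inv_mem h1
        rwa [mul_inv_rev, inv_inv, inv_inv] at this
      rw [show h * s * z * (h * s)⁻¹ = h * (s * z * s⁻¹) * h⁻¹ by group,
        hab _ S.2 s hs z (hS hz), mul_inv_cancel_right]
      exact mul_mem (mul_mem hh (Subgroup.map_subtype_le _ hz)) (inv_mem hh)
    let φ := f.subgroupMap H
    have hφ : Function.Surjective φ := f.subgroupMap_surjective H
    have h1 := (T.mapSurjective hφ).dvd_card_of_dvd_card h2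
    have h2 : ((T.mapSurjective hφ : Sylow 2 (H.map f)) : Subgroup (H.map f)) = ⊥ := by
      rw [Sylow.coe_mapSurjective, eq_bot_iff]
      rintro _ ⟨z, hz, rfl⟩
      rw [Subgroup.mem_bot]
      exact Subtype.ext ((QuotientGroup.eq_one_iff (z : G)).2 (hTR ⟨z, hz, rfl⟩))
    rw [h2, Subgroup.card_bot] at h1
    exact absurd h1 (by decide)
  obtain ⟨i, -, hi⟩ := (Nat.dvd_prime_pow Nat.prime_two).1
    (hk ▸ Subgroup.index_map_dvd H (QuotientGroup.mk'_surjective R))
  haveI : Group.IsSolvable (G ⧸ R) :=
    solvable_of_odd_two_power_index hOS _ (G ⧸ R) le_rfl (hab.quotient R) (H.map f) hodd i hi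
  obtain ⟨n, hn⟩ := Group.IsSolvable.solvable (G := G ⧸ R)
  refine le_trans ?_ (Subgroup.normalCore_le H)
  intro e he
  have h1 : f e ∈ derivedSeries (G ⧸ R) n := by
    rw [← map_derivedSeries_eq (QuotientGroup.mk'_surjective R) n]
    exact Subgroup.mem_map_of_mem f (perfect_le_derivedSeries hE n he)
  rw [hn, Subgroup.mem_bot, hf, QuotientGroup.mk'_apply, QuotientGroup.eq_one_iff] at h1
  exact h1

/-- In a perfect group with abelian Sylow subgroups the centre is trivial. -/
theorem center_eq_bot_of_perfect (hperf : commutator G = ⊤)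
    (hA : ∀ (p : ℕ) [Fact p.Prime] (P : Subgroup G), IsPGroup p ↥P → ∀ a ∈ P, ∀ b ∈ P, a * b = b * a) :
    Subgroup.center G = ⊥ := by
  classical
  by_contra h
  have h1 : Nat.card (Subgroup.center G) ≠ 1 := fun h1 => h ((Subgroup.card_eq_one).1 h1)
  obtain ⟨p, hp, hpd⟩ := Nat.exists_prime_and_dvd h1
  haveI := Fact.mk hp
  obtain ⟨⟨w, hwc⟩, hwo⟩ := exists_prime_orderOf_dvd_card' (G := Subgroup.center G) p hpd
  rw [Subgroup.orderOf_mk] at hwo
  obtain ⟨P, hP⟩ := (IsPGroup.of_card (n := 1) (by rw [Nat.card_zpowers, hwo, pow_one]) :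
    IsPGroup p (Subgroup.zpowers w)).exists_le_sylow
  letI : CommGroup (P : Subgroup G) :=
    { (inferInstance : Group (P : Subgroup G)) with
      mul_comm := fun a b => Subtype.ext (hA p _ P.2 a a.2 b b.2) }
  have e := MonoidHom.transfer_eq_pow (MonoidHom.id (P : Subgroup G)) w fun k g₀ _ => by
    have hcg : Commute g₀ (w ^ k) := Commute.pow_right (Subgroup.mem_center_iff.1 hwc g₀) k
    rw [mul_assoc, ← hcg.eq, ← mul_assoc, inv_mul_cancel, one_mul]
  have htriv : MonoidHom.transfer (MonoidHom.id (P : Subgroup G)) w = 1 := by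
    have h2 := Abelianization.commutator_subset_ker
      (MonoidHom.transfer (MonoidHom.id (P : Subgroup G)))
    rw [hperf] at h2
    exact MonoidHom.mem_ker.1 (h2 (Subgroup.mem_top w))
  rw [e] at htriv
  have hwi : w ^ (P : Subgroup G).index = 1 := congrArg Subtype.val htriv
  exact P.not_dvd_index ((dvd_of_eq hwo.symm).trans (orderOf_dvd_of_pow_eq_one hwi))

/-- An A-group with an element whose class size is the largest `2`-part of all class sizes is
solvable. -/
theorem solvable_of_max_two_part (hOS : OddChar.OddSolvable.{u})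
    (hA : ∀ (p : ℕ) [Fact p.Prime] (P : Sylow p G), IsMulCommutative (P : Subgroup G))
    (a : ℕ) (hmax : ∀ y : G, ¬ 2 ^ (a + 1) ∣ (Subgroup.centralizer ({y} : Set G)).index)
    (hx : ∃ x : G, (Subgroup.centralizer ({x} : Set G)).index = 2 ^ a) :
    Group.IsSolvable G := by
  classical
  haveI : Fact (Nat.Prime 2) := ⟨Nat.prime_two⟩
  have hab : Ab2 G := ab2_of_sylow fun P => hA 2 P
  obtain ⟨x, hxi⟩ := hx
  -- the perfect residual
  obtain ⟨_, ⟨n, rfl⟩, hmin⟩ := (Set.toFinite (Set.range fun i => derivedSeries G i)).exists_minimal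
    (Set.range_nonempty _)
  set E := derivedSeries G n with hEdef
  haveI hEn : E.Normal := derivedSeries_normal G n
  have hE : ⁅E, E⁆ = E := le_antisymm (Subgroup.commutator_le_left E E)
    ((hmin ⟨n + 1, rfl⟩ (derivedSeries_antitone G (Nat.le_succ n))).trans
      (le_of_eq (derivedSeries_succ G n)))
  by_contra hns
  have hEne : E ≠ ⊥ := fun h => hns ⟨⟨n, h⟩⟩
  set L := Subgroup.centralizer ({x} : Set G) with hL
  have hEL : E ≤ L := perfect_le_of_two_power_index hOS hab hE L hxi
  have hperf : commutator ↥E = ⊤ := Subgroup.map_injective E.subtype_injective (by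
    rw [commutator_def, Subgroup.map_commutator, ← MonoidHom.range_eq_map, Subgroup.range_subtype, hE])
  have hZ : Subgroup.center ↥E = ⊥ := center_eq_bot_of_perfect hperf fun p _ P hP a ha b hb => by
    obtain ⟨Q, hQ⟩ := (hP.map E.subtype).exists_le_sylow
    have h1 : (a : G) * b = b * a := congrArg Subtype.val ((hA p Q).1.1
      ⟨(a : G), hQ (Subgroup.mem_map_of_mem E.subtype ha)⟩
      ⟨(b : G), hQ (Subgroup.mem_map_of_mem E.subtype hb)⟩)
    exact Subtype.ext h1
  obtain ⟨P₀⟩ : Nonempty (Sylow 2 ↥E) := inferInstance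
  have hcov : ∀ y : ↥E, ∃ c : ↥E,
      c⁻¹ * y * c ∈ Subgroup.centralizer ((P₀ : Subgroup ↥E) : Set ↥E) := by
    intro y
    -- a Sylow subgroup of the centralizer of x y lies in C(x) and in C(y)
    obtain ⟨T⟩ : Nonempty (Sylow 2 (Subgroup.centralizer ({x * (y : G)} : Set G))) := inferInstance
    set C := Subgroup.centralizer ({x * (y : G)} : Set G) with hC
    set T' := (T : Subgroup ↥C).map C.subtype with hT'
    have hxE : ∀ e ∈ E, e * x = x * e := fun e he =>
      Subgroup.mem_centralizer_singleton_iff.1 (hEL he)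
    have hCx : ∀ g ∈ C, g * x = x * g ∧ g * (y : G) = (y : G) * g := by
      intro g hg
      set d := x⁻¹ * (g * x * g⁻¹) with hd
      have hdy : d = (y : G) * (g * (y : G) * g⁻¹)⁻¹ := by
        have h1 : g * (x * y) * g⁻¹ = x * y := by
          rw [Subgroup.mem_centralizer_singleton_iff.1 hg, mul_inv_cancel_right]
        have h2 : g * x * g⁻¹ = x * y * (g * (y : G) * g⁻¹)⁻¹ := by
          rw [eq_mul_inv_iff_mul_eq, ← h1]; group
        rw [hd, h2]; group
      have hdE : d ∈ E := hdy ▸ mul_mem y.2 (inv_mem (hEn.conj_mem _ y.2 g))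
      have hdc : ∀ e ∈ E, e * d = d * e := by
        intro e he
        have h1 : Commute e x := hxE e he
        have h2 : Commute (g⁻¹ * e * g⁻¹⁻¹) x := hxE _ (hEn.conj_mem e he g⁻¹)
        have h3 : Commute e (g * x * g⁻¹) := by
          have := h2.map (MulAut.conj g)
          simpa [mul_assoc] using this
        exact (h1.inv_right.mul_right h3).eq
      have hd1 : (⟨d, hdE⟩ : ↥E) ∈ Subgroup.center ↥E :=
        Subgroup.mem_center_iff.2 fun e => Subtype.ext (hdc e e.2)
      rw [hZ, Subgroup.mem_bot] at hd1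
      have hd0 : d = 1 := congrArg Subtype.val hd1
      have h4 : g * x = x * g := by
        have : g * x * g⁻¹ = x := by rw [← mul_inv_cancel_left x (g * x * g⁻¹), ← hd, hd0, mul_one]
        calc g * x = g * x * g⁻¹ * g := by group
          _ = x * g := by rw [this]
      refine ⟨h4, ?_⟩
      have h5 := Subgroup.mem_centralizer_singleton_iff.1 hg
      rw [← mul_assoc, h4, mul_assoc, mul_assoc] at h5
      exact mul_left_cancel h5
    have hT'L : T' ≤ L := by
      rintro _ ⟨g, hg, rfl⟩
      exact Subgroup.mem_centralizer_singleton_iff.2 (hCx g g.2).1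
    have hT'p : IsPGroup 2 T' := T.2.map _
    -- its order is at least the 2-part of the order of L
    have hbig : ¬ 2 ∣ T'.relIndex L := by
      intro h
      have h1 : T'.index = T'.relIndex L * L.index := (Subgroup.relIndex_mul_index hT'L).symm
      have h2 : 2 ^ (a + 1) ∣ T'.index := by
        rw [h1, hxi, pow_succ, mul_comm]
        exact Nat.mul_dvd_mul h dvd_rfl
      have h3 : T'.index = (T : Subgroup ↥C).index * C.index := by
        rw [hT', Subgroup.index_map_subtype]
      rw [h3] at h2
      exact hmax _ ((Nat.Coprime.dvd_of_dvd_mul_left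
        (Nat.Coprime.pow_left _ (Nat.prime_two.coprime_iff_not_dvd.2 T.not_dvd_index)) h2))
    -- so it contains a Sylow subgroup of E
    set T'' := T'.subgroupOf E with hT''
    have hT''p : IsPGroup 2 T'' := hT'p.comap_of_injective _ E.subtype_injective
    have hT''i : ¬ 2 ∣ T''.index := by
      intro h
      apply hbig
      haveI : (E.subgroupOf L).Normal := hEn.subgroupOf L
      have h1 : (T'.subgroupOf L).relIndex (E.subgroupOf L) ∣ T'.relIndex L := by
        exact FiniteGroup.relIndex_dvd_index_of_normal_right _ _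
      rw [Subgroup.relIndex_subgroupOf hEL] at h1
      exact h.trans h1
    let P := hT''p.toSylow hT''i
    have hyP : ∀ p ∈ (P : Subgroup ↥E), p * y = y * p := by
      intro p hp
      obtain ⟨g, hg, hge⟩ := (hp : (p : G) ∈ T')
      refine Subtype.ext ?_
      show (p : G) * y = y * p
      rw [show (p : G) = C.subtype g from hge.symm]
      exact (hCx g g.2).2
    obtain ⟨c, hc⟩ := MulAction.exists_smul_eq ↥E P₀ P
    refine ⟨c, Subgroup.mem_centralizer_iff.2 fun p hp => ?_⟩
    have h1 := hyP (c * p * c⁻¹) (by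
      rw [← hc, Sylow.coe_subgroup_smul, ← MulAut.conj_apply, ← MulAut.smul_def]
      exact Subgroup.smul_mem_pointwise_smul _ _ _ hp)
    calc p * (c⁻¹ * y * c) = c⁻¹ * (c * p * c⁻¹ * y) * c := by group
      _ = c⁻¹ * (y * (c * p * c⁻¹)) * c := by rw [h1]
      _ = c⁻¹ * y * c * p := by group
  have htop := Counting.eq_top_of_conj_cover _ hcov
  have hP₀ : (P₀ : Subgroup ↥E) = ⊥ := by
    rw [eq_bot_iff, ← hZ]
    intro p hp
    exact Subgroup.mem_center_iff.2 fun e =>
      (Subgroup.mem_centralizer_iff.1 (htop ▸ Subgroup.mem_top e :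
        e ∈ Subgroup.centralizer ((P₀ : Subgroup ↥E) : Set ↥E)) p hp).symm
  have hEodd : Odd (Nat.card E) := by
    rw [← Nat.not_even_iff_odd, even_iff_two_dvd]
    intro h
    have h1 := P₀.dvd_card_of_dvd_card h
    rw [hP₀, Subgroup.card_bot] at h1
    exact absurd h1 (by decide)
  haveI : Group.IsSolvable ↥E := hOS ↥E hEodd
  haveI : Nontrivial ↥E := (Subgroup.nontrivial_iff_ne_bot E).2 hEne
  exact (Group.IsSolvable.commutator_lt_top_of_nontrivial ↥E).ne hperf

end

end Cfsg.Agent.AGroupTwo
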