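import Cfsg.Agent.Lib.OddDown.Hall
import Cfsg.Agent.Lib.Solvable.Coprime
import Cfsg.Agent.Lib.PLocal.ZJNPC
import Cfsg.Agent.Lib.PLocal.FixedPointFree
import Mathlib.GroupTheory.SemidirectProduct

/-!
Coprime action with all proper invariant subgroups nilpotent (S4240).
-/

set_option autoImplicit false
set_option linter.style.haveILetI false
set_option linter.unusedSectionVars false

namespace Cfsg.Agent.OddDown

open scoped Pointwise

universe u v

variable {A : Type v} [Group A] {G : Type u} [Group G]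

/-- Invariance under an action. -/
def Inv (φ : A →* MulAut G) (H : Subgroup G) : Prop := ∀ a, ∀ x ∈ H, φ a x ∈ H

theorem Inv.map_eq {φ : A →* MulAut G} {H : Subgroup G} (h : Inv φ H) (a : A) :
    H.map (φ a).toMonoidHom = H := by
  refine le_antisymm ?_ fun x hx => ?_
  · rintro _ ⟨y, hy, rfl⟩
    exact h a y hy
  · refine ⟨φ a⁻¹ x, h a⁻¹ x hx, ?_⟩
    rw [map_inv]
    exact (φ a).apply_symm_apply x

theorem Inv.of_map {φ : A →* MulAut G} {H : Subgroup G} (h : ∀ a, H.map (φ a).toMonoidHom = H) :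
    Inv φ H := fun a x hx => by
  have := Subgroup.mem_map_of_mem (φ a).toMonoidHom hx
  rwa [h] at this

theorem Inv.sup {φ : A →* MulAut G} {H K : Subgroup G} (hH : Inv φ H) (hK : Inv φ K) : Inv φ (H ⊔ K) :=
  Inv.of_map fun a => by rw [Subgroup.map_sup, hH.map_eq, hK.map_eq]

theorem Inv.normalizer {φ : A →* MulAut G} {H : Subgroup G} (hH : Inv φ H) :
    Inv φ (Subgroup.normalizer (H : Set G)) := fun a x hx => by
  have := Subgroup.le_normalizer_map (φ a).toMonoidHom ⟨x, hx, rfl⟩
  rwa [hH.map_eq] at this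

theorem Inv.commutator (φ : A →* MulAut G) : Inv φ (_root_.commutator G) := by
  refine Inv.of_map fun a => ?_
  rw [commutator_def, Subgroup.map_commutator, Subgroup.map_top_of_surjective _ (φ a).surjective]

/-- The induced action on a quotient. -/
def quotAct (φ : A →* MulAut G) (N : Subgroup G) [N.Normal] (hN : Inv φ N) : A →* MulAut (G ⧸ N) where
  toFun a := QuotientGroup.congr N N (φ a) (hN.map_eq a)
  map_one' := by
    ext x
    obtain ⟨x, rfl⟩ := QuotientGroup.mk'_surjective N x
    simp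
  map_mul' a b := by
    ext x
    obtain ⟨x, rfl⟩ := QuotientGroup.mk'_surjective N x
    simp
    rfl

variable [Finite A] [Finite G]

theorem solvable_or_act (hu : OddChar.OddSolvable.{u}) (hv : OddChar.OddSolvable.{v})
    (hcop : (Nat.card A).Coprime (Nat.card G)) : Group.IsSolvable A ∨ Group.IsSolvable G := by
  rcases Nat.even_or_odd (Nat.card A) with hA | hA
  · refine Or.inr (hu _ ?_)
    rw [← Nat.not_even_iff_odd]
    intro hG
    exact Nat.not_coprime_of_dvd_of_dvd one_lt_two hA.two_dvd hG.two_dvd hcop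
  · exact Or.inl (hv _ hA)

/-- A coprime action has invariant Sylow subgroups. -/
theorem exists_inv_sylow (φ : A →* MulAut G) (hcop : (Nat.card A).Coprime (Nat.card G))
    (hsolv : Group.IsSolvable A ∨ Group.IsSolvable G) (p : ℕ) [Fact p.Prime] :
    ∃ P : Sylow p G, Inv φ (P : Subgroup G) := by
  haveI : Finite (G ⋊[φ] A) := Finite.of_equiv _ SemidirectProduct.equivProd.symm
  set K : Subgroup (G ⋊[φ] A) := (SemidirectProduct.inl : G →* G ⋊[φ] A).range with hK
  set B : Subgroup (G ⋊[φ] A) := (SemidirectProduct.inr : A →* G ⋊[φ] A).range with hB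
  let eK : G ≃* K := MonoidHom.ofInjective SemidirectProduct.inl_injective
  let eB : A ≃* B := MonoidHom.ofInjective SemidirectProduct.inr_injective
  haveI : K.Normal := by
    rw [hK, SemidirectProduct.range_inl_eq_ker_rightHom]
    infer_instance
  obtain ⟨P, hP⟩ := CoprimeAct.exists_invariant_sylow (A := B) (K := K) Subgroup.le_normalizer_of_normal
    (by rwa [← Nat.card_congr eB.toEquiv, ← Nat.card_congr eK.toEquiv])
    (hsolv.imp (fun h => @Group.isSolvable_of_surjective _ _ _ _ eB.toMonoidHom eB.surjective h)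
      (fun h => @Group.isSolvable_of_surjective _ _ _ _ eK.toMonoidHom eK.surjective h)) p
  set P' : Subgroup G := ((P : Subgroup K).map K.subtype).comap SemidirectProduct.inl with hP'
  have hc : Nat.card P' = p ^ (Nat.card G).factorization p := by
    rw [Nat.card_congr eK.toEquiv, ← CoprimeAct.card_map_sylow P,
      ← Subgroup.card_map_of_injective (f := (SemidirectProduct.inl : G →* G ⋊[φ] A))
        SemidirectProduct.inl_injective (K := P'), hP', Subgroup.map_comap_eq,
      inf_eq_right.2 (hK ▸ Subgroup.map_subtype_le _)]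
  refine ⟨Sylow.ofCard P' hc, fun a x hx => ?_⟩
  rw [Sylow.coe_ofCard] at hx ⊢
  rw [hP', Subgroup.mem_comap, SemidirectProduct.inl_aut, map_inv]
  exact (Subgroup.mem_normalizer_iff.1 (hP ⟨a, rfl⟩) _).1 hx

theorem hasNPC_inv {φ : A →* MulAut G} {p : ℕ} [Fact p.Prime] {P : Sylow p G} {K : Subgroup G}
    (hKn : K.Normal) (hK : K.IsComplement' (P : Subgroup G)) : Inv φ K := by
  have hkey : ∀ x : G, x ∈ K ↔ ¬ p ∣ orderOf x := by
    intro x
    have hi : K.index = Nat.card (P : Subgroup G) := hK.symm.index_eq_card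
    constructor
    · intro hx hd
      have h1 : p ∣ Nat.card K := hd.trans (Subgroup.orderOf_dvd_natCard K hx)
      rw [← hK.index_eq_card] at h1
      exact P.not_dvd_index h1
    · intro hx
      haveI := hKn
      rw [← QuotientGroup.eq_one_iff]
      obtain ⟨n, hn⟩ := IsPGroup.iff_card.1 P.isPGroup'
      rw [← orderOf_eq_one_iff]
      refine Nat.eq_one_of_dvd_coprimes (a := p ^ n) (b := orderOf x) ?_ ?_ (orderOf_map_dvd (QuotientGroup.mk' K) x)
      · exact ((Fact.out : p.Prime).coprime_iff_not_dvd.2 hx).pow_left n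
      · have h2 := orderOf_dvd_natCard (x : G ⧸ K)
        rwa [← Subgroup.index_eq_card, hi, hn] at h2
  intro a x hx
  rw [hkey] at hx ⊢
  rwa [show orderOf ((φ a) x) = orderOf x from orderOf_injective (φ a).toMonoidHom (φ a).injective x]

/-- All proper invariant subgroups nilpotent implies solvable. -/
theorem solvable_of_inv_nilpotent (hu : OddChar.OddSolvable.{u}) (hv : OddChar.OddSolvable.{v})
    (φ : A →* MulAut G) (hcop : (Nat.card A).Coprime (Nat.card G))
    (hmax : ∀ H : Subgroup G, Inv φ H → H ≠ ⊤ → Group.IsNilpotent H) : Group.IsSolvable G := by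
  induction hc : Nat.card G using Nat.strong_induction_on generalizing G with
  | _ n ih =>
  subst hc
  by_cases hN : ∃ N : Subgroup G, N.Normal ∧ Inv φ N ∧ N ≠ ⊥ ∧ N ≠ ⊤
  · obtain ⟨N, hNn, hNi, hNb, hNt⟩ := hN
    haveI := hmax N hNi hNt
    have hlt : Nat.card (G ⧸ N) < Nat.card G := by
      rw [← Subgroup.index_eq_card, ← N.card_mul_index]
      exact lt_mul_left (Nat.pos_of_ne_zero Subgroup.index_ne_zero_of_finite)
        (N.one_lt_card_iff_ne_bot.2 hNb)
    haveI := ih _ hlt (quotAct φ N hNi)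
      (hcop.coprime_dvd_right (N.index_eq_card ▸ N.index_dvd_card)) (fun H hH hHt => by
        haveI := hmax (H.comap (QuotientGroup.mk' N))
          (fun a x hx => by
            have h1 := hH a _ hx
            exact h1)
          (fun h => hHt (by
            rw [← Subgroup.map_comap_eq_self_of_surjective (QuotientGroup.mk'_surjective N) H, h,
              Subgroup.map_top_of_surjective _ (QuotientGroup.mk'_surjective N)]))
        exact Group.nilpotent_of_surjective ((QuotientGroup.mk' N).subgroupComap H)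
          ((QuotientGroup.mk' N).subgroupComap_surjective_of_surjective H (QuotientGroup.mk'_surjective N))) rfl
    exact Group.isSolvable_of_ker_le_range N.subtype (QuotientGroup.mk' N) (by simp)
  push Not at hN
  by_cases h2 : ∃ p, p.Prime ∧ p ≠ 2 ∧ p ∣ Nat.card G
  · obtain ⟨p, hp, hp2, hpd⟩ := h2
    haveI := Fact.mk hp
    obtain ⟨P, hP⟩ := exists_inv_sylow φ hcop (solvable_or_act hu hv hcop) p
    have hP1 : (P : Subgroup G) ≠ ⊥ := P.ne_bot_of_dvd_card hpd
    set Z := ZJ.zJ p True (P : Subgroup G) with hZ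
    have hZi : Inv φ Z := Inv.of_map fun a => by
      rw [hZ, ZJ.zJ_map (φ a).toMonoidHom ((φ a).injective.injOn), hP.map_eq]
    have hZb : Z ≠ ⊥ := fun h => ZJ.zCore_ne_bot (e := True) P.isPGroup' hP1
      (le_bot_iff.1 (h ▸ ZJ.zCore_le_zJ _))
    by_cases hZN : Subgroup.normalizer (Z : Set G) = ⊤
    · haveI : Z.Normal := Subgroup.normalizer_eq_top_iff.1 hZN
      have hZt := hN Z inferInstance hZi hZb
      haveI : Group.IsNilpotent G := by
        have hPt : (P : Subgroup G) = ⊤ := top_le_iff.1 (hZt.ge.trans (ZJ.zJ_le _))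
        exact (IsPGroup.of_equiv (P.isPGroup'.to_le hPt.ge) Subgroup.topEquiv).isNilpotent
      infer_instance
    · haveI := hmax _ hZi.normalizer hZN
      obtain ⟨Q, K, hKn, hK⟩ := ZJNPC.hasNormalPComplement_of_zJ hp2 True P
        FixedPointFreeThompson.hasNormalPComplement_of_nilpotent
      have hKi : Inv φ K := hasNPC_inv hKn hK
      by_cases hKb : K = ⊥
      · haveI : Group.IsNilpotent G := by
          have h1 := hK.index_eq_card
          rw [hKb, Subgroup.card_bot, Subgroup.index_eq_one] at h1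
          exact (IsPGroup.of_equiv (Q.isPGroup'.to_le h1.ge) Subgroup.topEquiv).isNilpotent
        infer_instance
      · exfalso
        have hKt := hN K hKn hKi hKb
        have h1 := hK.symm.index_eq_card
        rw [hKt, Subgroup.index_top] at h1
        exact Q.ne_bot_of_dvd_card hpd (Subgroup.eq_bot_of_card_eq _ h1.symm)
  · push Not at h2
    haveI : Fact (Nat.Prime 2) := ⟨Nat.prime_two⟩
    obtain ⟨k, hk⟩ : ∃ k, Nat.card G = 2 ^ k := by
      refine ⟨_, Nat.eq_prime_pow_of_unique_prime_dvd Nat.card_pos.ne' fun {q} hq hd => ?_⟩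
      by_contra hq2
      exact h2 q hq hq2 hd
    haveI := (IsPGroup.of_card hk).isNilpotent
    infer_instance

theorem nilpotent_of_le {H K : Subgroup G} (hle : H ≤ K) [Group.IsNilpotent K] : Group.IsNilpotent H :=
  Group.nilpotent_of_mulEquiv (Subgroup.subgroupOfEquivOfLe hle)

/-- In a nilpotent normal invariant subgroup a Sylow subgroup of the whole group is normal. -/
theorem normal_of_mem_nilpotent {p : ℕ} [Fact p.Prime] (P : Sylow p G) {M : Subgroup G} [hM : M.Normal]
    [Group.IsNilpotent M] (hle : (P : Subgroup G) ≤ M) : (P : Subgroup G).Normal := by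
  have hc : Nat.card ((P : Subgroup G).subgroupOf M) = Nat.card (P : Subgroup G) :=
    Nat.card_congr (Subgroup.subgroupOfEquivOfLe hle).toEquiv
  haveI : ((P.subtype hle : Sylow p M) : Subgroup M).Normal := inferInstance
  haveI : ((P : Subgroup G).subgroupOf M).Normal := this
  haveI : ((P : Subgroup G).subgroupOf M).Characteristic :=
    Sylow.characteristic_of_normal (P.subtype hle) inferInstance
  have := ConjAct.normal_of_characteristic_of_normal (K := (P : Subgroup G).subgroupOf M) (H := M)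
  rwa [Subgroup.map_subgroupOf_eq_of_le hle] at this

/-- S4240 in terms of an action homomorphism. -/
theorem coprime_min_nonnilpotent (hu : OddChar.OddSolvable.{u}) (hv : OddChar.OddSolvable.{v})
    (φ : A →* MulAut G) (hcop : (Nat.card A).Coprime (Nat.card G))
    (hmax : ∀ H : Subgroup G, Inv φ H → H ≠ ⊤ → Group.IsNilpotent H) (hG : ¬ Group.IsNilpotent G) :
    Group.IsSolvable G ∧
      (∃ p q a b : ℕ, p.Prime ∧ q.Prime ∧ p ≠ q ∧ Nat.card G = p ^ a * q ^ b) ∧
      ∃ (p : ℕ) (P : Sylow p G), p.Prime ∧ p ∣ Nat.card G ∧ (P : Subgroup G).Normal ∧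
        Inv φ (P : Subgroup G) := by
  have hsol := solvable_of_inv_nilpotent hu hv φ hcop hmax
  refine ⟨hsol, ?_⟩
  have hso := solvable_or_act hu hv hcop
  haveI : Nontrivial G := by
    rw [← not_subsingleton_iff_nontrivial]
    intro h
    exact hG inferInstance
  -- a Sylow subgroup which is not normal
  obtain ⟨q, hq, Q, hQi, hQn⟩ : ∃ q, ∃ _ : Fact q.Prime, ∃ Q : Sylow q G,
      Inv φ (Q : Subgroup G) ∧ ¬ (Q : Subgroup G).Normal := by
    by_contra hcon
    push Not at hcon
    refine hG ((Group.isNilpotent_of_finite_tfae.out 0 3 rfl rfl).2 fun p hp P => ?_)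
    obtain ⟨Q, hQ⟩ := exists_inv_sylow φ hcop hso p
    haveI := hcon p hp Q hQ
    haveI := Sylow.unique_of_normal Q this
    rw [Subsingleton.elim P Q]
    assumption
  haveI hcn : (_root_.commutator G).Normal := inferInstance
  have hGQ : _root_.commutator G ⊔ (Q : Subgroup G) = ⊤ := by
    by_contra hne
    haveI := hmax _ ((Inv.commutator φ).sup hQi) hne
    haveI : (_root_.commutator G ⊔ (Q : Subgroup G)).Normal :=
      Subgroup.Normal.of_commutator_le (G := G) le_sup_left
    exact hQn (normal_of_mem_nilpotent Q (M := _root_.commutator G ⊔ (Q : Subgroup G)) le_sup_right)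
  have hidx : ∃ k, (_root_.commutator G).index = q ^ k := by
    have h1 : (_root_.commutator G).index = (_root_.commutator G).relIndex (Q : Subgroup G) := by
      rw [← Subgroup.relIndex_top_right, ← hGQ, Subgroup.relIndex_sup_left]
    obtain ⟨n, hn⟩ := IsPGroup.iff_card.1 Q.isPGroup'
    have h2 := Subgroup.relIndex_dvd_card (_root_.commutator G) (Q : Subgroup G)
    rw [hn, ← h1] at h2
    obtain ⟨k, -, hk⟩ := (Nat.dvd_prime_pow hq.out).1 h2
    exact ⟨k, hk⟩
  haveI : Group.IsNilpotent (_root_.commutator G) :=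
    hmax _ (Inv.commutator φ) (Group.IsSolvable.commutator_lt_top_of_nontrivial G).ne
  -- the other Sylow subgroups are normal
  have hnorm : ∀ r, ∀ _ : Fact r.Prime, r ≠ q → ∀ R : Sylow r G, (R : Subgroup G).Normal := by
    intro r hr hrq R
    refine normal_of_mem_nilpotent R (M := _root_.commutator G) fun x hx => ?_
    obtain ⟨k, hk⟩ := hidx
    rw [← QuotientGroup.eq_one_iff, ← orderOf_eq_one_iff]
    obtain ⟨j, hj⟩ := R.isPGroup' ⟨x, hx⟩
    refine Nat.eq_one_of_dvd_coprimes (a := r ^ j) (b := q ^ k)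
      (((Nat.coprime_primes hr.out hq.out).2 hrq).pow j k) ?_ ?_
    · exact (orderOf_map_dvd (QuotientGroup.mk' (_root_.commutator G)) x).trans
        (orderOf_dvd_of_pow_eq_one (congrArg Subtype.val hj))
    · rw [← hk, Subgroup.index_eq_card]
      exact orderOf_dvd_natCard _
  have hinv : ∀ r, ∀ _ : Fact r.Prime, r ≠ q → ∀ R : Sylow r G, Inv φ (R : Subgroup G) := by
    intro r hr hrq R
    obtain ⟨R', hR'⟩ := exists_inv_sylow φ hcop hso r
    haveI := Sylow.unique_of_normal R (hnorm r hr hrq R)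
    rwa [Subsingleton.elim R R']
  -- one of them is not normalized away
  obtain ⟨r, hr, hrq, R, hRQ⟩ : ∃ r, ∃ hr : Fact r.Prime, r ≠ q ∧ ∃ R : Sylow r G,
      (R : Subgroup G) ⊔ (Q : Subgroup G) = ⊤ := by
    by_contra hcon
    push Not at hcon
    refine hQn (Subgroup.normalizer_eq_top_iff.1 (Subgroup.eq_top_of_card_eq _ ?_))
    refine Nat.dvd_antisymm (Subgroup.card_subgroup_dvd_card _) ?_
    refine (Nat.factorization_prime_le_iff_dvd Nat.card_pos.ne' Nat.card_pos.ne').1 fun r hr => ?_
    refine (hr.pow_dvd_iff_le_factorization Nat.card_pos.ne').1 ?_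
    haveI hr' : Fact r.Prime := ⟨hr⟩
    rcases eq_or_ne r q with rfl | hrq
    · rw [← Q.card_eq_multiplicity]
      exact Subgroup.card_dvd_of_le Subgroup.le_normalizer
    · obtain ⟨R⟩ : Nonempty (Sylow r G) := inferInstance
      rw [← R.card_eq_multiplicity]
      refine Subgroup.card_dvd_of_le ?_
      haveI := hmax _ ((hinv r hr' hrq R).sup hQi) (hcon r hr' hrq R)
      set L := (R : Subgroup G) ⊔ (Q : Subgroup G) with hL
      haveI : ((Q.subtype (le_sup_right : _ ≤ L) : Sylow q L) : Subgroup L).Normal := inferInstance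
      exact le_sup_left.trans ((Subgroup.normal_subgroupOf_iff_le_normalizer le_sup_right).1 this)
  haveI hRn := hnorm r hr hrq R
  refine ⟨?_, r, R, hr.out, ?_, hRn, hinv r hr hrq R⟩
  · obtain ⟨a, ha⟩ := IsPGroup.iff_card.1 R.isPGroup'
    obtain ⟨b, hb⟩ := IsPGroup.iff_card.1 Q.isPGroup'
    refine ⟨r, q, a, b, hr.out, hq.out, hrq, ?_⟩
    have h1 := SolvBasic.card_sup_mul_card_inf
      (Subgroup.le_normalizer_of_normal : (Q : Subgroup G) ≤ Subgroup.normalizer ((R : Subgroup G) : Set G))
    have h2 : Nat.card ((R : Subgroup G) ⊓ (Q : Subgroup G) : Subgroup G) = 1 := by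
      refine Nat.eq_one_of_dvd_coprimes ?_ (Subgroup.card_dvd_of_le inf_le_left)
        (Subgroup.card_dvd_of_le inf_le_right)
      rw [ha, hb]
      exact ((Nat.coprime_primes hr.out hq.out).2 hrq).pow a b
    rw [hRQ, h2, mul_one, Subgroup.card_top, ha, hb] at h1
    exact h1
  · by_contra hd
    refine hQn ?_
    have hRb : (R : Subgroup G) = ⊥ := Subgroup.eq_bot_of_card_eq _ (by
      rw [R.card_eq_multiplicity, Nat.factorization_eq_zero_of_not_dvd hd, pow_zero])
    rw [hRb, bot_sup_eq] at hRQ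
    rw [hRQ]
    infer_instance

/-- S4240. -/
theorem coprime_max_nilpotent (hu : OddChar.OddSolvable.{u}) (hv : OddChar.OddSolvable.{v})
    [MulDistribMulAction A G] (hcop : (Nat.card A).Coprime (Nat.card G))
    (hmax : ∀ H : Subgroup G, H ≠ ⊤ → (∀ a : A, ∀ x ∈ H, a • x ∈ H) →
      (∀ K : Subgroup G, H < K → (∀ a : A, ∀ x ∈ K, a • x ∈ K) → K = ⊤) → Group.IsNilpotent H)
    (hG : ¬ Group.IsNilpotent G) :
    Group.IsSolvable G ∧
      (∃ p q a b : ℕ, p.Prime ∧ q.Prime ∧ p ≠ q ∧ Nat.card G = p ^ a * q ^ b) ∧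
      ∃ (p : ℕ) (P : Sylow p G), p.Prime ∧ p ∣ Nat.card G ∧ (P : Subgroup G).Normal ∧
        (∀ a : A, ∀ x ∈ (P : Subgroup G), a • x ∈ (P : Subgroup G)) := by
  refine coprime_min_nonnilpotent hu hv (MulDistribMulAction.toMulAut A G) hcop (fun H hH hHt => ?_) hG
  obtain ⟨M, hHM, ⟨hMi, hMt⟩, hMmax⟩ := Finite.exists_le_maximal
    (p := fun S : Subgroup G => (∀ a : A, ∀ x ∈ S, a • x ∈ S) ∧ S ≠ ⊤) ⟨hH, hHt⟩
  haveI := hmax M hMt hMi fun K hK hKi => by
    by_contra hKt
    exact hK.not_ge (hMmax ⟨hKi, hKt⟩ hK.le)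
  exact nilpotent_of_le hHM

end Cfsg.Agent.OddDown
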