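import Cfsg.Agent.Lib.Components.LocalBalance
import Cfsg.Agent.Lib.LBalance.Balance
import Cfsg.Agent.Lib.Transfer.CoprimeQuotient

/-!
The image of `O(C(a))` in `H ⧸ O(H)` for a subgroup `H` containing `a`.
-/

set_option autoImplicit false
set_option linter.style.haveILetI false

namespace Cfsg.Agent.OddDown.CoreSep

open Subgroup Cfsg.Agent.Components
open scoped commutatorElement

universe u

attribute [local instance] FittingCores.pPrimeCore_normal

variable {G : Type u} [Group G]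

/-- The map `H → H ⧸ O(H)`. -/
abbrev q (H : Subgroup G) : ↥H →* ↥H ⧸ Cfsg.pPrimeCore 2 ↥H :=
  QuotientGroup.mk' (Cfsg.pPrimeCore 2 ↥H)

/-- The image in `H ⧸ O(H)` of `X ∩ H`. -/
abbrev im (H X : Subgroup G) : Subgroup (↥H ⧸ Cfsg.pPrimeCore 2 ↥H) :=
  (X.subgroupOf H).map (q H)

variable [Finite G]

theorem mem_im {H X : Subgroup G} {x : G} (hx : x ∈ X) (hH : x ∈ H) : q H ⟨x, hH⟩ ∈ im H X :=
  mem_map_of_mem _ (show (⟨x, hH⟩ : ↥H) ∈ X.subgroupOf H from hx)

theorem core_props (a : G) :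
    Cfsg.centralizerPPrimeCore 2 a ≤ centralizer ({a} : Set G) ∧
      centralizer ({a} : Set G) ≤ normalizer (Cfsg.centralizerPPrimeCore 2 a : Set G) ∧
      (Nat.card (Cfsg.centralizerPPrimeCore 2 a)).Coprime 2 := by
  haveI : Fact (Nat.Prime 2) := ⟨Nat.prime_two⟩
  have h := centralizerPPrimeCore_props (p := 2) a
  have heq : centralizer ((zpowers a : Subgroup G) : Set G) = centralizer ({a} : Set G) := by
    rw [zpowers_eq_closure, centralizer_closure]
  rwa [heq] at h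

variable {H : Subgroup G} {a : G}

/-- The standing facts about the image of `O(C(a))`. -/
theorem setting (haH : a ∈ H) (ha2 : a ^ 2 = 1) :
    (q H ⟨a, haH⟩) ^ 2 = 1 ∧
      (im H (Cfsg.centralizerPPrimeCore 2 a) : Subgroup (↥H ⧸ Cfsg.pPrimeCore 2 ↥H)) ≤
        centralizer ((zpowers (q H ⟨a, haH⟩) : Subgroup _) : Set _) ∧
      centralizer ((zpowers (q H ⟨a, haH⟩) : Subgroup _) : Set _) ≤
        normalizer (im H (Cfsg.centralizerPPrimeCore 2 a) : Set (↥H ⧸ Cfsg.pPrimeCore 2 ↥H)) ∧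
      (Nat.card (im H (Cfsg.centralizerPPrimeCore 2 a))).Coprime 2 := by
  haveI : Fact (Nat.Prime 2) := ⟨Nat.prime_two⟩
  obtain ⟨hOC, hCO, hOc⟩ := core_props a
  set a' : ↥H := ⟨a, haH⟩ with ha'
  set T := im H (Cfsg.centralizerPPrimeCore 2 a) with hT
  have ha'2 : a' ^ 2 = 1 := Subtype.ext (by simpa using ha2)
  have hker : (Nat.card (q H).ker).Coprime 2 := by
    rw [QuotientGroup.ker_mk']
    exact FittingCores.pPrimeCore_coprime 2
  have hzp : IsPGroup 2 (zpowers a') := by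
    rw [IsPGroup.iff_card, Nat.card_zpowers]
    rcases (Nat.dvd_prime Nat.prime_two).1 (orderOf_dvd_of_pow_eq_one ha'2) with e | e
    · exact ⟨0, by simp [e]⟩
    · exact ⟨1, by simp [e]⟩
  have hC : centralizer ((zpowers (q H a') : Subgroup _) : Set _) =
      (centralizer ((zpowers a' : Subgroup ↥H) : Set ↥H)).map (q H) := by
    rw [← MonoidHom.map_zpowers,
      CoprimeQuotient.centralizer_map (q H) (QuotientGroup.mk'_surjective _) hker hzp]
  refine ⟨by rw [← map_pow, ha'2, map_one], ?_, ?_, ?_⟩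
  · rintro _ ⟨x, hx, rfl⟩
    rw [hC]
    refine mem_map_of_mem _ ?_
    rw [zpowers_eq_closure, centralizer_closure, mem_centralizer_singleton_iff]
    exact Subtype.ext (mem_centralizer_singleton_iff.1 (hOC hx))
  · rw [hC]
    refine (map_mono ?_).trans (le_normalizer_map (q H))
    intro c hc
    have hca : (c : G) ∈ centralizer ({a} : Set G) :=
      mem_centralizer_singleton_iff.2
        (congrArg Subtype.val (mem_centralizer_iff.1 hc a' (mem_zpowers a')).symm)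
    rw [mem_normalizer_iff]
    exact fun v => mem_normalizer_iff.1 (hCO hca) (v : G)
  · refine Nat.Coprime.coprime_dvd_left (card_map_dvd _ _) ?_
    refine Nat.Coprime.coprime_dvd_left (dvd_trans (dvd_of_eq ?_)
      (card_dvd_of_le (inf_le_left : Cfsg.centralizerPPrimeCore 2 a ⊓ H ≤ _))) hOc
    rw [← inf_subgroupOf_right, Nat.card_congr (subgroupOfEquivOfLe inf_le_right).toEquiv]

/-- An element of the image of `O(C(a))` normalises each component. -/
theorem core_le_normalizer_component (haH : a ∈ H) (ha2 : a ^ 2 = 1)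
    {L : Subgroup (↥H ⧸ Cfsg.pPrimeCore 2 ↥H)} (hL : Cfsg.IsComponent L) :
    im H (Cfsg.centralizerPPrimeCore 2 a) ≤ normalizer (L : Set (↥H ⧸ Cfsg.pPrimeCore 2 ↥H)) := by
  haveI : Fact (Nat.Prime 2) := ⟨Nat.prime_two⟩
  obtain ⟨h1, h2, h3, h4⟩ := setting haH ha2
  have hP : IsPGroup 2 (zpowers (q H ⟨a, haH⟩)) := fun y => ⟨1, Subtype.ext (by
    obtain ⟨i, hi⟩ := mem_zpowers_iff.1 y.2
    rw [pow_one, Subgroup.coe_pow, ← hi, ← zpow_natCast, ← zpow_mul, mul_comm, zpow_mul,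
      zpow_natCast, h1, one_zpow]
    rfl)⟩
  exact fun r hr => mem_fixesComponents.1
    (coprime_fixesComponents (Components.pPrimeCore_quotient ↥H) hP h2 h3 h4 hr) L hL

/-- A component with `[L, a] ≠ L` is centralised by the image of `O(C(a))`. -/
theorem commute_of_ne (haH : a ∈ H) (ha2 : a ^ 2 = 1)
    {L : Subgroup (↥H ⧸ Cfsg.pPrimeCore 2 ↥H)} (hL : Cfsg.IsComponent L)
    (hne : ⁅L, zpowers (q H ⟨a, haH⟩)⁆ ≠ L) :
    ⁅L, im H (Cfsg.centralizerPPrimeCore 2 a)⁆ = ⊥ := by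
  haveI : Fact (Nat.Prime 2) := ⟨Nat.prime_two⟩
  obtain ⟨h1, h2, h3, h4⟩ := setting haH ha2
  exact component_commute_coprime (Components.pPrimeCore_quotient ↥H) h1 h2 h3 h4 hL hne

/-- An element of `O(C(a)) ∩ H` centralising every component lies in `O(H)`. -/
theorem mem_core (haH : a ∈ H) (ha2 : a ^ 2 = 1) {u : G}
    (hu : u ∈ Cfsg.centralizerPPrimeCore 2 a) (huH : u ∈ H)
    (hcomp : ∀ L : Subgroup (↥H ⧸ Cfsg.pPrimeCore 2 ↥H), Cfsg.IsComponent L →
      L ≤ centralizer {q H ⟨u, huH⟩}) :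
    (⟨u, huH⟩ : ↥H) ∈ Cfsg.pPrimeCore 2 ↥H := by
  haveI : Fact (Nat.Prime 2) := ⟨Nat.prime_two⟩
  obtain ⟨h1, h2, h3, h4⟩ := setting haH ha2
  have hP : IsPGroup 2 (zpowers (q H ⟨a, haH⟩)) := fun y => ⟨1, Subtype.ext (by
    obtain ⟨i, hi⟩ := mem_zpowers_iff.1 y.2
    rw [pow_one, Subgroup.coe_pow, ← hi, ← zpow_natCast, ← zpow_mul, mul_comm, zpow_mul,
      zpow_natCast, h1, one_zpow]
    rfl)⟩
  set R := im H (Cfsg.centralizerPPrimeCore 2 a) ⊓
    centralizer (Cfsg.layer (↥H ⧸ Cfsg.pPrimeCore 2 ↥H) : Set _) with hR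
  haveI := layer_normal (G := ↥H ⧸ Cfsg.pPrimeCore 2 ↥H)
  have hn : centralizer ((zpowers (q H ⟨a, haH⟩) : Subgroup (↥H ⧸ Cfsg.pPrimeCore 2 ↥H)) : Set (↥H ⧸ Cfsg.pPrimeCore 2 ↥H)) ≤
      normalizer (R : Set (↥H ⧸ Cfsg.pPrimeCore 2 ↥H)) :=
    (_root_.le_inf h3 le_normalizer_of_normal).trans inf_normalizer_le_normalizer_inf
  have hbot : R = ⊥ := eq_bot_of_centralizes_layer (Components.pPrimeCore_quotient ↥H) hP
    (inf_le_left.trans h2) hn (h4.coprime_dvd_left (card_dvd_of_le inf_le_left)) inf_le_right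
  have hmem : q H ⟨u, huH⟩ ∈ R := ⟨mem_im hu huH, mem_centralizer_iff.2 fun l hl =>
    mem_centralizer_singleton_iff.1 (layer_le_iff.2 hcomp hl)⟩
  rw [hbot, mem_bot] at hmem
  exact (QuotientGroup.eq_one_iff _).1 hmem

end Cfsg.Agent.OddDown.CoreSep
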