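import Cfsg.Agent.S0215
import Cfsg.Agent.Lib.LocalEven.KleinGammaRank
import Cfsg.Agent.Lib.Transfer.Fusion
import Cfsg.Agent.Lib.Solvable.Fitting
import Cfsg.Agent.Lib.FiniteGroup.IndexBasics
import Cfsg.Agent.Lib.OddChar.Iface

/-!
Groups whose distinct Sylow 2-subgroups meet in cyclic groups: the soluble radical modulo the odd
core is a central cyclic 2-group, given the odd order theorem.
-/

set_option autoImplicit false
set_option linter.style.haveILetI false

namespace Cfsg.Agent.OddDown.CyclicMeet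

open Cfsg Cfsg.Agent Subgroup

universe u

variable {G : Type u} [Group G] [Finite G]

/-- Distinct Sylow 2-subgroups meet in cyclic groups. -/
def Meet (G : Type u) [Group G] : Prop :=
  ∀ S T : Sylow 2 G, S ≠ T → IsCyclic ↥((S : Subgroup G) ⊓ (T : Subgroup G))

theorem isCyclic_sub {X Y : Subgroup G} (h : X ≤ Y) (hY : IsCyclic Y) : IsCyclic X :=
  isCyclic_of_injective (inclusion h) (inclusion_injective h)

theorem eq_of_noncyclic (hC : Meet G) {X : Subgroup G} (hX : ¬ IsCyclic X) {P Q : Sylow 2 G}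
    (hP : X ≤ P) (hQ : X ≤ Q) : P = Q := by
  by_contra h
  exact hX (isCyclic_sub (le_inf hP hQ) (hC P Q h))

theorem mem_of_normalizes (hC : Meet G) {X : Subgroup G} (hX : ¬ IsCyclic X) {P : Sylow 2 G}
    (hP : X ≤ P) {s : G} (hs : IsPGroup 2 (zpowers s)) (hn : s ∈ normalizer (X : Set G)) : s ∈ P := by
  haveI : Fact (Nat.Prime 2) := ⟨Nat.prime_two⟩
  obtain ⟨R, hR⟩ := (hs.to_sup_of_normal_right' (P.isPGroup'.to_le hP)
    (zpowers_le.2 hn)).exists_le_sylow
  have : P = R := eq_of_noncyclic hC hX hP (le_sup_right.trans hR)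
  exact this ▸ hR (mem_sup_left (mem_zpowers s))

theorem pgroup_zpowers {P : Sylow 2 G} {s : G} (h : s ∈ P) : IsPGroup 2 (zpowers s) :=
  P.isPGroup'.to_le (zpowers_le.2 h)

theorem not_cyclic_of_involutions {X : Subgroup G} {a b : G} (ha : a ∈ X) (hb : b ∈ X)
    (ha2 : a * a = 1) (hb2 : b * b = 1) (ha1 : a ≠ 1) (hb1 : b ≠ 1) (hab : a ≠ b) :
    ¬ IsCyclic X := by
  classical
  intro hc
  haveI := Fintype.ofFinite X
  have h := hc.card_pow_eq_one_le (n := 2) (by norm_num)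
  have hsub : ({1, ⟨a, ha⟩, ⟨b, hb⟩} : Finset X) ⊆ Finset.univ.filter fun c => c ^ 2 = 1 := by
    intro c hc'
    simp only [Finset.mem_insert, Finset.mem_singleton] at hc'
    rcases hc' with rfl | rfl | rfl <;>
      simp [Subtype.ext_iff, pow_two, ha2, hb2]
  have h3 : ({1, ⟨a, ha⟩, ⟨b, hb⟩} : Finset X).card = 3 := by
    rw [Finset.card_eq_three]
    exact ⟨_, _, _, fun e => ha1 (congrArg Subtype.val e).symm,
      fun e => hb1 (congrArg Subtype.val e).symm, fun e => hab (congrArg Subtype.val e), rfl⟩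
  have := Finset.card_le_card hsub
  omega

theorem not_cyclic_of_noncomm {X : Subgroup G} {a b : G} (ha : a ∈ X) (hb : b ∈ X)
    (h : a * b ≠ b * a) : ¬ IsCyclic X := fun hc => by
  letI := hc.commGroup
  exact h (congrArg Subtype.val (mul_comm (⟨a, ha⟩ : X) ⟨b, hb⟩))

/-- The data of a non-trivial cyclic normal 2-subgroup and its involution. -/
structure Data (G : Type u) [Group G] where
  meet : Meet G
  v : G
  z : G
  n : ℕ
  hn : 2 ≤ n
  hv : orderOf v = 2 ^ n
  hVn : (zpowers v).Normal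
  hz : orderOf z = 2
  hzV : z ∈ zpowers v
  hzc : z ∈ center G

namespace Data

variable (d : Data G)

/-- The centraliser of the normal cyclic subgroup. -/
def cent : Subgroup G := centralizer (zpowers d.v : Set G)

theorem cent_normal : d.cent.Normal := by
  haveI := d.hVn
  exact inferInstanceAs (centralizer ((zpowers d.v : Subgroup G) : Set G)).Normal

theorem mem_cent_iff {g : G} : g ∈ d.cent ↔ g * d.v = d.v * g := by
  refine ⟨fun h => (mem_centralizer_iff.1 h d.v (mem_zpowers _)).symm, fun h => ?_⟩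
  refine mem_centralizer_iff.2 fun t ht => ?_
  obtain ⟨k, rfl⟩ := mem_zpowers_iff.1 ht
  exact ((show Commute d.v g from h.symm).zpow_left k).eq

theorem comm_of_mem {g t : G} (hg : g ∈ d.cent) (ht : t ∈ zpowers d.v) : g * t = t * g :=
  (mem_centralizer_iff.1 hg t ht).symm

theorem V_le_cent : zpowers d.v ≤ d.cent := fun _ ht => d.mem_cent_iff.2 (by
  obtain ⟨k, rfl⟩ := mem_zpowers_iff.1 ht
  exact ((Commute.refl d.v).zpow_left k).eq)

theorem isPGroup_V : IsPGroup 2 (zpowers d.v) :=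
  IsPGroup.of_card (by rw [Nat.card_zpowers, d.hv])

theorem V_le (P : Sylow 2 G) : zpowers d.v ≤ P :=
  haveI := d.hVn
  d.isPGroup_V.le_sylow_of_normal P

theorem z_mem (P : Sylow 2 G) : d.z ∈ P := d.V_le P d.hzV

theorem z_ne : d.z ≠ 1 := fun h => by
  have := d.hz
  rw [h, orderOf_one] at this
  norm_num at this

theorem z_sq : d.z * d.z = 1 := by rw [← pow_two, ← d.hz, pow_orderOf_eq_one]

theorem z_comm (g : G) : g * d.z = d.z * g := mem_center_iff.1 d.hzc g

theorem eq_or_of_sq {t : G} (ht : t ∈ zpowers d.v) (h : t * t = 1) : t = 1 ∨ t = d.z := by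
  by_contra hc
  push Not at hc
  exact not_cyclic_of_involutions ht d.hzV h d.z_sq hc.1 d.z_ne hc.2 (isCyclic_zpowers _)

theorem exists_sqrt : ∃ b ∈ zpowers d.v, b * b = d.z := by
  have h2 := d.hn
  refine ⟨d.v ^ 2 ^ (d.n - 2), pow_mem (mem_zpowers _) _, ?_⟩
  rw [← pow_add, ← two_mul, ← pow_succ']
  refine (d.eq_or_of_sq (pow_mem (mem_zpowers _) _) ?_).resolve_left fun h => ?_
  · rw [← pow_add, ← two_mul, ← pow_succ', show d.n - 2 + 1 + 1 = d.n by omega, ← d.hv,
      pow_orderOf_eq_one]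
  · have h3 := Nat.le_of_dvd (by positivity) (orderOf_dvd_of_pow_eq_one h)
    rw [d.hv] at h3
    have := (Nat.pow_le_pow_iff_right (by norm_num : 2 ≤ 2)).1 h3
    omega

/-- An involution of the centraliser other than `z`. -/
def Inv (x : G) : Prop := x * x = 1 ∧ x ≠ 1 ∧ x ≠ d.z ∧ x ∈ d.cent

theorem pair_noncyclic {X : Subgroup G} {x : G} (hx : x * x = 1) (h1 : x ≠ 1) (hz : x ≠ d.z)
    (hxX : x ∈ X) (hzX : d.z ∈ X) : ¬ IsCyclic X :=
  not_cyclic_of_involutions hxX hzX hx d.z_sq h1 d.z_ne hz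

theorem sylow_eq_of_inv {x : G} (hx : d.Inv x) {P Q : Sylow 2 G} (hP : x ∈ P) (hQ : x ∈ Q) :
    P = Q :=
  eq_of_noncyclic d.meet (X := closure {x, d.z})
    (d.pair_noncyclic hx.1 hx.2.1 hx.2.2.1 (subset_closure (by simp)) (subset_closure (by simp)))
    ((closure_le _).2 (Set.insert_subset hP (Set.singleton_subset_iff.2 (d.z_mem P))))
    ((closure_le _).2 (Set.insert_subset hQ (Set.singleton_subset_iff.2 (d.z_mem Q))))

theorem inv_conj {x : G} (hx : d.Inv x) (c : G) : d.Inv (c * x * c⁻¹) := by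
  refine ⟨?_, fun h => hx.2.1 ?_, fun h => hx.2.2.1 ?_, d.cent_normal.conj_mem x hx.2.2.2 c⟩
  · rw [show c * x * c⁻¹ * (c * x * c⁻¹) = c * (x * x) * c⁻¹ by group, hx.1, mul_one, mul_inv_cancel]
  · exact conj_eq_one_iff.1 h
  · rwa [mul_inv_eq_iff_eq_mul, ← d.z_comm c, mul_left_cancel_iff] at h

/-- Involutions in different Sylow subgroups are conjugate up to `z`. -/
theorem conj_or {x x' : G} (hx : d.Inv x) (hx' : d.Inv x') {P Q : Sylow 2 G} (hP : x ∈ P)
    (hQ : x' ∈ Q) (hPQ : P ≠ Q) :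
    ∃ c : G, c * x * c⁻¹ = x' ∨ c * x * c⁻¹ = x' * d.z := by
  have xi : x⁻¹ = x := inv_eq_of_mul_eq_one_right hx.1
  have xi' : x'⁻¹ = x' := inv_eq_of_mul_eq_one_right hx'.1
  set w := x * x' with hw
  have hwi : x * w * x⁻¹ = w⁻¹ := by
    rw [hw, mul_inv_rev, xi', xi, ← mul_assoc, hx.1, one_mul]
  have hk : ∀ k : ℕ, w ^ k * x * (w ^ k)⁻¹ = w ^ (2 * k) * x := by
    intro k
    have h1 : x * (w ^ k)⁻¹ = w ^ k * x := by
      rw [← inv_pow, ← hwi, conj_pow]
      rw [← mul_assoc, ← mul_assoc, hx.1, one_mul, xi]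
    rw [mul_assoc, h1, ← mul_assoc, ← pow_add, two_mul]
  have key : ∀ (k : ℕ) (e : G), (∀ g, e * g = g * e) → e * e = 1 → w ^ (2 * k + 1) = e →
      w ^ k * x * (w ^ k)⁻¹ = x' * e := by
    intro k e he hee h
    have h2 : w ^ (2 * k) = e * w⁻¹ := by rw [← h, pow_succ, mul_inv_cancel_right]
    rw [hk, h2, mul_assoc, he, hw, mul_inv_rev, xi, xi', mul_assoc x' x x, hx.1, mul_one]
  rcases Nat.even_or_odd (orderOf w) with ⟨m, hm⟩ | ⟨k, hk'⟩
  swap
  · exact ⟨w ^ k, Or.inl ((key k 1 (by simp) (one_mul 1)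
      (by rw [← hk', pow_orderOf_eq_one])).trans (mul_one _))⟩
  have hm0 : 0 < m := by have := orderOf_pos w; omega
  have hi2 : w ^ m * w ^ m = 1 := by rw [← pow_add, ← hm, pow_orderOf_eq_one]
  have hi1 : w ^ m ≠ 1 := fun h => by
    have := Nat.le_of_dvd hm0 (orderOf_dvd_of_pow_eq_one h); omega
  have hwC : w ∈ d.cent := mul_mem hx.2.2.2 hx'.2.2.2
  have hxk : ∀ k : ℕ, x * w ^ k * x⁻¹ = (w ^ k)⁻¹ ∧ x' * w ^ k * x'⁻¹ = (w ^ k)⁻¹ := by
    intro k
    have hwi' : x' * w * x'⁻¹ = w⁻¹ := by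
      rw [hw, mul_inv_rev, xi', xi, mul_assoc, mul_assoc, hx'.1, mul_one]
    exact ⟨by rw [← conj_pow, hwi, inv_pow], by rw [← conj_pow, hwi', inv_pow]⟩
  by_cases hiz : w ^ m = d.z
  swap
  · exfalso
    have hii : (w ^ m)⁻¹ = w ^ m := inv_eq_of_mul_eq_one_right hi2
    obtain ⟨hc1, hc2⟩ := hxk m
    rw [hii, mul_inv_eq_iff_eq_mul] at hc1 hc2
    let X := closure ({w ^ m, d.z} : Set G)
    have hnc : ¬ IsCyclic X := d.pair_noncyclic hi2 hi1 hiz (subset_closure (by simp))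
      (subset_closure (by simp))
    have hnorm : ∀ s : G, s * w ^ m = w ^ m * s → s ∈ normalizer (X : Set G) := by
      intro s hs
      refine centralizer_le_normalizer _ ?_
      rw [centralizer_closure, mem_centralizer_iff]
      rintro t (rfl | rfl)
      · exact hs.symm
      · exact (d.z_comm s).symm
    obtain ⟨R, hR⟩ : ∃ R : Sylow 2 G, X ≤ R := by
      refine IsPGroup.exists_le_sylow ?_
      have h1 : IsPGroup 2 (zpowers (w ^ m)) := IsPGroup.of_card (n := 1) (by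
        rw [Nat.card_zpowers, pow_one]
        exact orderOf_eq_prime (by rw [pow_two]; exact hi2) hi1)
      have h2 : IsPGroup 2 (zpowers d.z) := IsPGroup.of_card (n := 1) (by
        rw [Nat.card_zpowers, pow_one, d.hz])
      refine (h1.to_sup_of_normal_right' h2 (zpowers_le.2 (centralizer_le_normalizer _ ?_))).to_le
        ((closure_le _).2 (Set.insert_subset (mem_sup_left (mem_zpowers _))
          (Set.singleton_subset_iff.2 (mem_sup_right (mem_zpowers _)))))
      exact mem_centralizer_iff.2 fun t ht => by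
        obtain ⟨j, rfl⟩ := mem_zpowers_iff.1 ht
        exact ((show Commute (w ^ m) d.z from d.z_comm _).zpow_right j).eq.symm
    have e1 := d.sylow_eq_of_inv hx hP
      (mem_of_normalizes d.meet hnc hR (pgroup_zpowers hP) (hnorm x hc1))
    have e2 := d.sylow_eq_of_inv hx' hQ
      (mem_of_normalizes d.meet hnc hR (pgroup_zpowers hQ) (hnorm x' hc2))
    exact hPQ (e1.trans e2.symm)
  rcases Nat.even_or_odd m with ⟨j, hj⟩ | ⟨k, hk'⟩
  swap
  · exact ⟨w ^ k, Or.inr (key k d.z (fun g => (d.z_comm g).symm) d.z_sq (by rw [← hk']; exact hiz))⟩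
  exfalso
  set u := w ^ j with hu
  have hu2 : u * u = d.z := by rw [hu, ← pow_add, ← hj, hiz]
  have huC : u ∈ d.cent := pow_mem hwC j
  let X := zpowers u ⊔ zpowers d.v
  have hnorm : ∀ s : G, s ∈ d.cent → s * u * s⁻¹ = u⁻¹ → s ∈ normalizer (X : Set G) := by
    intro s hs hsu
    refine mem_normalizer_fintype fun t ht => ?_
    have hle : X.map (MulAut.conj s).toMonoidHom ≤ X := by
      rw [Subgroup.map_sup, MonoidHom.map_zpowers, MonoidHom.map_zpowers]
      refine sup_le (zpowers_le.2 (mem_sup_left ?_)) (zpowers_le.2 (mem_sup_right ?_))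
      · show s * u * s⁻¹ ∈ zpowers u
        rw [hsu]; exact inv_mem (mem_zpowers u)
      · show s * d.v * s⁻¹ ∈ zpowers d.v
        rw [d.mem_cent_iff.1 hs, mul_inv_cancel_right]; exact mem_zpowers _
    exact hle (mem_map_of_mem _ ht)
  have hu4 : orderOf u = 2 ^ 2 := by
    haveI : Fact (Nat.Prime 2) := ⟨Nat.prime_two⟩
    refine orderOf_eq_prime_pow ?_ ?_
    · rw [pow_one, pow_two, hu2]; exact d.z_ne
    · rw [show (2 : ℕ) ^ (1 + 1) = 2 + 2 from rfl, pow_add, pow_two, hu2, d.z_sq]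
  have hnc : ¬ IsCyclic X := by
    intro hc
    haveI := hc
    obtain ⟨b, hb, hb2⟩ := d.exists_sqrt
    have hX' : ∀ t : G, t ∈ zpowers d.v → u * t = t * u := fun t ht => d.comm_of_mem huC ht
    have hmem : u * b⁻¹ ∈ X := mul_mem (mem_sup_left (mem_zpowers u)) (mem_sup_right (inv_mem hb))
    have hsq : u * b⁻¹ * (u * b⁻¹) = 1 := by
      rw [mul_assoc u b⁻¹, ← mul_assoc b⁻¹, ← hX' _ (inv_mem hb), mul_assoc u b⁻¹, ← mul_assoc u u,
        ← mul_inv_rev, hb2, hu2, mul_inv_cancel]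
    have huV : u ∈ zpowers d.v := by
      by_cases h1 : u * b⁻¹ = 1
      · rwa [mul_inv_eq_one.1 h1]
      by_cases h2 : u * b⁻¹ = d.z
      · rw [mul_inv_eq_iff_eq_mul] at h2
        rw [h2]; exact mul_mem d.hzV hb
      exact absurd hc (d.pair_noncyclic hsq h1 h2 hmem (mem_sup_right d.hzV))
    obtain ⟨hc1, -⟩ := hxk j
    rw [d.comm_of_mem hx.2.2.2 huV, mul_inv_cancel_right, ← mul_eq_one_iff_eq_inv, hu2] at hc1
    exact d.z_ne hc1
  obtain ⟨R, hR⟩ : ∃ R : Sylow 2 G, X ≤ R := by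
    refine IsPGroup.exists_le_sylow ((IsPGroup.of_card (n := 2) (by rw [Nat.card_zpowers, hu4])).to_sup_of_normal_right'
      d.isPGroup_V (zpowers_le.2 (centralizer_le_normalizer _ huC)))
  obtain ⟨hc1, hc2⟩ := hxk j
  have e1 := d.sylow_eq_of_inv hx hP
    (mem_of_normalizes d.meet hnc hR (pgroup_zpowers hP) (hnorm x hx.2.2.2 hc1))
  have e2 := d.sylow_eq_of_inv hx' hQ
    (mem_of_normalizes d.meet hnc hR (pgroup_zpowers hQ) (hnorm x' hx'.2.2.2 hc2))
  exact hPQ (e1.trans e2.symm)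

/-- A 2-element outside the centraliser squaring into the normal cyclic subgroup shares its Sylow
subgroup with every involution of the centraliser. -/
theorem eq_of_sq_mem {g x' : G} (hg : g * g ∈ zpowers d.v) (hgC : g ∉ d.cent) (hx' : d.Inv x')
    {P Q : Sylow 2 G} (hP : g ∈ P) (hQ : x' ∈ Q) : P = Q := by
  haveI := d.hVn
  haveI := d.cent_normal
  let π := QuotientGroup.mk' (zpowers d.v)
  let y := g * x'
  have hgg : π g * π g = 1 := by
    rw [← map_mul, QuotientGroup.mk'_apply, QuotientGroup.eq_one_iff]; exact hg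
  have hxx : π x' * π x' = 1 := by rw [← map_mul, hx'.1, map_one]
  have hgy : π g * π y * (π g)⁻¹ = (π y)⁻¹ := by
    rw [show π y = π g * π x' from map_mul π g x', mul_inv_rev, inv_eq_of_mul_eq_one_right hxx,
      inv_eq_of_mul_eq_one_right hgg, ← mul_assoc, hgg, one_mul]
  have hxy : π x' * π y * (π x')⁻¹ = (π y)⁻¹ := by
    rw [show π y = π g * π x' from map_mul π g x', mul_inv_rev, inv_eq_of_mul_eq_one_right hxx,
      inv_eq_of_mul_eq_one_right hgg, mul_assoc, mul_assoc, hxx, mul_one]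
  rcases Nat.even_or_odd (orderOf (π y)) with ⟨m, hm⟩ | ⟨k, hk⟩
  swap
  · exfalso
    apply hgC
    have h1 : y ^ (2 * k + 1) ∈ d.cent := by
      refine d.V_le_cent ?_
      rw [← QuotientGroup.eq_one_iff (N := zpowers d.v), ← QuotientGroup.mk'_apply, map_pow,
        ← hk, pow_orderOf_eq_one]
    rw [← QuotientGroup.eq_one_iff (N := d.cent)] at h1 ⊢
    have hx0 : ((x' : G) : G ⧸ d.cent) = 1 := (QuotientGroup.eq_one_iff _).2 hx'.2.2.2
    have hg0 : ((g * g : G) : G ⧸ d.cent) = 1 := (QuotientGroup.eq_one_iff _).2 (d.V_le_cent hg)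
    rwa [QuotientGroup.mk_pow, show y = g * x' from rfl, QuotientGroup.mk_mul, hx0, mul_one,
      pow_succ, pow_mul, pow_two, ← QuotientGroup.mk_mul, hg0, one_pow, one_mul] at h1
  have hm0 : 0 < m := by have := orderOf_pos (π y); omega
  set i := y ^ m with hi
  have hi1 : π i ≠ 1 := fun h => by
    rw [hi, map_pow] at h
    have := Nat.le_of_dvd hm0 (orderOf_dvd_of_pow_eq_one h); omega
  have hi2 : π i * π i = 1 := by rw [hi, map_pow, ← pow_add, ← hm, pow_orderOf_eq_one]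
  have hconj : ∀ s : G, π s * π y * (π s)⁻¹ = (π y)⁻¹ → π s * π i * (π s)⁻¹ = π i := fun s hs => by
    rw [hi, map_pow, ← conj_pow, hs, inv_pow]
    exact inv_eq_of_mul_eq_one_right (by rw [← map_pow]; exact hi2)
  let X := (zpowers (π i)).comap π
  have hiX : i ∈ X := mem_zpowers _
  have hVX : zpowers d.v ≤ X := fun t ht => by
    show π t ∈ zpowers (π i)
    rw [show π t = 1 from (QuotientGroup.eq_one_iff _).2 ht]
    exact one_mem _
  have hX2 : IsPGroup 2 X :=
    (IsPGroup.of_card (n := 1) (by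
      haveI : Fact (Nat.Prime 2) := ⟨Nat.prime_two⟩
      rw [Nat.card_zpowers, pow_one]
      exact orderOf_eq_prime (by rw [pow_two]; exact hi2) hi1)).comap_of_ker_isPGroup π
      (by rw [QuotientGroup.ker_mk']; exact d.isPGroup_V)
  have hnorm : ∀ s : G, π s * π y * (π s)⁻¹ = (π y)⁻¹ → s ∈ normalizer (X : Set G) := by
    intro s hs
    refine mem_normalizer_fintype fun t ht => ?_
    obtain ⟨j, hj⟩ := mem_zpowers_iff.1 (ht : π t ∈ zpowers (π i))
    show π (s * t * s⁻¹) ∈ zpowers (π i)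
    rw [map_mul, map_mul, map_inv, ← hj, ← conj_zpow, hconj s hs]
    exact zpow_mem (mem_zpowers _) j
  have hgnc : ¬ IsCyclic ↥(closure ({g, d.v} : Set G)) :=
    not_cyclic_of_noncomm (subset_closure (by simp)) (subset_closure (by simp))
      fun h => hgC (d.mem_cent_iff.2 h)
  by_cases hcyc : IsCyclic X
  swap
  · obtain ⟨R, hR⟩ := hX2.exists_le_sylow
    have hgR := mem_of_normalizes d.meet hcyc hR (pgroup_zpowers hP) (hnorm g hgy)
    have e1 : P = R := eq_of_noncyclic d.meet hgnc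
      ((closure_le _).2 (Set.insert_subset hP (Set.singleton_subset_iff.2 (d.V_le P (mem_zpowers _)))))
      ((closure_le _).2 (Set.insert_subset hgR (Set.singleton_subset_iff.2 (d.V_le R (mem_zpowers _)))))
    exact e1.trans (d.sylow_eq_of_inv hx'
      (mem_of_normalizes d.meet hcyc hR (pgroup_zpowers hQ) (hnorm x' hxy)) hQ)
  exfalso
  apply hgC
  haveI := hcyc
  letI := hcyc.commGroup
  have hiC : i ∈ d.cent := d.mem_cent_iff.2
    (congrArg Subtype.val (mul_comm (⟨i, hiX⟩ : X) ⟨d.v, hVX (mem_zpowers _)⟩))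
  have hiV : i ∉ zpowers d.v := fun h => hi1 ((QuotientGroup.eq_one_iff _).2 h)
  have hii : i * i ∈ zpowers d.v := by
    rw [← QuotientGroup.eq_one_iff (N := zpowers d.v), QuotientGroup.mk_mul]; exact hi2
  -- in a cyclic group `i * i` generates the subgroup of index two
  have hgen : d.v ∈ zpowers (i * i) := by
    obtain ⟨e, he⟩ := mem_zpowers_iff.1 hii
    rcases Int.even_or_odd e with ⟨f, hf⟩ | ho
    · exfalso
      have hsq : (i * (d.v ^ f)⁻¹) * (i * (d.v ^ f)⁻¹) = 1 := by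
        have hc : i * (d.v ^ f)⁻¹ = (d.v ^ f)⁻¹ * i :=
          d.comm_of_mem hiC (inv_mem (zpow_mem (mem_zpowers _) f))
        rw [mul_assoc i, ← mul_assoc (d.v ^ f)⁻¹, ← hc, mul_assoc i (d.v ^ f)⁻¹, ← mul_assoc i i,
          ← mul_inv_rev, ← zpow_add, ← hf, he, mul_inv_cancel]
      by_cases h1 : i * (d.v ^ f)⁻¹ = 1
      · exact hiV (mul_inv_eq_one.1 h1 ▸ zpow_mem (mem_zpowers _) f)
      by_cases h2 : i * (d.v ^ f)⁻¹ = d.z
      · rw [mul_inv_eq_iff_eq_mul] at h2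
        exact hiV (h2 ▸ mul_mem d.hzV (zpow_mem (mem_zpowers _) f))
      exact d.pair_noncyclic hsq h1 h2
        (mul_mem hiX (hVX (inv_mem (zpow_mem (mem_zpowers _) f)))) (hVX d.hzV) hcyc
    · have hcop : IsCoprime e (2 ^ d.n : ℤ) :=
        (Int.isCoprime_two_right.2 ho).pow_right
      obtain ⟨a, b, hab⟩ := hcop
      refine mem_zpowers_iff.2 ⟨a, ?_⟩
      rw [← he, ← zpow_mul, show e * a = 1 - b * (2 ^ d.n : ℤ) by rw [← hab]; ring, zpow_sub,
        zpow_one, mul_comm b, zpow_mul, show (2 : ℤ) ^ d.n = ((2 ^ d.n : ℕ) : ℤ) by push_cast; ring,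
        zpow_natCast, ← d.hv, pow_orderOf_eq_one, one_zpow, inv_one, mul_one]
  have hcomm : Commute y i := (Commute.refl y).pow_right m
  -- the image of `i` under conjugation by `x'`
  obtain ⟨δ, hδ, hδi⟩ : ∃ δ ∈ zpowers d.v, x' * i * x'⁻¹ = i * δ := by
    refine ⟨i⁻¹ * (x' * i * x'⁻¹), ?_, by rw [mul_inv_cancel_left]⟩
    rw [← QuotientGroup.eq_one_iff (N := zpowers d.v), ← QuotientGroup.mk'_apply, map_mul, map_mul,
      map_mul, map_inv, map_inv, hconj x' hxy, inv_mul_cancel]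
  have hδ2 : δ * δ = 1 := by
    have h1 : x' * (i * i) * x'⁻¹ = i * i := by
      rw [d.comm_of_mem hx'.2.2.2 hii, mul_inv_cancel_right]
    have h2 : x' * (i * i) * x'⁻¹ = i * i * (δ * δ) := by
      rw [show x' * (i * i) * x'⁻¹ = x' * i * x'⁻¹ * (x' * i * x'⁻¹) by group, hδi, mul_assoc i δ,
        ← mul_assoc δ i, ← d.comm_of_mem hiC hδ, mul_assoc i δ δ, ← mul_assoc i i]
    exact left_eq_mul.1 (h1.symm.trans h2)
  have hδc : ∀ t : G, t * δ = δ * t := by
    rcases d.eq_or_of_sq hδ hδ2 with rfl | rfl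
    · simp
    · exact d.z_comm
  have hgi : g * i * g⁻¹ = i * δ := by
    have hg' : g = y * x'⁻¹ := by show g = g * x' * x'⁻¹; rw [mul_inv_cancel_right]
    rw [hg', inv_eq_of_mul_eq_one_right hx'.1, mul_inv_rev, inv_eq_of_mul_eq_one_right hx'.1]
    have h3 : x' * i * x' = i * δ := by
      rw [← hδi, inv_eq_of_mul_eq_one_right hx'.1]
    calc y * x' * i * (x' * y⁻¹) = y * (x' * i * x') * y⁻¹ := by group
      _ = y * i * δ * y⁻¹ := by rw [h3, ← mul_assoc y i δ]
      _ = i * y * δ * y⁻¹ := by rw [hcomm.eq]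
      _ = i * δ := by rw [mul_assoc i y, hδc y, ← mul_assoc i δ, mul_inv_cancel_right]
  have hgii : g * (i * i) * g⁻¹ = i * i := by
    rw [show g * (i * i) * g⁻¹ = g * i * g⁻¹ * (g * i * g⁻¹) by group, hgi, mul_assoc i δ,
      ← mul_assoc δ i, ← hδc i, mul_assoc i δ δ, hδ2, mul_one]
  rw [d.mem_cent_iff]
  obtain ⟨e, he⟩ := mem_zpowers_iff.1 hgen
  rw [← he]
  exact ((show Commute g (i * i) from mul_inv_eq_iff_eq_mul.1 hgii).zpow_right e).eq

/-- The power of a 2-element outside the centraliser giving an involution inside it. -/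
def Rel (g : G) (q : G ⧸ zpowers d.z) : Prop :=
  ∃ k : ℕ, ∃ t ∈ zpowers d.v, g ^ 2 ^ k ∉ zpowers d.v ∧ g ^ 2 ^ k * g ^ 2 ^ k ∈ zpowers d.v ∧
    g ^ 2 ^ k * t * (g ^ 2 ^ k * t) = 1 ∧ g ^ 2 ^ k ∈ d.cent ∧
    QuotientGroup.mk (g ^ 2 ^ k * t) = q

theorem z_normal : (zpowers d.z).Normal := ⟨fun a ha c => by
  rwa [mem_center_iff.1 (zpowers_le.2 d.hzc ha) c, mul_inv_cancel_right]⟩

theorem mk_eq_iff {a b : G} :
    (QuotientGroup.mk a : G ⧸ zpowers d.z) = QuotientGroup.mk b ↔ b = a ∨ b = a * d.z := by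
  rw [QuotientGroup.eq]
  constructor
  · intro h
    obtain ⟨k, hk⟩ := mem_zpowers_iff.1 h
    have hb : b = a * d.z ^ k := by rw [hk, mul_inv_cancel_left]
    rcases Int.even_or_odd k with ⟨j, rfl⟩ | ⟨j, rfl⟩
    · left; rw [hb, ← two_mul, zpow_mul, show d.z ^ (2 : ℤ) = 1 by
        rw [show (2 : ℤ) = ((2 : ℕ) : ℤ) from rfl, zpow_natCast, pow_two, d.z_sq], one_zpow, mul_one]
    · right; rw [hb, zpow_add, zpow_mul, show d.z ^ (2 : ℤ) = 1 by
        rw [show (2 : ℤ) = ((2 : ℕ) : ℤ) from rfl, zpow_natCast, pow_two, d.z_sq], one_zpow, one_mul,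
        zpow_one]
  · rintro (rfl | rfl)
    · rw [inv_mul_cancel]; exact one_mem _
    · rw [inv_mul_cancel_left]; exact mem_zpowers _

theorem rel_unique {g : G} {q q' : G ⧸ zpowers d.z} (h : d.Rel g q) (h' : d.Rel g q') : q = q' := by
  obtain ⟨k, t, ht, hk1, hk2, hk3, hkC, rfl⟩ := h
  obtain ⟨k', t', ht', hk1', hk2', hk3', hkC', rfl⟩ := h'
  have key : ∀ a b : ℕ, g ^ 2 ^ b ∉ zpowers d.v → g ^ 2 ^ a * g ^ 2 ^ a ∈ zpowers d.v → b ≤ a := by
    intro a b hb ha
    by_contra hlt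
    obtain ⟨j, rfl⟩ := Nat.exists_eq_add_of_le (show a + 1 ≤ b by omega)
    rw [pow_add, pow_succ, pow_mul, pow_mul, pow_two] at hb
    exact hb (pow_mem ha _)
  obtain rfl : k = k' := le_antisymm (key k' k hk1 hk2') (key k k' hk1' hk2)
  have hsq : (t⁻¹ * t') * (t⁻¹ * t') = 1 := by
    have c1 := d.comm_of_mem hkC ht
    have c2 := d.comm_of_mem hkC ht'
    have c3 : t * t' = t' * t := by
      obtain ⟨a, rfl⟩ := mem_zpowers_iff.1 ht
      obtain ⟨b, rfl⟩ := mem_zpowers_iff.1 ht'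
      rw [← zpow_add, ← zpow_add, add_comm]
    have e1 : g ^ 2 ^ k * g ^ 2 ^ k * (t * t) = 1 := by
      rw [← hk3, mul_assoc (g ^ 2 ^ k) t, ← mul_assoc t, ← c1, mul_assoc (g ^ 2 ^ k) t t,
        mul_assoc (g ^ 2 ^ k) (g ^ 2 ^ k)]
    have e2 : g ^ 2 ^ k * g ^ 2 ^ k * (t' * t') = 1 := by
      rw [← hk3', mul_assoc (g ^ 2 ^ k) t', ← mul_assoc t', ← c2, mul_assoc (g ^ 2 ^ k) t' t',
        mul_assoc (g ^ 2 ^ k) (g ^ 2 ^ k)]
    have e3 : t * t = t' * t' := mul_left_cancel (e1.trans e2.symm)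
    have c4 : t⁻¹ * t' = t' * t⁻¹ := (show Commute t t' from c3).inv_left.eq
    rw [mul_assoc t⁻¹, ← mul_assoc t', ← c4, mul_assoc t⁻¹ t', ← mul_assoc t⁻¹ t⁻¹, ← mul_inv_rev,
      e3, inv_mul_cancel]
  rw [d.mk_eq_iff]
  rcases d.eq_or_of_sq (mul_mem (inv_mem ht) ht') hsq with h | h
  · rw [inv_mul_eq_one] at h; rw [h]; exact Or.inl rfl
  · rw [inv_mul_eq_iff_eq_mul] at h; rw [h, ← mul_assoc]; exact Or.inr rfl

theorem rel_conj {g : G} {w : G} (c : G) (h : d.Rel g (QuotientGroup.mk w)) :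
    d.Rel (c * g * c⁻¹) (QuotientGroup.mk (c * w * c⁻¹)) := by
  haveI := d.hVn
  haveI := d.z_normal
  obtain ⟨k, t, ht, h1, h2, h3, hC, h5⟩ := h
  refine ⟨k, c * t * c⁻¹, d.hVn.conj_mem t ht c, ?_, ?_, ?_, ?_, ?_⟩ <;> rw [conj_pow]
  · intro hm; apply h1
    have := d.hVn.conj_mem _ hm c⁻¹
    rwa [inv_inv, show c⁻¹ * (c * g ^ 2 ^ k * c⁻¹) * c = g ^ 2 ^ k by group] at this
  · rw [show c * g ^ 2 ^ k * c⁻¹ * (c * g ^ 2 ^ k * c⁻¹) = c * (g ^ 2 ^ k * g ^ 2 ^ k) * c⁻¹ by group]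
    exact d.hVn.conj_mem _ h2 c
  · rw [show c * g ^ 2 ^ k * c⁻¹ * (c * t * c⁻¹) * (c * g ^ 2 ^ k * c⁻¹ * (c * t * c⁻¹))
      = c * (g ^ 2 ^ k * t * (g ^ 2 ^ k * t)) * c⁻¹ by group, h3, mul_one, mul_inv_cancel]
  · exact d.cent_normal.conj_mem _ hC c
  · rw [show c * g ^ 2 ^ k * c⁻¹ * (c * t * c⁻¹) = c * (g ^ 2 ^ k * t) * c⁻¹ by group,
      QuotientGroup.mk_mul, QuotientGroup.mk_mul, h5, ← QuotientGroup.mk_mul, ← QuotientGroup.mk_mul]

theorem conj_eq_zpow (a : G) : ∃ i : ℤ, a * d.v * a⁻¹ = d.v ^ i :=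
  (mem_zpowers_iff.1 (d.hVn.conj_mem d.v (mem_zpowers _) a)).imp fun _ h => h.symm

theorem commutator_mem_cent (a b : G) : a * b * a⁻¹ * b⁻¹ ∈ d.cent := by
  obtain ⟨i, hi⟩ := d.conj_eq_zpow a
  obtain ⟨j, hj⟩ := d.conj_eq_zpow b
  have h1 : a * b * d.v * (a * b)⁻¹ = d.v ^ (i * j) := by
    rw [show a * b * d.v * (a * b)⁻¹ = a * (b * d.v * b⁻¹) * a⁻¹ by group, hj, ← conj_zpow, hi,
      ← zpow_mul]
  have h2 : b * a * d.v * (b * a)⁻¹ = d.v ^ (i * j) := by
    rw [show b * a * d.v * (b * a)⁻¹ = b * (a * d.v * a⁻¹) * b⁻¹ by group, hi, ← conj_zpow, hj,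
      ← zpow_mul, mul_comm]
  have h3 : (b * a)⁻¹ * (a * b) ∈ d.cent := d.mem_cent_iff.2 (by
    rw [← mul_inv_eq_iff_eq_mul,
      show (b * a)⁻¹ * (a * b) * d.v * ((b * a)⁻¹ * (a * b))⁻¹
        = (b * a)⁻¹ * (a * b * d.v * (a * b)⁻¹) * (b * a) by group, h1, ← h2]
    group)
  have h4 := d.cent_normal.conj_mem _ h3 (b * a)
  rwa [show b * a * ((b * a)⁻¹ * (a * b)) * (b * a)⁻¹ = a * b * a⁻¹ * b⁻¹ by group] at h4

theorem conj_mem_smul {P : Sylow 2 G} {x : G} (c : G) (h : x ∈ P) : c * x * c⁻¹ ∈ c • P := by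
  show c * x * c⁻¹ ∈ ((c • P : Sylow 2 G) : Subgroup G)
  rw [Sylow.coe_subgroup_smul]
  exact Subgroup.mem_smul_pointwise_iff_exists _ _ _ |>.2 ⟨x, h, rfl⟩

theorem exists_smul_ne (hnn : ∀ P : Sylow 2 G, ¬ (P : Subgroup G).Normal) (P : Sylow 2 G) :
    ∃ c : G, c • P ≠ P := by
  by_contra h
  push Not at h
  exact hnn P (normalizer_eq_top_iff.1 (eq_top_iff.2 fun c _ =>
    Sylow.smul_eq_iff_mem_normalizer.1 (h c)))

theorem trans_inv (hnn : ∀ P : Sylow 2 G, ¬ (P : Subgroup G).Normal) {P : Sylow 2 G} {w₁ w₂ : G}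
    (h₁ : d.Inv w₁) (hP₁ : w₁ ∈ P) (h₂ : d.Inv w₂) (hP₂ : w₂ ∈ P) :
    ∃ e ∈ normalizer ((P : Subgroup G) : Set G),
      (QuotientGroup.mk (e * w₂ * e⁻¹) : G ⧸ zpowers d.z) = QuotientGroup.mk w₁ := by
  obtain ⟨c₀, hc₀⟩ := exists_smul_ne hnn P
  obtain ⟨c, hc⟩ := d.conj_or h₂ (d.inv_conj h₁ c₀) hP₂ (conj_mem_smul c₀ hP₁) hc₀.symm
  have hzc : c₀⁻¹ * (c₀ * w₁ * c₀⁻¹ * d.z) * c₀ = w₁ * d.z := by
    rw [mul_assoc _ (c₀ * w₁ * c₀⁻¹ * d.z), mul_assoc (c₀ * w₁ * c₀⁻¹) d.z, ← d.z_comm c₀]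
    group
  refine ⟨c₀⁻¹ * c, ?_, ?_⟩
  · refine Sylow.smul_eq_iff_mem_normalizer.1
      (d.sylow_eq_of_inv (d.inv_conj h₂ _) (conj_mem_smul _ hP₂) ?_)
    rw [show c₀⁻¹ * c * w₂ * (c₀⁻¹ * c)⁻¹ = c₀⁻¹ * (c * w₂ * c⁻¹) * c₀ by group]
    rcases hc with hc | hc <;> rw [hc]
    · rwa [show c₀⁻¹ * (c₀ * w₁ * c₀⁻¹) * c₀ = w₁ by group]
    · rw [hzc]
      exact mul_mem hP₁ (d.z_mem P)
  · rw [d.mk_eq_iff,
      show c₀⁻¹ * c * w₂ * (c₀⁻¹ * c)⁻¹ = c₀⁻¹ * (c * w₂ * c⁻¹) * c₀ by group]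
    rcases hc with hc | hc <;> rw [hc]
    · left; group
    · right
      rw [hzc, mul_assoc, d.z_sq, mul_one]

theorem sylow_subgroupOf_not_cyclic (hO : Cfsg.pPrimeCore 2 G = ⊥)
    (hnn : ∀ P : Sylow 2 G, ¬ (P : Subgroup G).Normal) (P : Sylow 2 G) :
    ¬ IsCyclic ↥((P : Subgroup G) ⊓ d.cent) := by
  classical
  intro hc
  haveI := d.hVn
  haveI := d.cent_normal
  haveI : Fact (Nat.Prime 2) := ⟨Nat.prime_two⟩
  obtain ⟨Q, hQ⟩ := PBasic.exists_sylow_subgroupOf P d.cent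
  haveI : IsCyclic (Q : Subgroup d.cent) := by
    rw [hQ]
    exact isCyclic_of_injective
      (f := (({ toFun := fun t => ⟨((t : d.cent) : G), t.2, (t : d.cent).2⟩
                map_one' := rfl
                map_mul' := fun _ _ => rfl } :
        (P : Subgroup G).subgroupOf d.cent →* ↥((P : Subgroup G) ⊓ d.cent))))
      fun a b h => Subtype.ext (Subtype.ext (congrArg (fun q : ↥((P : Subgroup G) ⊓ d.cent) => (q : G)) h))
  have heven : 2 ∣ Nat.card d.cent := by
    have h := Subgroup.orderOf_dvd_natCard d.cent (d.V_le_cent d.hzV)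
    rwa [d.hz] at h
  have hcompl := Fusion.hasNormalPComplement_of_normalizer_le_centralizer Q
    (IsCyclic.normalizer_le_centralizer ((Nat.minFac_eq_two_iff _).2 heven) inferInstance)
  have hbot : Cfsg.pPrimeCore 2 d.cent = ⊥ := by
    have := PBasic.map_pPrimeCore_le_of_normal (p := 2) d.cent
    rw [hO, le_bot_iff, Subgroup.map_eq_bot_iff_of_injective _ (subtype_injective _)] at this
    exact this
  have hC2 : IsPGroup 2 d.cent := by
    have h := PBasic.quotient_pPrimeCore_isPGroup hcompl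
    exact h.of_equiv ((QuotientGroup.quotientMulEquivOfEq hbot).trans QuotientGroup.quotientBot)
  let φ : G →* MulAut (zpowers d.v) := MulAut.conjNormal
  have hker : φ.ker ≤ d.cent := fun g hg => d.mem_cent_iff.2 (by
    have := congrArg Subtype.val (DFunLike.congr_fun (MonoidHom.mem_ker.1 hg) ⟨d.v, mem_zpowers _⟩)
    exact mul_inv_eq_iff_eq_mul.1 this)
  have hA : IsPGroup 2 (MulAut (zpowers d.v)) := by
    refine IsPGroup.of_card (n := d.n - 1) ?_
    have hn := d.hn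
    rw [(isCyclic_zpowers d.v).card_mulAut, Nat.card_zpowers, d.hv,
      Nat.totient_prime_pow Nat.prime_two (by omega)]
    norm_num
  have hG : IsPGroup 2 G := by
    have h1 : IsPGroup 2 ↥(⊤ : Subgroup G) := by
      rw [← Subgroup.comap_top φ]
      refine (hA.to_subgroup ⊤).comap_of_ker_isPGroup φ (hC2.to_le hker)
    exact h1.of_equiv Subgroup.topEquiv
  exact hnn P (by
    rw [← P.is_maximal' (hG.to_subgroup ⊤) le_top]
    infer_instance)

theorem exists_fixed (hO : Cfsg.pPrimeCore 2 G = ⊥)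
    (hnn : ∀ P : Sylow 2 G, ¬ (P : Subgroup G).Normal) (P : Sylow 2 G) :
    ∃ x ∈ P, d.Inv x ∧ ∀ c ∈ P, (QuotientGroup.mk (c * x * c⁻¹) : G ⧸ zpowers d.z) = QuotientGroup.mk x := by
  classical
  haveI := d.cent_normal
  haveI : Fact (Nat.Prime 2) := ⟨Nat.prime_two⟩
  set T := d.cent.subgroupOf (P : Subgroup G) with hT
  by_cases h4 : ∀ V : Subgroup (P : Subgroup G), V.Normal → V ≤ T → Nat.card V = 4 →
      (∀ v ∈ V, v * v = 1) → False
  · exfalso
    have hTc : ∀ a : (P : Subgroup G), T ≤ zpowers a → False := fun a ha => by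
      refine d.sylow_subgroupOf_not_cyclic hO hnn P (isCyclic_sub (fun t ht => ?_) (isCyclic_zpowers (a : G)))
      obtain ⟨k, hk⟩ := mem_zpowers_iff.1 (ha (show (⟨t, ht.1⟩ : (P : Subgroup G)) ∈ T from ht.2))
      exact mem_zpowers_iff.2 ⟨k, by simpa using congrArg Subtype.val hk⟩
    rcases KleinGammaRank.structure_of_no_normal_four P.isPGroup' T h4 with
      ⟨a, ha⟩ | ⟨a, m, haT, -, hao, -, hinv⟩
    · exact hTc a ha.le
    obtain ⟨b, hb, hb2⟩ := d.exists_sqrt
    set a4 : (P : Subgroup G) := a ^ 2 ^ m with ha4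
    have ha4o : orderOf a4 = 4 := by
      rw [ha4, orderOf_pow, hao, pow_add, Nat.gcd_eq_right (dvd_mul_right _ _),
        Nat.mul_div_cancel_left _ (by positivity)]
      norm_num
    have ha4T : a4 ∈ T := haT (pow_mem (mem_zpowers a) _)
    have hno : ∀ t : (P : Subgroup G), t ∈ T → t * a4 * t⁻¹ = a4⁻¹ → t * a4 = a4 * t → False := by
      intro t _ h1 h2
      rw [h2, mul_inv_cancel_right, eq_inv_iff_mul_eq_one, ← pow_two] at h1
      have := Nat.le_of_dvd (by norm_num) (orderOf_dvd_of_pow_eq_one h1)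
      omega
    let b' : (P : Subgroup G) := ⟨b, d.V_le P hb⟩
    have hbT : b' ∈ T := d.V_le_cent hb
    by_cases hba : b' ∈ zpowers a
    · refine hTc a fun t ht => ?_
      by_contra hta
      refine hno t ht (hinv t ht hta) (Subtype.ext ?_)
      show (t : G) * (a4 : G) = (a4 : G) * t
      have hmem : (a4 : G) * b⁻¹ ∈ zpowers (a : G) := by
        obtain ⟨i, hi⟩ := mem_zpowers_iff.1 hba
        refine mem_zpowers_iff.2 ⟨(2 ^ m : ℕ) - i, ?_⟩
        rw [zpow_sub, zpow_natCast, ha4, SubgroupClass.coe_pow]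
        congr 2
        simpa using congrArg Subtype.val hi
      have hza : d.z ∈ zpowers (a : G) := by
        obtain ⟨i, hi⟩ := mem_zpowers_iff.1 hba
        exact mem_zpowers_iff.2 ⟨i + i, by
          rw [zpow_add, ← hb2]
          have : (a : G) ^ i = b := by simpa using congrArg Subtype.val hi
          rw [this]⟩
      have h42 : (a4 : G) * (a4 : G) = d.z := by
        have h1 : (a4 : G) * a4 * ((a4 : G) * a4) = 1 := by
          rw [← pow_two, ← pow_two, ← pow_mul]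
          rw [← SubgroupClass.coe_pow, show 2 * 2 = orderOf a4 by rw [ha4o], pow_orderOf_eq_one]
          rfl
        have h2 : (a4 : G) * a4 ≠ 1 := fun e => by
          have e' : a4 ^ 2 = 1 := Subtype.ext (by rw [SubgroupClass.coe_pow, pow_two]; exact e)
          have := Nat.le_of_dvd (by norm_num) (orderOf_dvd_of_pow_eq_one e')
          omega
        by_contra h3
        have h4' : (a4 : G) * a4 ∈ zpowers (a : G) := by
          rw [ha4, SubgroupClass.coe_pow, ← pow_add]; exact pow_mem (mem_zpowers _) _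
        exact d.pair_noncyclic h1 h2 h3 h4' hza (isCyclic_zpowers _)
      have hb4 : b * (a4 : G) = (a4 : G) * b := (d.comm_of_mem ha4T hb).symm
      have hb4' : b⁻¹ * (a4 : G) = (a4 : G) * b⁻¹ := (show Commute b (a4 : G) from hb4).inv_left.eq
      have hsq : (a4 : G) * b⁻¹ * ((a4 : G) * b⁻¹) = 1 := by
        rw [mul_assoc, ← mul_assoc b⁻¹, hb4', mul_assoc (a4 : G) b⁻¹ b⁻¹, ← mul_assoc (a4 : G) (a4 : G),
          ← mul_inv_rev, hb2, h42, mul_inv_cancel]
      have hV4 : (a4 : G) ∈ zpowers d.v := by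
        by_cases h1 : (a4 : G) * b⁻¹ = 1
        · rwa [mul_inv_eq_one.1 h1]
        by_cases h2 : (a4 : G) * b⁻¹ = d.z
        · rw [mul_inv_eq_iff_eq_mul] at h2
          rw [h2]; exact mul_mem d.hzV hb
        exact absurd (isCyclic_zpowers _) (d.pair_noncyclic hsq h1 h2 hmem hza)
      exact d.comm_of_mem ht hV4
    · exact hno b' hbT (hinv b' hbT hba) (Subtype.ext (d.comm_of_mem ha4T hb).symm)
  push Not at h4
  obtain ⟨W, hWn, hWT, hW4, hW2, -⟩ := h4
  haveI := hWn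
  let zP : (P : Subgroup G) := ⟨d.z, d.z_mem P⟩
  have mk : ∀ w : (P : Subgroup G), w ∈ W → w ≠ 1 → w ≠ zP → d.Inv (w : G) := fun w hw h1 h2 =>
    ⟨congrArg Subtype.val (hW2 w hw), fun e => h1 (Subtype.ext e), fun e => h2 (Subtype.ext e),
      hWT hw⟩
  by_cases hzW : zP ∈ W
  · obtain ⟨w, hw, hw1, hw2⟩ : ∃ w ∈ W, w ≠ 1 ∧ w ≠ zP := by
      by_contra h
      push Not at h
      have := Set.ncard_le_ncard (show (W : Set (P : Subgroup G)) ⊆ {1, zP} from fun w hw => by
        by_cases e : w = 1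
        · exact Or.inl e
        · exact Or.inr (h w hw e)) (Set.toFinite _)
      rw [← Nat.card_coe_set_eq, show Nat.card (W : Set (P : Subgroup G)) = 4 from hW4] at this
      have := Set.ncard_insert_le (1 : (P : Subgroup G)) {zP}
      rw [Set.ncard_singleton] at this
      omega
    refine ⟨w, w.2, mk w hw hw1 hw2, fun c hc => ?_⟩
    set u : (P : Subgroup G) := ⟨c, hc⟩ * w * ⟨c, hc⟩⁻¹ with hu
    have hu1 : u ≠ 1 := fun e => hw1 (conj_eq_one_iff.1 (hu ▸ e))
    have hu2 : u ≠ zP := fun e => (d.inv_conj (mk w hw hw1 hw2) c).2.2.1 (congrArg Subtype.val e)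
    have huW : u ∈ W := hWn.conj_mem w hw _
    rw [d.mk_eq_iff]
    show (w : G) = (u : G) ∨ (w : G) = (u : G) * d.z
    by_contra hne
    push Not at hne
    have hsub : ({1, zP, w, u, w * zP} : Set (P : Subgroup G)) ⊆ (W : Set (P : Subgroup G)) := by
      intro t ht
      simp only [Set.mem_insert_iff, Set.mem_singleton_iff] at ht
      rcases ht with rfl | rfl | rfl | rfl | rfl
      exacts [one_mem _, hzW, hw, huW, mul_mem hw hzW]
    have hz1 : zP ≠ 1 := fun e => d.z_ne (congrArg Subtype.val e)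
    have h5 : ({1, zP, w, u, w * zP} : Set (P : Subgroup G)).ncard = 5 := by
      have e1 : w * zP ≠ w := fun e => hz1 (mul_eq_left.1 e)
      have e2 : w * zP ≠ zP := fun e => hw1 (mul_eq_right.1 e)
      have e3 : w * zP ≠ 1 := fun e => hw2 (by
        rw [mul_eq_one_iff_eq_inv] at e
        rw [e]; exact inv_eq_of_mul_eq_one_right (Subtype.ext d.z_sq))
      have e4 : u ≠ w := fun e => hne.1 (congrArg Subtype.val e).symm
      have e5 : u ≠ w * zP := fun e => hne.2 (by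
        have e' := congrArg Subtype.val e
        show (w : G) = (u : G) * d.z
        rw [show (u : G) = (w : G) * d.z from e', mul_assoc, d.z_sq, mul_one])
      rw [Set.ncard_insert_of_notMem (by simp [hz1.symm, hw1.symm, hu1.symm, e3.symm]) (Set.toFinite _),
        Set.ncard_insert_of_notMem (by simp [hw2.symm, hu2.symm, e2.symm]) (Set.toFinite _),
        Set.ncard_insert_of_notMem (by simp [e4.symm, e1.symm]) (Set.toFinite _),
        Set.ncard_pair e5]
    have := Set.ncard_le_ncard hsub (Set.toFinite _)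
    rw [h5, ← Nat.card_coe_set_eq, show Nat.card (W : Set (P : Subgroup G)) = 4 from hW4] at this
    omega
  · obtain ⟨w, hw, hwo, hwc⟩ := NormalFour.exists_central_mem P.isPGroup' (N := W) fun e => by
      rw [e, Subgroup.card_bot] at hW4; omega
    have hw1 : w ≠ 1 := fun e => by rw [e, orderOf_one] at hwo; omega
    refine ⟨w, w.2, mk w hw hw1 fun e => hzW (e ▸ hw), fun c hc => ?_⟩
    have h := congrArg Subtype.val (mem_center_iff.1 hwc ⟨c, hc⟩)
    rw [show c * (w : G) * c⁻¹ = (w : G) by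
      rw [mul_inv_eq_iff_eq_mul]; exact h]

theorem exists_rel (hnn : ∀ P : Sylow 2 G, ¬ (P : Subgroup G).Normal) {P : Sylow 2 G} {x g : G}
    (hx : d.Inv x) (hxP : x ∈ P) (hg : g ∈ P) (hgC : g ∉ d.cent) :
    ∃ w ∈ P, d.Inv w ∧ d.Rel g (QuotientGroup.mk w) := by
  classical
  have hex : ∃ k, g ^ 2 ^ (k + 1) ∈ zpowers d.v := by
    obtain ⟨k, hk⟩ := P.isPGroup' ⟨g, hg⟩
    refine ⟨k, ?_⟩
    rw [pow_succ, pow_mul, show g ^ 2 ^ k = 1 from by simpa using congrArg Subtype.val hk, one_pow]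
    exact one_mem _
  set k := Nat.find hex with hk
  have h2 : g ^ 2 ^ k * g ^ 2 ^ k ∈ zpowers d.v := by
    rw [← pow_add, ← two_mul, ← pow_succ']; exact Nat.find_spec hex
  have h1 : g ^ 2 ^ k ∉ zpowers d.v := by
    rcases Nat.eq_zero_or_pos k with h0 | h0
    · rw [h0, pow_zero, pow_one]; exact fun h => hgC (d.V_le_cent h)
    · have := Nat.find_min hex (show k - 1 < k by omega)
      rwa [Nat.sub_add_cancel h0] at this
  set w := g ^ 2 ^ k with hw
  have hwP : w ∈ P := pow_mem hg _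
  have hwC : w ∈ d.cent := by
    by_contra hwC
    obtain ⟨c, hc⟩ := exists_smul_ne hnn P
    exact hc (d.eq_of_sq_mem h2 hwC (d.inv_conj hx c) hwP (conj_mem_smul c hxP)).symm
  obtain ⟨e, he⟩ := mem_zpowers_iff.1 h2
  rcases Int.even_or_odd e with ⟨f, hf⟩ | ho
  swap
  · exfalso
    apply hgC
    obtain ⟨a, b, hab⟩ := (Int.isCoprime_two_right.2 ho).pow_right (n := d.n)
    have hgs : Commute g (w * w) := by
      rw [hw, ← pow_add]; exact (Commute.refl g).pow_right _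
    have hv : d.v = (w * w) ^ a := by
      rw [← he, ← zpow_mul, show e * a = 1 - b * (2 ^ d.n : ℤ) by rw [← hab]; ring, zpow_sub,
        zpow_one, mul_comm b, zpow_mul, show (2 : ℤ) ^ d.n = ((2 ^ d.n : ℕ) : ℤ) by push_cast; ring,
        zpow_natCast, ← d.hv, pow_orderOf_eq_one, one_zpow, inv_one, mul_one]
    rw [d.mem_cent_iff, hv]
    exact (hgs.zpow_right a).eq
  have ht : (d.v ^ f)⁻¹ ∈ zpowers d.v := inv_mem (zpow_mem (mem_zpowers _) f)
  have hsq : w * (d.v ^ f)⁻¹ * (w * (d.v ^ f)⁻¹) = 1 := by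
    have hc := d.comm_of_mem hwC ht
    rw [mul_assoc w, ← mul_assoc (d.v ^ f)⁻¹, ← hc, mul_assoc w (d.v ^ f)⁻¹, ← mul_assoc w w,
      ← mul_inv_rev, ← zpow_add, ← hf, he, mul_inv_cancel]
  refine ⟨_, mul_mem hwP (d.V_le P ht), ⟨hsq, fun h => h1 ?_, fun h => h1 ?_,
    mul_mem hwC (d.V_le_cent ht)⟩, k, _, ht, h1, h2, hsq, hwC, rfl⟩
  · exact mul_inv_eq_one.1 h ▸ zpow_mem (mem_zpowers _) f
  · rw [mul_inv_eq_iff_eq_mul] at h
    exact h ▸ mul_mem d.hzV (zpow_mem (mem_zpowers _) f)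

theorem unique_inv (hO : Cfsg.pPrimeCore 2 G = ⊥)
    (hnn : ∀ P : Sylow 2 G, ¬ (P : Subgroup G).Normal) (hcent : d.cent ≠ ⊤) (P : Sylow 2 G) :
    ∃ x ∈ P, d.Inv x ∧ ∀ w ∈ P, d.Inv w →
      (QuotientGroup.mk w : G ⧸ zpowers d.z) = QuotientGroup.mk x := by
  classical
  haveI := d.cent_normal
  haveI := d.hVn
  haveI := d.z_normal
  haveI : Fact (Nat.Prime 2) := ⟨Nat.prime_two⟩
  obtain ⟨x, hxP, hx, hfix⟩ := d.exists_fixed hO hnn P
  refine ⟨x, hxP, hx, ?_⟩
  obtain ⟨g₀, hg₀, hg₀C⟩ : ∃ g₀ ∈ P, g₀ ∉ d.cent := by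
    by_contra h
    push Not at h
    apply hcent
    rw [← Subgroup.index_eq_one]
    have h1 : d.cent.index ∣ (P : Subgroup G).index := Subgroup.index_dvd_of_le fun t ht => h t ht
    let φ : G →* MulAut (zpowers d.v) := MulAut.conjNormal
    have hker : φ.ker ≤ d.cent := fun g hg => d.mem_cent_iff.2 (by
      have := congrArg Subtype.val (DFunLike.congr_fun (MonoidHom.mem_ker.1 hg) ⟨d.v, mem_zpowers _⟩)
      exact mul_inv_eq_iff_eq_mul.1 this)
    have h2 : d.cent.index ∣ 2 ^ (d.n - 1) := by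
      refine (Subgroup.index_dvd_of_le hker).trans ?_
      rw [Subgroup.index_ker]
      refine (Subgroup.card_subgroup_dvd_card _).trans (dvd_of_eq ?_)
      have hn := d.hn
      rw [(isCyclic_zpowers d.v).card_mulAut, Nat.card_zpowers, d.hv,
        Nat.totient_prime_pow Nat.prime_two (by omega)]
      norm_num
    exact Nat.eq_one_of_dvd_coprimes
      ((Nat.prime_two.coprime_iff_not_dvd.2 P.not_dvd_index).symm.pow_right _) h1 h2
  set N : Subgroup G := normalizer ((P : Subgroup G) : Set G) with hN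
  haveI := Fintype.ofFinite G
  let Ω : Finset G := Finset.univ.filter fun g => g ∈ P ∧ g * g₀⁻¹ ∈ d.cent
  have hΩ : ∀ g, g ∈ Ω ↔ g ∈ P ∧ g * g₀⁻¹ ∈ d.cent := fun g => by simp [Ω]
  have hΩC : ∀ g ∈ Ω, g ∉ d.cent := fun g hg h => hg₀C (by
    have := mul_mem (inv_mem h) ((hΩ g).1 hg).2
    rw [inv_mul_cancel_left] at this
    simpa using inv_mem this)
  choose! f hfP hfI hfR using fun g (hg : g ∈ Ω) => d.exists_rel hnn hx hxP ((hΩ g).1 hg).1 (hΩC g hg)
  let F : G → G ⧸ zpowers d.z := fun g => QuotientGroup.mk (f g)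
  letI act : MulAction N (G ⧸ zpowers d.z) := MulAction.compHom _
    ((ConjAct.toConjAct : (G ⧸ zpowers d.z) ≃* _).toMonoidHom.comp
      ((QuotientGroup.mk' (zpowers d.z)).comp N.subtype))
  have hsmul : ∀ (e : N) (w : G), e • (QuotientGroup.mk w : G ⧸ zpowers d.z) =
      QuotientGroup.mk ((e : G) * w * (e : G)⁻¹) := fun _ _ => rfl
  have hNP : ∀ (e : N) (t : G), t ∈ P → (e : G) * t * (e : G)⁻¹ ∈ P :=
    fun e t ht => (mem_normalizer_iff.1 e.2 t).1 ht
  have horb : ∀ w ∈ P, d.Inv w →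
      (QuotientGroup.mk w : G ⧸ zpowers d.z) ∈ MulAction.orbit N (QuotientGroup.mk x) := by
    intro w hw hwI
    obtain ⟨e, he, heq⟩ := d.trans_inv hnn hwI hw hx hxP
    exact ⟨⟨e, he⟩, heq⟩
  set O := MulAction.orbit N (QuotientGroup.mk x : G ⧸ zpowers d.z) with hOdef
  have hodd : Odd (Nat.card O) := by
    rw [Nat.card_coe_set_eq, ← MulAction.index_stabilizer]
    refine (Nat.coprime_two_right.1 ?_)
    have hle : (P : Subgroup G).subgroupOf N ≤ MulAction.stabilizer N (QuotientGroup.mk x : G ⧸ zpowers d.z) :=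
      fun e he => hfix e he
    refine Nat.Coprime.coprime_dvd_left
      ((Subgroup.index_dvd_of_le hle).trans ?_) (Nat.prime_two.coprime_iff_not_dvd.2 P.not_dvd_index).symm
    exact Subgroup.relIndex_dvd_index_of_le le_normalizer
  have hFO : ∀ g ∈ Ω, F g ∈ O := fun g hg => horb _ (hfP g hg) (hfI g hg)
  have hequiv : ∀ (e : N) (g : G), g ∈ Ω →
      (e : G) * g * (e : G)⁻¹ ∈ Ω ∧ F ((e : G) * g * (e : G)⁻¹) = e • F g := by
    intro e g hg
    have hm : (e : G) * g * (e : G)⁻¹ ∈ Ω := by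
      refine (hΩ _).2 ⟨hNP e g ((hΩ g).1 hg).1, ?_⟩
      have := mul_mem (d.commutator_mem_cent (e : G) g) ((hΩ g).1 hg).2
      rwa [← mul_assoc, inv_mul_cancel_right] at this
    refine ⟨hm, d.rel_unique (hfR _ hm) ?_⟩
    rw [hsmul]
    exact d.rel_conj (e : G) (hfR g hg)
  have hfib : ∀ q ∈ O, (Ω.filter fun g => F g = q).card =
      (Ω.filter fun g => F g = (QuotientGroup.mk x : G ⧸ zpowers d.z)).card := by
    rintro q ⟨e, rfl⟩
    symm
    refine Finset.card_bij (fun g _ => (e : G) * g * (e : G)⁻¹) (fun g hg => ?_)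
      (fun a _ b _ h => mul_left_cancel (mul_right_cancel h)) fun b hb => ?_
    · rw [Finset.mem_filter] at hg ⊢
      exact ⟨(hequiv e g hg.1).1, by rw [(hequiv e g hg.1).2, hg.2]⟩
    · rw [Finset.mem_filter] at hb
      refine ⟨(e⁻¹ : N) * b * ((e⁻¹ : N) : G)⁻¹, Finset.mem_filter.2 ⟨(hequiv e⁻¹ b hb.1).1, ?_⟩, ?_⟩
      · rw [(hequiv e⁻¹ b hb.1).2, hb.2]; exact inv_smul_smul e _
      · simp [mul_assoc]
  have hdvd : Nat.card O ∣ Ω.card := by
    refine ⟨(Ω.filter fun g => F g = (QuotientGroup.mk x : G ⧸ zpowers d.z)).card, ?_⟩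
    have hfin := Set.toFinite O
    rw [Finset.card_eq_sum_card_fiberwise (t := hfin.toFinset) (fun g hg => hfin.mem_toFinset.2 (hFO g hg)),
      Finset.sum_congr rfl (fun q hq => hfib q (hfin.mem_toFinset.1 hq)), Finset.sum_const, smul_eq_mul,
      ← Set.ncard_eq_toFinset_card O hfin, Nat.card_coe_set_eq]
  have hΩcard : Ω.card ∣ Nat.card (P : Subgroup G) := by
    refine dvd_trans (dvd_of_eq ?_) (Subgroup.card_subgroup_dvd_card (d.cent.subgroupOf (P : Subgroup G)))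
    rw [← Nat.card_eq_finsetCard]
    exact Nat.card_congr
      { toFun := fun g => ⟨⟨(g : G) * g₀⁻¹, mul_mem ((hΩ _).1 g.2).1 (inv_mem hg₀)⟩, ((hΩ _).1 g.2).2⟩
        invFun := fun t => ⟨((t : (P : Subgroup G)) : G) * g₀, (hΩ _).2 ⟨mul_mem (t : (P : Subgroup G)).2 hg₀,
          by rw [mul_inv_cancel_right]; exact t.2⟩⟩
        left_inv := fun g => Subtype.ext (by simp [mul_assoc])
        right_inv := fun t => Subtype.ext (Subtype.ext (by simp [mul_assoc])) }
  have hone : Nat.card O = 1 := by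
    obtain ⟨j, hj⟩ := IsPGroup.iff_card.1 P.isPGroup'
    exact Nat.eq_one_of_dvd_coprimes ((Nat.coprime_two_right.2 hodd).pow_right j) dvd_rfl
      (hj ▸ hdvd.trans hΩcard)
  intro w hw hwI
  obtain ⟨hsub, -⟩ := Nat.card_eq_one_iff_unique.1 hone
  exact congrArg Subtype.val (hsub.elim (⟨_, horb w hw hwI⟩ : O) ⟨_, MulAction.mem_orbit_self _⟩)

theorem absurd_of (hO : Cfsg.pPrimeCore 2 G = ⊥)
    (hnn : ∀ P : Sylow 2 G, ¬ (P : Subgroup G).Normal) (hcent : d.cent ≠ ⊤)
    (hcore : ∀ M : Subgroup G, M.Normal → IsPGroup 2 M → M ≤ zpowers d.v) : False := by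
  classical
  haveI : Fact (Nat.Prime 2) := ⟨Nat.prime_two⟩
  haveI := d.z_normal
  set P : Sylow 2 G := default
  obtain ⟨x, hxP, hx, huniq⟩ := d.unique_inv hO hnn hcent P
  let π := QuotientGroup.mk' (zpowers d.z)
  have hker : π.ker ≤ (P : Subgroup G) := by
    rw [QuotientGroup.ker_mk', zpowers_le]; exact d.z_mem P
  have hπx : π x ≠ 1 := fun h => by
    rcases (d.mk_eq_iff (a := 1) (b := x)).1 (h.symm.trans rfl |>.trans rfl) with h' | h'
    · exact hx.2.1 h'
    · exact hx.2.2.1 (by rw [h', one_mul])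
  obtain ⟨N, hNn, hNo, hN⟩ := Cfsg.Agent.S0215.result
    (P.mapSurjective (QuotientGroup.mk'_surjective (zpowers d.z))) (π x)
    (orderOf_eq_prime (by rw [pow_two, ← map_mul, hx.1, map_one]) hπx)
    (Subgroup.mem_map_of_mem _ hxP) (by
      intro gq hgq
      obtain ⟨c, rfl⟩ := QuotientGroup.mk'_surjective _ gq
      rw [← map_inv, ← map_mul, ← map_mul] at hgq ⊢
      obtain ⟨y, hy, hye⟩ := Subgroup.mem_map.1 hgq
      have hm : c * x * c⁻¹ ∈ P := by
        have h1 : y⁻¹ * (c * x * c⁻¹) ∈ π.ker := by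
          rw [MonoidHom.mem_ker, map_mul, map_inv, hye, inv_mul_cancel]
        have h2 : y * (y⁻¹ * (c * x * c⁻¹)) ∈ (P : Subgroup G) := mul_mem hy (hker h1)
        rwa [mul_inv_cancel_left] at h2
      exact huniq _ hm (d.inv_conj hx c))
  haveI := hNn
  set X := N.comap π with hX
  haveI : X.Normal := hNn.comap π
  -- the preimage of the odd normal subgroup is a 2-group
  have hXP : ∀ R : Sylow 2 X, (R : Subgroup X).map X.subtype ≤ zpowers d.z := by
    rintro R _ ⟨r, hr, rfl⟩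
    show (r : G) ∈ zpowers d.z
    obtain ⟨j, hj⟩ := R.isPGroup' ⟨r, hr⟩
    have h1 : π (r : G) ^ 2 ^ j = 1 := by
      have h0 : (r : G) ^ 2 ^ j = 1 := by simpa using congrArg (fun t : (R : Subgroup X) => ((t : X) : G)) hj
      rw [← map_pow, h0, map_one]
    have h2 : orderOf (π (r : G)) ∣ Nat.card N := Subgroup.orderOf_dvd_natCard N r.2
    have h3 := Nat.eq_one_of_dvd_coprimes ((Nat.coprime_two_right.2 hNo).pow_right j) h2
      (orderOf_dvd_of_pow_eq_one h1)
    exact (QuotientGroup.eq_one_iff _).1 (orderOf_eq_one_iff.1 h3)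
  have hXcompl : Cfsg.HasNormalPComplement 2 X := by
    refine Fusion.hasNormalPComplement_of_normalizer_le_centralizer default fun a _ => ?_
    refine mem_centralizer_iff.2 fun r hr => Subtype.ext ?_
    obtain ⟨i, hi⟩ := mem_zpowers_iff.1 (hXP _ (mem_map_of_mem _ hr))
    show (r : G) * (a : G) = (a : G) * r
    rw [show (r : G) = d.z ^ i from hi.symm]
    exact ((show Commute (a : G) d.z from d.z_comm a).zpow_right i).eq.symm
  have hXbot : Cfsg.pPrimeCore 2 X = ⊥ := by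
    have := PBasic.map_pPrimeCore_le_of_normal (p := 2) X
    rw [hO, le_bot_iff, Subgroup.map_eq_bot_iff_of_injective _ (subtype_injective _)] at this
    exact this
  have hX2 : IsPGroup 2 X := (PBasic.quotient_pPrimeCore_isPGroup hXcompl).of_equiv
    ((QuotientGroup.quotientMulEquivOfEq hXbot).trans QuotientGroup.quotientBot)
  have hXz : X ≤ zpowers d.z := by
    intro t ht
    exact hXP default (mem_map_of_mem _ (show (⟨t, ht⟩ : X) ∈ ((default : Sylow 2 X) : Subgroup X) by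
      rw [← (default : Sylow 2 X).is_maximal' (hX2.to_subgroup ⊤) le_top]; exact mem_top _))
  let E := closure ({x, d.z} : Set G)
  have hzE : d.z ∈ E := subset_closure (by simp)
  have hxE : x ∈ E := subset_closure (by simp)
  have hEn : E.Normal := by
    refine normalizer_eq_top_iff.1 (eq_top_iff.2 fun c _ => mem_normalizer_fintype fun t ht => ?_)
    have hle : E.map (MulAut.conj c).toMonoidHom ≤ E := by
      rw [MonoidHom.map_closure, closure_le]
      rintro _ ⟨s, hs, rfl⟩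
      rcases hs with rfl | rfl
      · show c * s * c⁻¹ ∈ E
        have h1 : s * c * s⁻¹ * c⁻¹ ∈ zpowers d.z := hXz (by
          show π (s * c * s⁻¹ * c⁻¹) ∈ N
          rw [map_mul, map_mul, map_mul, map_inv, map_inv]; exact hN (π c))
        have h2 : s⁻¹ * (s * c * s⁻¹ * c⁻¹) ∈ E := mul_mem (inv_mem hxE) ((zpowers_le.2 hzE) h1)
        rw [show s⁻¹ * (s * c * s⁻¹ * c⁻¹) = (c * s * c⁻¹)⁻¹ by group] at h2
        simpa using inv_mem h2
      · show c * d.z * c⁻¹ ∈ E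
        rw [d.z_comm c, mul_inv_cancel_right]; exact hzE
    exact hle (mem_map_of_mem _ ht)
  have hE2 : IsPGroup 2 E :=
    P.isPGroup'.to_le ((closure_le _).2 (Set.insert_subset hxP (Set.singleton_subset_iff.2 (d.z_mem P))))
  exact d.pair_noncyclic hx.1 hx.2.1 hx.2.2.1 (hcore E hEn hE2 hxE) d.hzV (isCyclic_zpowers _)

end Data

theorem isPGroup_two_mulAut {X : Type u} [Group X] [Finite X] (hX : IsPGroup 2 X) (hc : IsCyclic X) :
    IsPGroup 2 (MulAut X) := by
  haveI : Fact (Nat.Prime 2) := ⟨Nat.prime_two⟩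
  obtain ⟨k, hk⟩ := IsPGroup.iff_card.1 hX
  refine IsPGroup.of_card (n := k - 1) ?_
  rw [hc.card_mulAut, hk]
  rcases Nat.eq_zero_or_pos k with rfl | h
  · simp
  · rw [Nat.totient_prime_pow Nat.prime_two h]
    norm_num

theorem meet_quotient (hC : Meet G) : Meet (G ⧸ Cfsg.pPrimeCore 2 G) := by
  classical
  haveI : Fact (Nat.Prime 2) := ⟨Nat.prime_two⟩
  let π := QuotientGroup.mk' (Cfsg.pPrimeCore 2 G)
  intro S' T' hne
  obtain ⟨S, rfl⟩ := Sylow.mapSurjective_surjective (QuotientGroup.mk'_surjective (Cfsg.pPrimeCore 2 G)) 2 S'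
  obtain ⟨T, rfl⟩ := Sylow.mapSurjective_surjective (QuotientGroup.mk'_surjective (Cfsg.pPrimeCore 2 G)) 2 T'
  set V : Subgroup (G ⧸ Cfsg.pPrimeCore 2 G) := (S : Subgroup G).map π ⊓ (T : Subgroup G).map π with hV
  set X := V.comap π with hX
  have hinj : ∀ R : Sylow 2 G, ∀ r ∈ R, π r = 1 → r = 1 := fun R r hr h => by
    obtain ⟨j, hj⟩ := R.isPGroup' ⟨r, hr⟩
    have h0 : r ^ 2 ^ j = 1 := by simpa using congrArg Subtype.val hj
    have h1 : orderOf r ∣ Nat.card (Cfsg.pPrimeCore 2 G) :=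
      Subgroup.orderOf_dvd_natCard _ ((QuotientGroup.eq_one_iff _).1 h)
    exact orderOf_eq_one_iff.1 (Nat.eq_one_of_dvd_coprimes
      ((PBasic.pPrimeCore_coprime 2 G).pow_right j) h1 (orderOf_dvd_of_pow_eq_one h0))
  have hidx : ∀ R : Sylow 2 G, V ≤ (R : Subgroup G).map π →
      ¬ 2 ∣ ((R : Subgroup G).subgroupOf X).index := by
    intro R hR
    let f : (R : Subgroup G).subgroupOf X →* V :=
      { toFun := fun r => ⟨π ((r : X) : G), (r : X).2⟩
        map_one' := Subtype.ext (map_one π)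
        map_mul' := fun a b => Subtype.ext (map_mul π _ _) }
    have hfb : Function.Bijective f := by
      refine ⟨(injective_iff_map_eq_one f).2 fun r hr => ?_, fun q => ?_⟩
      · exact Subtype.ext (Subtype.ext (hinj R _ r.2 (congrArg Subtype.val hr)))
      · obtain ⟨r, hr, hrq⟩ := hR q.2
        exact ⟨⟨⟨r, show π r ∈ V from hrq.symm ▸ q.2⟩, hr⟩, Subtype.ext hrq⟩
    have h1 := ((R : Subgroup G).subgroupOf X).card_mul_index
    rw [Nat.card_eq_of_bijective f hfb] at h1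
    have h2 : Nat.card X = Nat.card V * Nat.card (Cfsg.pPrimeCore 2 G) := by
      have h3 := Subgroup.card_mul_index (Cfsg.pPrimeCore 2 G |>.subgroupOf X)
      have hle : Cfsg.pPrimeCore 2 G ≤ X := fun t ht => by
        show π t ∈ V
        rw [show π t = 1 from (QuotientGroup.eq_one_iff _).2 ht]; exact one_mem _
      rw [Nat.card_congr (Subgroup.subgroupOfEquivOfLe hle).toEquiv] at h3
      let g : X →* V :=
        { toFun := fun r => ⟨π (r : G), r.2⟩
          map_one' := Subtype.ext (map_one π)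
          map_mul' := fun a b => Subtype.ext (map_mul π _ _) }
      have hg : Function.Surjective g := fun q => by
        obtain ⟨t, ht⟩ := QuotientGroup.mk'_surjective _ (q : G ⧸ Cfsg.pPrimeCore 2 G)
        exact ⟨⟨t, show π t ∈ V from ht.symm ▸ q.2⟩, Subtype.ext ht⟩
      have hgk : g.ker = (Cfsg.pPrimeCore 2 G).subgroupOf X := by
        ext r
        rw [MonoidHom.mem_ker, Subgroup.mem_subgroupOf, ← QuotientGroup.eq_one_iff]
        exact ⟨fun h => congrArg Subtype.val h, fun h => Subtype.ext h⟩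
      rw [← hgk, Subgroup.index_ker, MonoidHom.range_eq_top.2 hg, Subgroup.card_top, mul_comm] at h3
      exact h3.symm
    rw [h2] at h1
    rw [Nat.eq_of_mul_eq_mul_left Nat.card_pos h1]
    exact Nat.prime_two.coprime_iff_not_dvd.1 (PBasic.pPrimeCore_coprime 2 G).symm
  have hS : V ≤ (S : Subgroup G).map π := inf_le_left
  have hT : V ≤ (T : Subgroup G).map π := inf_le_right
  let As : Sylow 2 X := (S.isPGroup'.comap_subtype (K := X)).toSylow (hidx S hS)
  let Bs : Sylow 2 X := (T.isPGroup'.comap_subtype (K := X)).toSylow (hidx T hT)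
  obtain ⟨e, he⟩ := MulAction.exists_smul_eq X As Bs
  obtain ⟨a, ha, hae⟩ := hS (show π (e : G) ∈ V from e.2)
  have haX : a ∈ X := show π a ∈ V from hae.symm ▸ e.2
  set o : G := (e : G) * a⁻¹ with ho
  have hπo : π o = 1 := by rw [ho, map_mul, map_inv, hae, mul_inv_cancel]
  have hA : (S : Subgroup G) ⊓ X ≤ ((o⁻¹ • T : Sylow 2 G) : Subgroup G) := by
    intro t ht
    let t' : X := ⟨a⁻¹ * t * a, mul_mem (mul_mem (inv_mem haX) ht.2) haX⟩
    have h1 : t' ∈ As := mul_mem (mul_mem (inv_mem ha) ht.1) ha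
    have h2 : e * t' * e⁻¹ ∈ Bs := he ▸ Data.conj_mem_smul e h1
    have h3 : o * t * o⁻¹ ∈ T := by
      have h2' : (e : G) * (a⁻¹ * t * a) * (e : G)⁻¹ ∈ T := h2
      rwa [show (e : G) * (a⁻¹ * t * a) * (e : G)⁻¹ = o * t * o⁻¹ by rw [ho]; group] at h2'
    have h4 := Data.conj_mem_smul o⁻¹ h3
    rwa [show o⁻¹ * (o * t * o⁻¹) * o⁻¹⁻¹ = t by group] at h4
  have hne' : S ≠ o⁻¹ • T := by
    intro h
    apply hne
    refine Sylow.ext ?_
    rw [Sylow.coe_mapSurjective, Sylow.coe_mapSurjective, h, Sylow.coe_subgroup_smul]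
    ext q
    constructor
    · rintro ⟨r, hr, rfl⟩
      obtain ⟨t, ht, rfl⟩ := (Subgroup.mem_smul_pointwise_iff_exists _ _ _).1 hr
      refine ⟨t, ht, ?_⟩
      show π t = π (o⁻¹ * t * o⁻¹⁻¹)
      rw [map_mul, map_mul, map_inv, map_inv, map_inv, hπo]; simp
    · rintro ⟨t, ht, rfl⟩
      refine ⟨o⁻¹ * t * o⁻¹⁻¹, (Subgroup.mem_smul_pointwise_iff_exists _ _ _).2 ⟨t, ht, rfl⟩, ?_⟩
      show π (o⁻¹ * t * o⁻¹⁻¹) = π t
      rw [map_mul, map_mul, map_inv, map_inv, map_inv, hπo]; simp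
  haveI : IsCyclic ↥((S : Subgroup G) ⊓ X) := isCyclic_sub (le_inf inf_le_left hA) (hC S _ hne')
  show IsCyclic V
  let g : ↥((S : Subgroup G) ⊓ X) →* V :=
    { toFun := fun r => ⟨π (r : G), r.2.2⟩
      map_one' := Subtype.ext (map_one π)
      map_mul' := fun a b => Subtype.ext (map_mul π _ _) }
  refine isCyclic_of_surjective g fun q => ?_
  obtain ⟨r, hr, hrq⟩ := hS q.2
  exact ⟨⟨r, hr, show π r ∈ V from hrq.symm ▸ q.2⟩, Subtype.ext hrq⟩

/-- The statement of S3306, given the odd order theorem. -/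
theorem radical_central (hu : OddChar.OddSolvable.{u}) (hns : ¬ Group.IsSolvable G) (hC : Meet G)
    (N : Subgroup G) [N.Normal] (hN : Group.IsSolvable ↥N) :
    IsCyclic ↥(N.map (QuotientGroup.mk' (Cfsg.oddCore G))) ∧
      IsPGroup 2 ↥(N.map (QuotientGroup.mk' (Cfsg.oddCore G))) ∧
      N.map (QuotientGroup.mk' (Cfsg.oddCore G)) ≤ Subgroup.center (G ⧸ Cfsg.oddCore G) := by
  classical
  haveI : Fact (Nat.Prime 2) := ⟨Nat.prime_two⟩
  have hQns : ¬ Group.IsSolvable (G ⧸ Cfsg.pPrimeCore 2 G) := fun h => hns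
    (FiniteGroup.isSolvable_of_quotient _
      (hu _ (Nat.coprime_two_right.1 (PBasic.pPrimeCore_coprime 2 G))) h)
  have hO := PBasic.pPrimeCore_quotient_pPrimeCore 2 G
  have hM := meet_quotient hC
  haveI hRn : (N.map (QuotientGroup.mk' (Cfsg.oddCore G))).Normal :=
    Subgroup.Normal.map inferInstance _ (QuotientGroup.mk'_surjective _)
  set Q := G ⧸ Cfsg.oddCore G
  set R := N.map (QuotientGroup.mk' (Cfsg.oddCore G)) with hR
  haveI hRs : Group.IsSolvable R :=
    Group.isSolvable_of_surjective ((QuotientGroup.mk' (Cfsg.oddCore G)).subgroupMap_surjective N)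
  have hnn : ∀ P : Sylow 2 Q, ¬ (P : Subgroup Q).Normal := fun P hP => by
    haveI := hP
    haveI := P.isPGroup'.isNilpotent
    refine hQns (FiniteGroup.isSolvable_of_quotient (P : Subgroup Q) inferInstance (hu _ ?_))
    exact Nat.odd_iff.2 (Nat.two_dvd_ne_zero.1 P.not_dvd_index)
  set V := Cfsg.pCore 2 Q with hV
  have hV2 : IsPGroup 2 V := PBasic.pCore_isPGroup 2 Q
  have hVc : IsCyclic V := by
    obtain ⟨c, hc⟩ := Data.exists_smul_ne hnn (default : Sylow 2 Q)
    exact isCyclic_sub (le_inf (PBasic.pCore_le_sylow _) (PBasic.pCore_le_sylow _)) (hM _ _ hc)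
  have hRV : R ≤ V := by
    have h1 : Cfsg.pPrimeCore 2 R = ⊥ := by
      have := PBasic.map_pPrimeCore_le_of_normal (p := 2) R
      rw [hO, le_bot_iff, Subgroup.map_eq_bot_iff_of_injective _ (subtype_injective _)] at this
      exact this
    have h2 := FittingCores.centralizer_pCore_le (G := R) Nat.prime_two h1
    haveI : (Cfsg.pCore 2 R).Normal := FittingCores.pCore_normal 2
    have hle : (Cfsg.pCore 2 R).map R.subtype ≤ V := PBasic.map_pCore_le_of_normal (p := 2) R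
    have h3 : IsCyclic (Cfsg.pCore 2 R) :=
      isCyclic_of_injective
        (f := ((inclusion hle).comp
          ((Cfsg.pCore 2 R).equivMapOfInjective R.subtype (subtype_injective _)).toMonoidHom))
        (by
          intro a b h
          have h' : inclusion hle ((Cfsg.pCore 2 R).equivMapOfInjective R.subtype (subtype_injective _) a) =
              inclusion hle ((Cfsg.pCore 2 R).equivMapOfInjective R.subtype (subtype_injective _) b) := h
          exact ((Cfsg.pCore 2 R).equivMapOfInjective R.subtype (subtype_injective _)).injective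
            (inclusion_injective hle h'))
    let φ : R →* MulAut (Cfsg.pCore 2 R) := MulAut.conjNormal
    have hker : φ.ker ≤ Cfsg.pCore 2 R := fun r hr => h2 (mem_centralizer_iff.2 fun t ht => by
      have := congrArg Subtype.val (DFunLike.congr_fun (MonoidHom.mem_ker.1 hr) ⟨t, ht⟩)
      exact (mul_inv_eq_iff_eq_mul.1 this).symm)
    have hp : IsPGroup 2 ↥(⊤ : Subgroup R) := by
      rw [← Subgroup.comap_top φ]
      exact ((isPGroup_two_mulAut (PBasic.pCore_isPGroup 2 R) h3).to_subgroup ⊤).comap_of_ker_isPGroup φ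
        ((PBasic.pCore_isPGroup 2 R).to_le hker)
    exact PBasic.le_pCore hRn (hp.of_equiv Subgroup.topEquiv)
  refine ⟨isCyclic_sub hRV hVc, hV2.to_le hRV, hRV.trans ?_⟩
  obtain ⟨⟨v, hv⟩, hgen⟩ := IsCyclic.exists_generator (α := V)
  have hVv : V = zpowers v := le_antisymm (fun t ht => by
    obtain ⟨i, hi⟩ := mem_zpowers_iff.1 (hgen ⟨t, ht⟩)
    exact mem_zpowers_iff.2 ⟨i, by simpa using congrArg Subtype.val hi⟩) (zpowers_le.2 hv)
  haveI hVn : V.Normal := FittingCores.pCore_normal 2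
  obtain ⟨k, hk⟩ := IsPGroup.iff_card.1 hV2
  rw [hVv, Nat.card_zpowers] at hk
  have uniq : ∀ a b : Q, a ∈ V → b ∈ V → a * a = 1 → b * b = 1 → a ≠ 1 → b ≠ 1 → a = b := by
    intro a b ha hb ha2 hb2 ha1 hb1
    by_contra hab
    exact not_cyclic_of_involutions ha hb ha2 hb2 ha1 hb1 hab hVc
  rw [hVv, zpowers_le, mem_center_iff]
  intro c
  rcases Nat.lt_or_ge k 2 with hk2 | hk2
  · have hv2 : v * v = 1 := by
      rw [← pow_two]
      exact orderOf_dvd_iff_pow_eq_one.1 (hk ▸ (Nat.pow_dvd_pow 2 (by omega : k ≤ 1)))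
    by_cases hv1 : v = 1
    · simp [hv1]
    have h := uniq (c * v * c⁻¹) v (hVn.conj_mem v hv c) hv
      (by rw [show c * v * c⁻¹ * (c * v * c⁻¹) = c * (v * v) * c⁻¹ by group, hv2, mul_one, mul_inv_cancel])
      hv2 (fun e => hv1 (conj_eq_one_iff.1 e)) hv1
    exact mul_inv_eq_iff_eq_mul.1 h
  set z := v ^ 2 ^ (k - 1) with hz
  have hz2 : z * z = 1 := by
    rw [hz, ← pow_add, ← two_mul, ← pow_succ', Nat.sub_add_cancel (by omega : 1 ≤ k), ← hk,
      pow_orderOf_eq_one]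
  have hz1 : z ≠ 1 := fun e => by
    have h := Nat.le_of_dvd (by positivity) (orderOf_dvd_of_pow_eq_one e)
    rw [hk] at h
    have := (Nat.pow_le_pow_iff_right (by norm_num : 2 ≤ 2)).1 h
    omega
  have hzV : z ∈ V := pow_mem hv _
  let d : Data Q :=
    { meet := hM
      v := v
      z := z
      n := k
      hn := hk2
      hv := hk
      hVn := hVv ▸ hVn
      hz := orderOf_eq_prime (by rw [pow_two]; exact hz2) hz1
      hzV := hVv ▸ hzV
      hzc := mem_center_iff.2 fun c => mul_inv_eq_iff_eq_mul.1 (uniq (c * z * c⁻¹) z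
        (hVn.conj_mem z hzV c) hzV
        (by rw [show c * z * c⁻¹ * (c * z * c⁻¹) = c * (z * z) * c⁻¹ by group, hz2, mul_one, mul_inv_cancel])
        hz2 (fun e => hz1 (conj_eq_one_iff.1 e)) hz1) }
  by_contra hcv
  refine d.absurd_of hO hnn (fun h => hcv ?_) fun M hMn hM2 => (PBasic.le_pCore hMn hM2).trans hVv.le
  exact d.mem_cent_iff.1 (h ▸ mem_top c)

end Cfsg.Agent.OddDown.CyclicMeet
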