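import Cfsg.Agent.Lib.BrauerSuzuki.ZStar
import Cfsg.Agent.Lib.Components.PTerminalFrame
import Cfsg.Agent.Lib.Solvable.Basic

/-!
Automorphisms fixing a Sylow 2-subgroup pointwise (Glauberman). The involution to be isolated is shown to be
so by taking a fused element `s * t` with `C_S(s)` largest possible.
-/

set_option autoImplicit false
set_option linter.style.haveILetI false
set_option linter.unusedSectionVars false

namespace Cfsg.Agent.OddDown.FixSylow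

open Subgroup
open scoped commutatorElement

universe u

variable {X : Type u} [Group X] [Finite X]

/-- A normal subgroup `N` with Sylow 2-subgroup `S` and a 2-subgroup `Q` centralizing `S`. -/
structure Setup (N S Q : Subgroup X) : Prop where
  normal : N.Normal
  le : S ≤ N
  two : IsPGroup 2 S
  index : ¬ 2 ∣ S.relIndex N
  twoQ : IsPGroup 2 Q
  disj : N ⊓ Q = ⊥
  comm : ∀ s ∈ S, ∀ q ∈ Q, s * q = q * s

namespace Setup

variable {N S Q : Subgroup X} (hd : Setup N S Q)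
include hd

theorem leN : S ≤ normalizer (Q : Set X) := fun s hs =>
  centralizer_le_normalizer _ (mem_centralizer_iff.2 fun q hq => (hd.comm s hs q hq).symm)

theorem leQ : Q ≤ normalizer (S : Set X) := fun q hq =>
  centralizer_le_normalizer _ (mem_centralizer_iff.2 fun s hs => hd.comm s hs q hq)

theorem mem_sup_iff {x : X} : x ∈ S ⊔ Q ↔ ∃ s ∈ S, ∃ q ∈ Q, s * q = x := by
  rw [SolvBasic.mem_sup_iff_of_le_normalizer hd.leQ]
  simp only [eq_comm]

theorem two_sup : IsPGroup 2 (S ⊔ Q : Subgroup X) :=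
  IsPGroup.to_sup_of_normal_right' hd.two hd.twoQ hd.leN

theorem mem_S {x : X} (hx : x ∈ S ⊔ Q) (hN : x ∈ N) : x ∈ S := by
  obtain ⟨s, hs, q, hq, rfl⟩ := hd.mem_sup_iff.1 hx
  have h1 : q ∈ N ⊓ Q := ⟨(mul_mem_cancel_left (hd.le hs)).1 hN, hq⟩
  rw [hd.disj, mem_bot] at h1
  rwa [h1, mul_one]

theorem leY : S ⊔ Q ≤ N ⊔ Q := sup_le_sup_right hd.le Q

theorem index_sup : ¬ 2 ∣ (S ⊔ Q).relIndex (N ⊔ Q) := by
  haveI := hd.normal
  have hSQ := SolvBasic.card_sup_mul_card_inf hd.leQ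
  have hNQ := SolvBasic.card_sup_mul_card_inf (N := N) (H := Q) le_normalizer_of_normal
  rw [hd.disj, card_bot, mul_one] at hNQ
  rw [show S ⊓ Q = ⊥ from le_bot_iff.1 (hd.disj ▸ inf_le_inf_right Q hd.le), card_bot, mul_one] at hSQ
  have h1 := Cfsg.Agent.PBasic.card_mul_relIndex hd.leY
  have h2 := Cfsg.Agent.PBasic.card_mul_relIndex hd.le
  rw [hSQ, hNQ, ← h2] at h1
  have h3 : (S ⊔ Q).relIndex (N ⊔ Q) = S.relIndex N := by
    refine Nat.eq_of_mul_eq_mul_left (Nat.mul_pos (Nat.card_pos (α := S)) (Nat.card_pos (α := Q))) ?_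
    rw [h1]; ring
  rw [h3]
  exact hd.index

/-- Sylow's theorem in `C(t)`, with conjugation by an element of `N`. -/
theorem exists_conj {t : X} (ht : t ∈ Q) (htc : ∀ q ∈ Q, q * t = t * q) {R : Subgroup X}
    (hR : IsPGroup 2 R) (hRY : R ≤ N ⊔ Q) (hRt : ∀ r ∈ R, r * t = t * r) :
    ∃ y ∈ N, y * t = t * y ∧ ∀ r ∈ R, y * r * y⁻¹ ∈ S ⊔ Q := by
  haveI : Fact (Nat.Prime 2) := ⟨Nat.prime_two⟩
  haveI := hd.normal
  set Y₁ := (N ⊔ Q) ⊓ centralizer ({t} : Set X)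
  have hSQc : ∀ x ∈ S ⊔ Q, x * t = t * x := by
    intro x hx
    obtain ⟨s, hs, q, hq, rfl⟩ := hd.mem_sup_iff.1 hx
    rw [mul_assoc, htc q hq, ← mul_assoc, hd.comm s hs t ht, mul_assoc]
  have hle : S ⊔ Q ≤ Y₁ := fun x hx => ⟨hd.leY hx, mem_centralizer_singleton_iff.2 (hSQc x hx)⟩
  have hsyl : PTerm.IsSyl 2 (S ⊔ Q) Y₁ := ⟨hd.two_sup, hle, fun h => hd.index_sup
    (h.trans (relIndex_mul_relIndex (S ⊔ Q) Y₁ (N ⊔ Q) hle inf_le_left ▸ dvd_mul_right _ _))⟩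
  obtain ⟨g, hg, hgR⟩ := PTerm.exists_conj_le hsyl hR
    fun r hr => ⟨hRY hr, mem_centralizer_singleton_iff.2 (hRt r hr)⟩
  obtain ⟨n, hn, q, hq, hnq⟩ := mem_sup_of_normal_left.1 hg.1
  have hgt : g * t = t * g := mem_centralizer_singleton_iff.1 hg.2
  refine ⟨n⁻¹, inv_mem hn, ?_, fun r hr => ?_⟩
  · have e : n = g * q⁻¹ := eq_mul_inv_of_mul_eq hnq
    rw [e, mul_inv_rev, inv_inv]
    exact ((show Commute q t from htc q hq).mul_left (show Commute g t from hgt).inv_left).eq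
  · have h1 : g⁻¹ * r * g ∈ S ⊔ Q := PTerm.mem_cj.1 (hgR hr)
    have h2 := mul_mem (mul_mem (mem_sup_right hq : q ∈ S ⊔ Q) h1) (inv_mem (mem_sup_right hq))
    rwa [show q * (g⁻¹ * r * g) * q⁻¹ = n⁻¹ * r * n⁻¹⁻¹ by rw [← hnq]; group] at h2

end Setup

/-- `s * t` is fused to `t` by `N`. -/
def Fused (N S : Subgroup X) (t s : X) : Prop := s ∈ S ∧ ∃ g ∈ N, g * (s * t) * g⁻¹ = t

/-- An element of `F` with centralizer in `S` of largest order. -/
structure MaxFused (N S : Subgroup X) (t s : X) : Prop where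
  fused : Fused N S t s
  ne : s ≠ 1
  max : ∀ s', Fused N S t s' → s' ≠ 1 →
    Nat.card (S ⊓ centralizer ({s'} : Set X) : Subgroup X) ≤ Nat.card (S ⊓ centralizer ({s} : Set X) : Subgroup X)

variable {N S Q : Subgroup X} {t s : X}

theorem exists_max (h : ∃ s, Fused N S t s ∧ s ≠ 1) : ∃ s, MaxFused N S t s := by
  obtain ⟨s, hs, hmax⟩ := Set.exists_max_image {x | Fused N S t x ∧ x ≠ 1}
    (fun x => Nat.card (S ⊓ centralizer ({x} : Set X) : Subgroup X)) (Set.toFinite _) h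
  exact ⟨s, hs.1, hs.2, fun s' h1 h2 => hmax s' ⟨h1, h2⟩⟩

section

variable (hd : Setup N S Q) (ht : t ∈ Q) (htc : ∀ q ∈ Q, q * t = t * q) (hm : MaxFused N S t s)
include hd ht htc hm

/-- The key consequence of maximality: the twist of `Q` lies in the image of `C_S(s)`. -/
theorem twist_mem {y : X} (hy : y ∈ N) (hyP : ∀ x ∈ S ⊓ centralizer ({s} : Set X), y * x * y⁻¹ ∈ S)
    (hyQ : ∀ q ∈ Q, y * q * y⁻¹ * q⁻¹ ∈ S) :
    (∀ q ∈ Q, ∀ x ∈ S ⊓ centralizer ({s} : Set X),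
      Commute (y * q * y⁻¹ * q⁻¹) (y * x * y⁻¹)) ∧
    ∀ q ∈ Q, ∃ p ∈ S ⊓ centralizer ({s} : Set X), y * q * y⁻¹ * q⁻¹ = y * p * y⁻¹ := by
  set P := S ⊓ centralizer ({s} : Set X) with hP
  have hsP : s ∈ P := ⟨hm.fused.1, mem_centralizer_singleton_iff.2 rfl⟩
  set f : X → X := fun q => y * q * y⁻¹ * q⁻¹ with hf
  have hQS : ∀ q ∈ Q, ∀ u ∈ S, Commute q u := fun q hq u hu => (hd.comm u hu q hq).symm
  have hc1 : ∀ q ∈ Q, ∀ x ∈ P, Commute (f q) (y * x * y⁻¹) := by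
    intro q hq x hx
    have e : Commute (y * q * y⁻¹) (y * x * y⁻¹) := (hQS q hq x hx.1).map (MulAut.conj y)
    exact e.mul_left (hQS q hq _ (hyP x hx)).inv_left
  have hft : ∀ q ∈ Q, Commute (f q) (f t) := by
    intro q hq
    have e : Commute (y * q * y⁻¹) (y * t * y⁻¹) := (show Commute q t from htc q hq).map (MulAut.conj y)
    have e1 : Commute (y * q * y⁻¹) (f t) := by
      refine e.mul_right (Commute.inv_right ?_)
      have h2 : y * q * y⁻¹ = f q * q := by rw [hf]; group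
      rw [h2]
      exact ((hQS t ht (f q) (hyQ q hq)).symm).mul_left (htc q hq)
    exact e1.mul_left (hQS q hq (f t) (hyQ t ht)).inv_left
  refine ⟨hc1, ?_⟩
  set s' := y * s * y⁻¹ with hs'
  have hs'S : s' ∈ S := hyP s hsP
  obtain ⟨s₄, hs₄F, hs₄1, hs₄P, hs₄Q⟩ : ∃ s₄, Fused N S t s₄ ∧ s₄ ≠ 1 ∧
      (∀ x ∈ P, Commute (y * x * y⁻¹) s₄) ∧ ∀ q ∈ Q, Commute (f q) s₄ := by
    have hPs : ∀ x ∈ P, Commute (y * x * y⁻¹) s' := fun x hx =>
      (show Commute x s from mem_centralizer_singleton_iff.1 hx.2).map (MulAut.conj y)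
    by_cases h3 : s' * f t = 1
    · refine ⟨s'⁻¹, ⟨inv_mem hs'S, y⁻¹, inv_mem hy, ?_⟩, ?_, fun x hx => (hPs x hx).inv_right,
        fun q hq => ?_⟩
      · rw [← eq_inv_of_mul_eq_one_right h3, hf]
        group
      · rw [Ne, inv_eq_one, hs', mul_inv_eq_one, mul_eq_left]
        exact hm.ne
      · rw [← eq_inv_of_mul_eq_one_right h3]
        exact hft q hq
    · obtain ⟨g, hgN, hg⟩ := hm.fused.2
      refine ⟨s' * f t, ⟨mul_mem hs'S (hyQ t ht), g * y⁻¹, mul_mem hgN (inv_mem hy), ?_⟩, h3,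
        fun x hx => (hPs x hx).mul_right (hc1 t ht x hx).symm, fun q hq =>
          (hc1 q hq s hsP).mul_right (hft q hq)⟩
      conv_rhs => rw [← hg]
      rw [hs', hf]
      group
  set P' := P.map (MulAut.conj y).toMonoidHom with hP'
  set U := P' ⊔ closure (f '' (Q : Set X))
  have hU : U ≤ S ⊓ centralizer ({s₄} : Set X) := by
    refine sup_le ?_ ((closure_le _).2 ?_)
    · rintro _ ⟨x, hx, rfl⟩
      exact ⟨hyP x hx, mem_centralizer_singleton_iff.2 (hs₄P x hx)⟩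
    · rintro _ ⟨q, hq, rfl⟩
      exact ⟨hyQ q hq, mem_centralizer_singleton_iff.2 (hs₄Q q hq)⟩
  have hcard : Nat.card (S ⊓ centralizer ({s₄} : Set X) : Subgroup X) ≤ Nat.card P' := by
    rw [hP', card_map_of_injective (f := (MulAut.conj y).toMonoidHom) (MulAut.conj y).injective]
    exact hm.max s₄ hs₄F hs₄1
  have heq : P' = U := eq_of_le_of_card_ge le_sup_left (le_trans
    (Nat.le_of_dvd Nat.card_pos (card_dvd_of_le hU)) hcard)
  intro q hq
  have h1 : f q ∈ P' := heq ▸ mem_sup_right (subset_closure (Set.mem_image_of_mem f hq))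
  obtain ⟨p, hp, e⟩ := h1
  exact ⟨p, hp, e.symm⟩

/-- A fusing element mapping `C_S(s)` and `Q` into the Sylow subgroup. -/
theorem exists_fuser : ∃ g ∈ N, g * (s * t) * g⁻¹ = t ∧
    (∀ x ∈ S ⊓ centralizer ({s} : Set X), g * x * g⁻¹ ∈ S) ∧ ∀ q ∈ Q, g * q * g⁻¹ * q⁻¹ ∈ S := by
  haveI := hd.normal
  set P := S ⊓ centralizer ({s} : Set X)
  obtain ⟨g₀, hg₀, hg⟩ := hm.fused.2
  have hPQ : IsPGroup 2 (P ⊔ Q : Subgroup X) := hd.two_sup.to_le (sup_le_sup_right inf_le_left Q)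
  have hc : ∀ x ∈ P ⊔ Q, x * (s * t) = s * t * x := by
    have h1 : P ⊔ Q ≤ centralizer ({s * t} : Set X) := by
      refine sup_le (fun x hx => ?_) fun q hq => ?_ <;> rw [mem_centralizer_singleton_iff]
      · exact ((show Commute x s from mem_centralizer_singleton_iff.1 hx.2).mul_right
          (show Commute x t from hd.comm x hx.1 t ht)).eq
      · exact ((show Commute q s from (hd.comm s hm.fused.1 q hq).symm).mul_right
          (show Commute q t from htc q hq)).eq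
    exact fun x hx => mem_centralizer_singleton_iff.1 (h1 hx)
  obtain ⟨y, hy, hyt, hyR⟩ := hd.exists_conj ht htc (R := (P ⊔ Q).map (MulAut.conj g₀).toMonoidHom)
    (hPQ.map _) (by
      rintro _ ⟨x, hx, rfl⟩
      exact mul_mem (mul_mem (mem_sup_left hg₀) (sup_le_sup_right (inf_le_left.trans hd.le) Q hx))
        (inv_mem (mem_sup_left hg₀)))
    (by
      rintro _ ⟨x, hx, rfl⟩
      show g₀ * x * g₀⁻¹ * t = t * (g₀ * x * g₀⁻¹)
      rw [← hg]
      calc g₀ * x * g₀⁻¹ * (g₀ * (s * t) * g₀⁻¹) = g₀ * (x * (s * t)) * g₀⁻¹ := by group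
        _ = _ := by rw [hc x hx]; group)
  have hgN : y * g₀ ∈ N := mul_mem hy hg₀
  refine ⟨y * g₀, hgN, ?_, fun x hx => hd.mem_S ?_ ?_, fun q hq => hd.mem_S ?_ ?_⟩
  · rw [show y * g₀ * (s * t) * (y * g₀)⁻¹ = y * (g₀ * (s * t) * g₀⁻¹) * y⁻¹ by group, hg, hyt,
      mul_inv_cancel_right]
  · rw [show y * g₀ * x * (y * g₀)⁻¹ = y * (g₀ * x * g₀⁻¹) * y⁻¹ by group]
    exact hyR _ (mem_map_of_mem _ (mem_sup_left hx))
  · exact mul_mem (mul_mem hgN (hd.le hx.1)) (inv_mem hgN)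
  · refine mul_mem ?_ (inv_mem (mem_sup_right hq))
    rw [show y * g₀ * q * (y * g₀)⁻¹ = y * (g₀ * q * g₀⁻¹) * y⁻¹ by group]
    exact hyR _ (mem_map_of_mem _ (mem_sup_right hq))
  · rw [mul_assoc, mul_assoc]
    refine mul_mem hgN ?_
    rw [← mul_assoc q]
    exact hd.normal.conj_mem _ (inv_mem hgN) q

end

/-- The twist of `Q` by an element of `N`. -/
theorem twist_mul {y q q' : X} (hd : Setup N S Q) (hq : q ∈ Q) (h' : y * q' * y⁻¹ * q'⁻¹ ∈ S) :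
    y * (q * q') * y⁻¹ * (q * q')⁻¹ = y * q * y⁻¹ * q⁻¹ * (y * q' * y⁻¹ * q'⁻¹) := by
  have e : Commute (y * q' * y⁻¹ * q'⁻¹) q⁻¹ := (show Commute _ q from hd.comm _ h' q hq).inv_right
  calc y * (q * q') * y⁻¹ * (q * q')⁻¹ = y * q * y⁻¹ * (y * q' * y⁻¹ * q'⁻¹ * q⁻¹) := by group
    _ = _ := by rw [e.eq]; group

variable (hd : Setup N S Q) (ht : t ∈ Q) (htc : ∀ q ∈ Q, q * t = t * q)
include hd ht htc

/-- A commutator of `Q` is not fused nontrivially. -/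
theorem not_fused_of_commutator (htq : t ∈ ⁅Q, Q⁆) : ∀ s, Fused N S t s → s = 1 := by
  by_contra hcon
  push Not at hcon
  obtain ⟨s, hm⟩ := exists_max hcon
  obtain ⟨g, hgN, hg, hgP, hgQ⟩ := exists_fuser hd ht htc hm
  obtain ⟨hcomm, hmem⟩ := twist_mem hd ht htc hm hgN hgP hgQ
  set K : Subgroup X :=
    { carrier := {x | x ∈ Q ∧ g * x * g⁻¹ * x⁻¹ = 1}
      one_mem' := ⟨one_mem _, by group⟩
      mul_mem' := fun {a b} ha hb => ⟨mul_mem ha.1 hb.1, by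
        rw [twist_mul hd ha.1 (hgQ b hb.1), ha.2, hb.2, one_mul]⟩
      inv_mem' := fun {a} ha => ⟨inv_mem ha.1, by
        have h1 := twist_mul hd (inv_mem ha.1) (hgQ a ha.1)
        rw [inv_mul_cancel, ha.2, mul_one] at h1
        simpa using h1.symm⟩ } with hK
  have hle : ⁅Q, Q⁆ ≤ K := by
    rw [commutator_le]
    intro a ha b hb
    refine ⟨mul_mem (mul_mem (mul_mem ha hb) (inv_mem ha)) (inv_mem hb), ?_⟩
    set f : X → X := fun q => g * q * g⁻¹ * q⁻¹ with hf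
    have hmul : ∀ x ∈ Q, ∀ y ∈ Q, f (x * y) = f x * f y := fun x hx y hy => twist_mul hd hx (hgQ y hy)
    have hone : f 1 = 1 := by simp [hf]
    have hinv : ∀ x ∈ Q, f x⁻¹ = (f x)⁻¹ := fun x hx =>
      eq_inv_of_mul_eq_one_left (by rw [← hmul _ (inv_mem hx) x hx, inv_mul_cancel, hone])
    show f ⁅a, b⁆ = 1
    rw [commutatorElement_def, hmul _ (mul_mem (mul_mem ha hb) (inv_mem ha)) _ (inv_mem hb),
      hmul _ (mul_mem ha hb) _ (inv_mem ha), hmul a ha b hb, hinv a ha, hinv b hb]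
    obtain ⟨p, hp, e⟩ := hmem b hb
    have hab : Commute (f a) (f b) := by
      show Commute (f a) (g * b * g⁻¹ * b⁻¹)
      rw [e]
      exact hcomm a ha p hp
    rw [hab.eq]
    group
  refine hm.ne ?_
  have hsg : g * s * g⁻¹ = 1 := by
    have h1 := (hle htq).2
    rw [mul_inv_eq_one] at h1
    rw [show g * (s * t) * g⁻¹ = g * s * g⁻¹ * (g * t * g⁻¹) by group, h1, mul_eq_right] at hg
    exact hg
  simpa using hsg

/-- An element `[c, q]` for an outside element `c` centralizing `S` is not fused nontrivially. -/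
theorem not_fused_of_outer {c q₀ : X} (hcS : ∀ x ∈ S, c * x = x * c) (hcQ : c ∈ normalizer (Q : Set X))
    (hq₀ : q₀ ∈ Q) (htdef : t = c * q₀ * c⁻¹ * q₀⁻¹) : ∀ s, Fused N S t s → s = 1 := by
  haveI : Fact (Nat.Prime 2) := ⟨Nat.prime_two⟩
  haveI := hd.normal
  by_contra hcon
  push Not at hcon
  obtain ⟨s, hm⟩ := exists_max hcon
  obtain ⟨g, hgN, hg, hgP, hgQ⟩ := exists_fuser hd ht htc hm
  obtain ⟨hcomm, hmem⟩ := twist_mem hd ht htc hm hgN hgP hgQ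
  set P := S ⊓ centralizer ({s} : Set X) with hP
  have hconjQ : ∀ q ∈ Q, c⁻¹ * q * c ∈ Q := fun q hq => (mem_normalizer_iff''.1 hcQ q).1 hq
  have hQP : ∀ q ∈ Q, ∀ x ∈ P, Commute q x := fun q hq x hx => (hd.comm x hx.1 q hq).symm
  -- the difference of `g` and its conjugate by `c`
  obtain ⟨d, hd'⟩ : ∃ d, d = g⁻¹ * (c * g * c⁻¹) := ⟨_, rfl⟩
  have hdN : d ∈ N := hd' ▸ mul_mem (inv_mem hgN) (hd.normal.conj_mem g hgN c)
  have hdP : ∀ x ∈ P, d * x = x * d := by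
    intro x hx
    refine mul_inv_eq_iff_eq_mul.1 ?_
    have e2 : c⁻¹ * x * c = x := by rw [mul_assoc, ← hcS x hx.1, inv_mul_cancel_left]
    have e3 : c * (g * x * g⁻¹) * c⁻¹ = g * x * g⁻¹ := mul_inv_eq_iff_eq_mul.2 (hcS _ (hgP x hx))
    calc d * x * d⁻¹ = g⁻¹ * (c * (g * (c⁻¹ * x * c) * g⁻¹) * c⁻¹) * g := by rw [hd']; group
      _ = x := by rw [e2, e3]; group
  have hdQ : ∀ q ∈ Q, d * q * d⁻¹ * q⁻¹ ∈ P ∧ g * (d * q * d⁻¹ * q⁻¹) * g⁻¹ =
      g * (c⁻¹ * q * c) * g⁻¹ * (c⁻¹ * q * c)⁻¹ * (g * q * g⁻¹ * q⁻¹)⁻¹ := by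
    intro q hq
    have hfS := hgQ _ (hconjQ q hq)
    have e1 : c * (g * (c⁻¹ * q * c) * g⁻¹ * (c⁻¹ * q * c)⁻¹) * c⁻¹ =
        g * (c⁻¹ * q * c) * g⁻¹ * (c⁻¹ * q * c)⁻¹ := mul_inv_eq_iff_eq_mul.2 (hcS _ hfS)
    have e2 : g * (d * q * d⁻¹ * q⁻¹) * g⁻¹ =
        g * (c⁻¹ * q * c) * g⁻¹ * (c⁻¹ * q * c)⁻¹ * (g * q * g⁻¹ * q⁻¹)⁻¹ := by
      rw [hd']
      calc g * (g⁻¹ * (c * g * c⁻¹) * q * (g⁻¹ * (c * g * c⁻¹))⁻¹ * q⁻¹) * g⁻¹
          = c * (g * (c⁻¹ * q * c) * g⁻¹ * (c⁻¹ * q * c)⁻¹) * c⁻¹ * (g * q * g⁻¹ * q⁻¹)⁻¹ := by group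
        _ = _ := by rw [e1]
    refine ⟨?_, e2⟩
    obtain ⟨p, hp, ep⟩ := hmem _ (hconjQ q hq)
    obtain ⟨p', hp', ep'⟩ := hmem q hq
    rw [ep, ep'] at e2
    have e3 : d * q * d⁻¹ * q⁻¹ = p * p'⁻¹ := by
      refine (MulAut.conj g).injective ?_
      show g * (d * q * d⁻¹ * q⁻¹) * g⁻¹ = g * (p * p'⁻¹) * g⁻¹
      rw [e2]; group
    rw [e3]
    exact mul_mem hp (inv_mem hp')
  -- the group of such elements
  let Lm : Submonoid X :=
    { carrier := {n | n ∈ N ∧ (∀ x ∈ P, n * x = x * n) ∧ ∀ q ∈ Q, n * q * n⁻¹ * q⁻¹ ∈ P}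
      one_mem' := ⟨one_mem _, fun x _ => by simp, fun q _ => by simp⟩
      mul_mem' := fun {a b} ha hb => ⟨mul_mem ha.1 hb.1,
        fun x hx => ((show Commute a x from ha.2.1 x hx).mul_left (show Commute b x from hb.2.1 x hx)).eq,
        fun q hq => by
          have h1 := hb.2.2 q hq
          have e : a * (b * q * b⁻¹ * q⁻¹) * a⁻¹ = b * q * b⁻¹ * q⁻¹ :=
            mul_inv_eq_iff_eq_mul.2 (ha.2.1 _ h1)
          have h2 := mul_mem h1 (ha.2.2 q hq)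
          rw [← e] at h2
          convert h2 using 1
          group⟩ }
  set L : Subgroup X :=
    { Lm with
      inv_mem' := fun {a} ha => by
        rw [← zpow_neg_one, ← zpow_mod_orderOf]
        obtain ⟨k, hk⟩ := Int.eq_ofNat_of_zero_le (Int.emod_nonneg (-1 : ℤ)
          (Int.natCast_ne_zero.2 (orderOf_pos a).ne'))
        rw [hk, zpow_natCast]
        exact Lm.pow_mem ha k } with hL
  have hdL : d ∈ L := ⟨hdN, hdP, fun q hq => (hdQ q hq).1⟩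
  -- a Sylow subgroup of it centralizes `Q`
  obtain ⟨R, hR, -⟩ := PTerm.exists_syl (p := 2) (R := (⊥ : Subgroup X)) (H := L) IsPGroup.of_bot bot_le
  have hPQ : IsPGroup 2 (P ⊔ Q : Subgroup X) := hd.two_sup.to_le (sup_le_sup_right inf_le_left Q)
  have hRn : R ≤ normalizer ((P ⊔ Q : Subgroup X) : Set X) := by
    intro r hr
    have hrL : r ∈ L := hR.le hr
    refine mem_normalizer_fintype ?_
    intro x hx
    obtain ⟨p, hp, q, hq, rfl⟩ := (SolvBasic.mem_sup_iff_of_le_normalizer (N := P) (H := Q) fun q hq =>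
      centralizer_le_normalizer _ (mem_centralizer_iff.2 fun x hx => (hQP q hq x hx).eq.symm)).1 hx
    rw [show r * (p * q) * r⁻¹ = r * p * r⁻¹ * (r * q * r⁻¹ * q⁻¹) * q by group,
      mul_inv_eq_iff_eq_mul.2 (hrL.2.1 p hp)]
    exact mul_mem (mem_sup_left (mul_mem hp (hrL.2.2 q hq))) (mem_sup_right hq)
  have htop : IsPGroup 2 (R ⊔ (P ⊔ Q) : Subgroup X) := IsPGroup.to_sup_of_normal_right' hR.pgroup hPQ hRn
  obtain ⟨y, hy, hyR⟩ : ∃ y ∈ N, ∀ x ∈ R ⊔ (P ⊔ Q), y * x * y⁻¹ ∈ S ⊔ Q := by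
    obtain ⟨g, hg, hgR⟩ := PTerm.exists_conj_le (⟨hd.two_sup, hd.leY, hd.index_sup⟩ :
      PTerm.IsSyl 2 (S ⊔ Q) (N ⊔ Q)) htop (sup_le (fun r hr => mem_sup_left (hR.le hr).1)
        (sup_le_sup_right (inf_le_left.trans hd.le) Q))
    obtain ⟨n, hn, q, hq, hnq⟩ := mem_sup_of_normal_left.1 hg
    refine ⟨n⁻¹, inv_mem hn, fun x hx => ?_⟩
    have h1 : g⁻¹ * x * g ∈ S ⊔ Q := PTerm.mem_cj.1 (hgR hx)
    have h2 := mul_mem (mul_mem (mem_sup_right hq : q ∈ S ⊔ Q) h1) (inv_mem (mem_sup_right hq))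
    rwa [show q * (g⁻¹ * x * g) * q⁻¹ = n⁻¹ * x * n⁻¹⁻¹ by rw [← hnq]; group] at h2
  have hyP : ∀ x ∈ P, y * x * y⁻¹ ∈ S := fun x hx =>
    hd.mem_S (hyR x (mem_sup_right (mem_sup_left hx))) (mul_mem (mul_mem hy (hd.le hx.1)) (inv_mem hy))
  have hyQ : ∀ q ∈ Q, y * q * y⁻¹ * q⁻¹ ∈ S := fun q hq => by
    refine hd.mem_S (mul_mem (hyR q (mem_sup_right (mem_sup_right hq))) (inv_mem (mem_sup_right hq))) ?_
    rw [mul_assoc, mul_assoc]
    refine mul_mem hy ?_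
    rw [← mul_assoc q]
    exact hd.normal.conj_mem _ (inv_mem hy) q
  obtain ⟨-, hymem⟩ := twist_mem hd ht htc hm hy hyP hyQ
  have hRQ : ∀ r ∈ R, ∀ q ∈ Q, Commute r q := by
    intro r hr q hq
    obtain ⟨p, hp, ep⟩ := hymem q hq
    have h1 : y * r * y⁻¹ ∈ S := hd.mem_S (hyR r (mem_sup_left hr))
      (mul_mem (mul_mem hy (hR.le hr).1) (inv_mem hy))
    have e1 : Commute (y * r * y⁻¹) (y * q * y⁻¹) := by
      have e : y * q * y⁻¹ = y * p * y⁻¹ * q := mul_inv_eq_iff_eq_mul.1 ep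
      rw [e]
      exact ((show Commute r p from (hR.le hr).2.1 p hp).map (MulAut.conj y)).mul_right (hd.comm _ h1 q hq)
    have e2 := e1.map (MulAut.conj y⁻¹)
    simpa [mul_assoc] using e2
  -- so `d` centralizes `Q`
  set C := L ⊓ centralizer (Q : Set X)
  have hRC : R ≤ C := le_inf hR.le fun r hr => mem_centralizer_iff.2 fun q hq => (hRQ r hr q hq).eq.symm
  haveI hCn : (C.subgroupOf L).Normal := ⟨fun k hk m => by
    rw [mem_subgroupOf] at hk ⊢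
    refine ⟨L.mul_mem (L.mul_mem m.2 hk.1) (L.inv_mem m.2), mem_centralizer_iff.2 fun q hq => ?_⟩
    have hmq := (inv_mem m.2 : (m : X)⁻¹ ∈ L).2.2 q hq
    set p := (m : X)⁻¹ * q * (m : X)⁻¹⁻¹ * q⁻¹ with hp
    have h1 : Commute (k : X) (p * q) := by
      refine Commute.mul_right ?_ (mem_centralizer_iff.1 hk.2 q hq).symm
      exact hk.1.2.1 p hmq
    have h2 : Commute ((m : X) * k * (m : X)⁻¹) ((m : X) * (p * q) * (m : X)⁻¹) := h1.map (MulAut.conj (m : X))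
    have e : (m : X) * (p * q) * (m : X)⁻¹ = q := by rw [hp]; group
    rw [e] at h2
    exact h2.eq.symm⟩
  have hdC : d ∈ C := by
    have h1 : ∀ q ∈ Q, ∀ k : ℕ, d ^ k * q * (d ^ k)⁻¹ * q⁻¹ = (d * q * d⁻¹ * q⁻¹) ^ k := by
      intro q hq k
      induction k with
      | zero => simp
      | succ k ih =>
        have hp := (hdQ q hq).1
        have e : d * (d ^ k * q * (d ^ k)⁻¹ * q⁻¹) * d⁻¹ = d ^ k * q * (d ^ k)⁻¹ * q⁻¹ := by
          rw [ih]
          exact mul_inv_eq_iff_eq_mul.2 (hdP _ (pow_mem hp k))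
        calc d ^ (k + 1) * q * (d ^ (k + 1))⁻¹ * q⁻¹
            = d * (d ^ k * q * (d ^ k)⁻¹ * q⁻¹) * d⁻¹ * (d * q * d⁻¹ * q⁻¹) := by rw [pow_succ']; group
          _ = _ := by rw [e, ih, pow_succ]
    obtain ⟨j, hj⟩ := (hd.two.to_le (inf_le_left : P ≤ S)).exists_card_eq
    have hdj : d ^ 2 ^ j ∈ C := ⟨pow_mem hdL _, mem_centralizer_iff.2 fun q hq => by
      have h2 := h1 q hq (2 ^ j)
      have h3 : (d * q * d⁻¹ * q⁻¹) ^ 2 ^ j = 1 := by
        rw [← hj]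
        exact congrArg Subtype.val (pow_card_eq_one' (x := (⟨_, (hdQ q hq).1⟩ : P)))
      rw [h3, mul_inv_eq_one, mul_inv_eq_iff_eq_mul] at h2
      exact h2.symm⟩
    have hmem' : (⟨d, hdL⟩ : L) ∈ C.subgroupOf L := by
      rw [← QuotientGroup.eq_one_iff, ← orderOf_eq_one_iff]
      refine Nat.eq_one_of_dvd_coprimes (a := 2 ^ j) (b := (C.subgroupOf L).index) ?_ ?_ ?_
      · refine (Nat.prime_two.coprime_iff_not_dvd.2 fun h => hR.index (h.trans ?_)).pow_left j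
        exact relIndex_dvd_of_le_left L hRC
      · refine orderOf_dvd_of_pow_eq_one ?_
        rw [← QuotientGroup.mk_pow, QuotientGroup.eq_one_iff, mem_subgroupOf]
        exact hdj
      · rw [Subgroup.index_eq_card]
        exact orderOf_dvd_natCard _
    exact hmem'
  -- conclude
  have hfix : g * t * g⁻¹ * t⁻¹ = 1 := by
    obtain ⟨q₁, hq₁, hq₁e⟩ : ∃ q₁ ∈ Q, c⁻¹ * q₁ * c = q₀ :=
      ⟨c * q₀ * c⁻¹, (mem_normalizer_iff.1 hcQ q₀).1 hq₀, by group⟩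
    obtain ⟨-, e⟩ := hdQ q₁ hq₁
    rw [mul_inv_eq_iff_eq_mul.2 (mem_centralizer_iff.1 hdC.2 q₁ hq₁).symm, mul_inv_cancel, hq₁e] at e
    have e0 : g * q₀ * g⁻¹ * q₀⁻¹ * (g * q₁ * g⁻¹ * q₁⁻¹)⁻¹ = 1 := by rw [← e]; group
    have hq₁' : q₁ = t * q₀ := by rw [htdef, ← hq₁e]; group
    rw [hq₁', twist_mul hd ht (hgQ q₀ hq₀), mul_inv_rev, ← mul_assoc, mul_inv_cancel, one_mul,
      inv_eq_one] at e0
    exact e0
  refine hm.ne ?_
  rw [mul_inv_eq_one] at hfix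
  rw [show g * (s * t) * g⁻¹ = g * s * g⁻¹ * (g * t * g⁻¹) by group, hfix, mul_eq_right] at hg
  simpa using hg

/-- An involution which is not fused nontrivially centralizes `N`, if `N` has trivial odd core. -/
theorem centralizes (hnf : ∀ s, Fused N S t s → s = 1) (ht2 : orderOf t = 2)
    (hO : ∀ K : Subgroup N, K.Normal → (Nat.card K).Coprime 2 → K = ⊥) : ∀ n ∈ N, n * t = t * n := by
  haveI : Fact (Nat.Prime 2) := ⟨Nat.prime_two⟩
  haveI := hd.normal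
  set Y := N ⊔ Q
  have htY : t ∈ Y := mem_sup_right ht
  have hiso : Cfsg.IsIsolated (⟨t, htY⟩ : Y) := by
    rintro ⟨x, hx⟩ hcomm
    obtain ⟨n, hn, q, hq, rfl⟩ := mem_sup_of_normal_left.1 hx
    refine Subtype.ext ?_
    show n * q * t * (n * q)⁻¹ = t
    have e : n * q * t * (n * q)⁻¹ = n * t * n⁻¹ := by
      rw [show n * q * t * (n * q)⁻¹ = n * (q * t * q⁻¹) * n⁻¹ by group, htc q hq, mul_inv_cancel_right]
    have hu : Commute t (n * t * n⁻¹) := e ▸ congrArg Subtype.val hcomm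
    rw [e]
    set u := n * t * n⁻¹ with hu'
    have hu2 : u ^ 2 = 1 := by
      rw [hu', conj_pow, ← ht2, pow_orderOf_eq_one, mul_one, mul_inv_cancel]
    have hU : IsPGroup 2 (zpowers u) := by
      rintro ⟨_, i, rfl⟩
      refine ⟨1, Subtype.ext ?_⟩
      show (u ^ i) ^ 2 ^ 1 = 1
      rw [pow_one, ← zpow_natCast, ← zpow_mul, mul_comm, zpow_mul, zpow_natCast, hu2, one_zpow]
    have huY : zpowers u ≤ Y := zpowers_le.2
      (mul_mem (mul_mem (mem_sup_left hn) htY) (inv_mem (mem_sup_left hn)))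
    obtain ⟨y, hy, hyt, hyu⟩ := hd.exists_conj ht htc hU huY fun r hr => by
      obtain ⟨i, rfl⟩ := hr
      exact ((hu.symm).zpow_left i).eq
    have h1 := hyu u (mem_zpowers u)
    set s := y * u * y⁻¹ * t⁻¹ with hs
    have hsN : s ∈ N := by
      rw [hs, hu', show y * (n * t * n⁻¹) * y⁻¹ * t⁻¹ = y * n * (t * (n⁻¹ * y⁻¹) * t⁻¹) by group]
      exact mul_mem (mul_mem hy hn) (hd.normal.conj_mem _ (mul_mem (inv_mem hn) (inv_mem hy)) t)
    have hsS : s ∈ S := hd.mem_S (mul_mem h1 (inv_mem (mem_sup_right ht))) hsN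
    have hs1 := hnf s ⟨hsS, (y * n)⁻¹, inv_mem (mul_mem hy hn), by rw [hs, hu']; group⟩
    rw [hs, mul_inv_eq_one, mul_inv_eq_iff_eq_mul, ← hyt] at hs1
    exact mul_left_cancel hs1
  have hz := Cfsg.Agent.BrauerSuzuki.zStar Y ⟨t, htY⟩ (by rw [Subgroup.orderOf_mk, ht2]) hiso
  haveI hOn := FittingCores.pPrimeCore_normal (G := Y) 2
  set K := ((Cfsg.pPrimeCore 2 Y).map Y.subtype).subgroupOf N with hK
  have hKn : K.Normal := ⟨fun k hk m => by
    rw [hK, mem_subgroupOf] at hk ⊢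
    obtain ⟨x, hx, e⟩ := hk
    refine ⟨⟨(m : X), mem_sup_left m.2⟩ * x * ⟨(m : X), mem_sup_left m.2⟩⁻¹, hOn.conj_mem x hx _, ?_⟩
    simp only [Subgroup.coe_subtype] at e
    simp [e]⟩
  have hKc : (Nat.card K).Coprime 2 := by
    refine (FittingCores.pPrimeCore_coprime (G := Y) 2).coprime_dvd_left ?_
    rw [← card_map_of_injective (f := N.subtype) (K := K) N.subtype_injective,
      ← card_map_of_injective (f := Y.subtype) (K := Cfsg.pPrimeCore 2 Y) Y.subtype_injective]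
    exact card_dvd_of_le (by rintro _ ⟨x, hx, rfl⟩; exact hx)
  intro n hn
  have h1 : n * t * n⁻¹ * t⁻¹ ∈ (Cfsg.pPrimeCore 2 Y).map Y.subtype := ⟨_, hz ⟨n, mem_sup_left hn⟩, rfl⟩
  have h2 : n * t * n⁻¹ * t⁻¹ ∈ N := by
    rw [mul_assoc, mul_assoc]
    refine mul_mem hn ?_
    rw [← mul_assoc]
    exact hd.normal.conj_mem _ (inv_mem hn) t
  have h3 : (⟨_, h2⟩ : N) ∈ K := h1
  rw [hO K hKn hKc, mem_bot] at h3
  exact mul_inv_eq_iff_eq_mul.1 (mul_inv_eq_one.1 (congrArg Subtype.val h3))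

end Cfsg.Agent.OddDown.FixSylow
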