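import Cfsg.Agent.Lib.Solvable.Coprime
import Cfsg.Agent.Lib.Solvable.Fitting

/-!
Coprime action of an abelian group: generation by the centralisers of cocyclic subgroups.
-/

set_option autoImplicit false

namespace Cfsg.Agent.OddDown.FixedGen

open Subgroup
open scoped commutatorElement
open Cfsg.Agent.CoprimeAct

variable {G : Type*} [Group G]

/-- `B₀ ≤ B` with cyclic quotient. -/
def Good (B B₀ : Subgroup G) : Prop := B₀ ≤ B ∧ ∃ b ∈ B, B ≤ B₀ ⊔ zpowers b

/-- The subgroup generated by the `C_Y(B) ∩ [C_Y(B₀), A]`. -/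
def gen (A B Y : Subgroup G) : Subgroup G :=
  ⨆ B₀ : {B₀ : Subgroup G // Good B B₀},
    Y ⊓ centralizer (B : Set G) ⊓ ⁅Y ⊓ centralizer ((B₀ : Subgroup G) : Set G), A⁆

/-- The standing hypotheses. -/
structure Hyp (A B Y : Subgroup G) : Prop where
  comm : ∀ a ∈ A, ∀ a' ∈ A, a * a' = a' * a
  le : B ≤ A
  norm : A ≤ normalizer (Y : Set G)
  cop : (Nat.card A).Coprime (Nat.card Y)
  sol : Group.IsSolvable Y

variable {A B Y : Subgroup G}

theorem le_normalizer_centralizer (h : Hyp A B Y) {C : Subgroup G} (hC : C ≤ A) :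
    A ≤ normalizer (centralizer (C : Set G) : Set G) := by
  intro a ha
  have hcen : a ∈ centralizer (C : Set G) :=
    mem_centralizer_iff.2 fun c hc => h.comm c (hC hc) a ha
  exact le_normalizer hcen

theorem norm_fixed (h : Hyp A B Y) {C : Subgroup G} (hC : C ≤ A) :
    A ≤ normalizer ((Y ⊓ centralizer (C : Set G) : Subgroup G) : Set G) :=
  (le_inf h.norm (le_normalizer_centralizer h hC)).trans inf_normalizer_le_normalizer_inf

theorem le_normalizer_iSup [Finite G] {ι : Sort*} {f : ι → Subgroup G} {X : Subgroup G}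
    (h : ∀ i, X ≤ normalizer (f i : Set G)) : X ≤ normalizer ((⨆ i, f i : Subgroup G) : Set G) := by
  intro x hx
  have hle : (⨆ i, f i).map (MulAut.conj x).toMonoidHom ≤ ⨆ i, f i := by
    rw [Subgroup.map_iSup]
    refine iSup_le fun i => le_iSup_of_le i ?_
    rintro _ ⟨v, hv, rfl⟩
    exact conj_mem_of_mem_normalizer (h i hx) hv
  have heq := eq_of_le_of_card_ge hle
    (card_map_of_injective (MulAut.conj x).injective).ge
  rw [mem_normalizer_iff]
  intro v
  conv_rhs => rw [← heq]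
  exact (mem_map_iff_mem (MulAut.conj x).injective).symm

theorem good_self (B : Subgroup G) : Good B B :=
  ⟨le_rfl, 1, one_mem B, le_sup_left⟩

theorem mem_gen {B₀ : Subgroup G} (hB : Good B B₀) {w : G} (hY : w ∈ Y)
    (hC : w ∈ centralizer (B : Set G))
    (hW : w ∈ ⁅Y ⊓ centralizer (B₀ : Set G), A⁆) : w ∈ gen A B Y :=
  mem_iSup_of_mem (⟨B₀, hB⟩ : {B₀ : Subgroup G // Good B B₀}) ⟨⟨hY, hC⟩, hW⟩

theorem gen_le : gen A B Y ≤ Y ⊓ centralizer (B : Set G) :=
  iSup_le fun _ => inf_le_left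

theorem gen_mono {U : Subgroup G} (hU : U ≤ Y) : gen A B U ≤ gen A B Y :=
  iSup_mono fun B₀ => inf_le_inf (inf_le_inf_right _ hU)
    (commutator_mono (inf_le_inf_right _ hU) le_rfl)

theorem map_gen_le {G' : Type*} [Group G'] (f : G →* G') :
    (gen A B Y).map f ≤ gen (A.map f) (B.map f) (Y.map f) := by
  rw [gen, Subgroup.map_iSup]
  refine iSup_le fun B₀ => ?_
  obtain ⟨B₀, hle, b, hb, hsup⟩ := B₀
  have hcen : ∀ C : Subgroup G,
      (Y ⊓ centralizer (C : Set G)).map f ≤
        Y.map f ⊓ centralizer ((C.map f : Subgroup G') : Set G') := by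
    rintro C _ ⟨y, hy, rfl⟩
    refine ⟨mem_map_of_mem f hy.1, mem_centralizer_iff.2 ?_⟩
    rintro _ ⟨c, hc, rfl⟩
    rw [← map_mul, ← map_mul, mem_centralizer_iff.1 hy.2 c hc]
  have hgood : Good (B.map f) (B₀.map f) := by
    refine ⟨map_mono hle, f b, mem_map_of_mem f hb, (map_mono hsup).trans ?_⟩
    rw [Subgroup.map_sup, MonoidHom.map_zpowers]
  rintro _ ⟨w, hw, rfl⟩
  have h1 := hcen B (mem_map_of_mem f hw.1)
  refine mem_gen hgood h1.1 h1.2 ?_
  exact commutator_mono (hcen B₀) le_rfl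
    ((map_commutator (Y ⊓ centralizer (B₀ : Set G)) A f) ▸ mem_map_of_mem f hw.2)

variable [Finite G]

theorem Hyp.mono (h : Hyp A B Y) {U : Subgroup G} (hU : U ≤ Y)
    (hn : A ≤ normalizer (U : Set G)) : Hyp A B U :=
  ⟨h.comm, h.le, hn, h.cop.coprime_dvd_right (card_dvd_of_le hU),
    @SolvBasic.isSolvable_of_le G _ _ Y hU h.sol⟩

theorem Hyp.copSub (h : Hyp A B Y) {C U : Subgroup G} (hC : C ≤ A) (hU : U ≤ Y) :
    (Nat.card C).Coprime (Nat.card U) :=
  (h.cop.coprime_dvd_left (card_dvd_of_le hC)).coprime_dvd_right (card_dvd_of_le hU)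

theorem Hyp.inf_eq_bot (h : Hyp A B Y) {C : Subgroup G} (hC : C ≤ A) : C ⊓ Y = ⊥ :=
  (Subgroup.disjoint_of_coprime_natCard (h.copSub hC le_rfl)).eq_bot

theorem Hyp.map (h : Hyp A B Y) {G' : Type*} [Group G'] [Finite G'] (f : G →* G') :
    Hyp (A.map f) (B.map f) (Y.map f) := by
  refine ⟨?_, map_mono h.le, (map_mono h.norm).trans (le_normalizer_map f), ?_, ?_⟩
  · rintro _ ⟨a, ha, rfl⟩ _ ⟨a', ha', rfl⟩
    rw [← map_mul, ← map_mul, h.comm a ha a' ha']
  · exact (h.cop.coprime_dvd_left (A.card_map_dvd f)).coprime_dvd_right (Y.card_map_dvd f)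
  · have := h.sol
    exact Group.isSolvable_of_surjective (f.subgroupMap_surjective Y)

/-- `Y` is generated by the centralisers of the cocyclic subgroups of `B`. -/
theorem le_of_good (h : Hyp A B Y) {T : Subgroup G}
    (hT : ∀ B₀, Good B B₀ → Y ⊓ centralizer (B₀ : Set G) ≤ T) : Y ≤ T := by
  suffices ∀ C : Subgroup G, C ≤ B → Y ⊓ centralizer (C : Set G) ≤ T by
    refine le_trans ?_ (this ⊥ bot_le)
    refine le_inf le_rfl fun y _ => mem_centralizer_iff.2 fun c hc => ?_
    rw [mem_bot.1 hc, one_mul, mul_one]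
  intro C
  induction hn : Nat.card B - Nat.card C using Nat.strong_induction_on generalizing C with
  | _ n ih =>
    intro hCB
    by_cases hg : ∃ b ∈ B, B ≤ C ⊔ zpowers b
    · exact hT C ⟨hCB, hg⟩
    push_neg at hg
    set X := Y ⊓ centralizer (C : Set G) with hX
    set M := centralizer (C : Set G) with hM
    have hBM : B ≤ M := fun b hb =>
      mem_centralizer_iff.2 fun c hc => h.comm c (h.le (hCB hc)) b (h.le hb)
    have hCM : C ≤ M := hCB.trans hBM
    have hXM : X ≤ M := inf_le_right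
    haveI : (C.subgroupOf M).Normal :=
      ⟨fun c hc m => by
        have h1 : (c : G) * m = m * c := mem_centralizer_iff.1 m.2 c hc
        show ((m : G) * c * (m : G)⁻¹) ∈ C
        rw [← h1, mul_inv_cancel_right]
        exact hc⟩
    set f := QuotientGroup.mk' (C.subgroupOf M) with hf
    set B' := (B.subgroupOf M).map f with hB'
    set X' := (X.subgroupOf M).map f with hX'
    have hBX : B ≤ normalizer (X : Set G) := h.le.trans (norm_fixed h (hCB.trans h.le))
    have hncyc : ¬ IsCyclic B' := by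
      intro hcyc
      obtain ⟨g, hg'⟩ := B'.isCyclic_iff_exists_zpowers_eq_top.1 hcyc
      have hgB : g ∈ B' := hg' ▸ mem_zpowers g
      obtain ⟨b, hb, rfl⟩ := hgB
      refine hg (b : G) hb fun x hx => ?_
      have hx' : f ⟨x, hBM hx⟩ ∈ B' :=
        mem_map_of_mem f (show (⟨x, hBM hx⟩ : ↥M) ∈ B.subgroupOf M from hx)
      rw [← hg', mem_zpowers_iff] at hx'
      obtain ⟨i, hi⟩ := hx'
      rw [← map_zpow, eq_comm, ← mul_inv_eq_one, ← map_inv, ← map_mul, hf,
        QuotientGroup.mk'_apply, QuotientGroup.eq_one_iff] at hi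
      have hC' : x * ((b : G) ^ i)⁻¹ ∈ C := by simpa [mem_subgroupOf] using hi
      have e : x = x * ((b : G) ^ i)⁻¹ * (b : G) ^ i := by group
      rw [e]
      exact mul_mem (mem_sup_left hC') (mem_sup_right (zpow_mem (mem_zpowers _) i))
    haveI : IsMulCommutative B' := IsMulCommutative.of_comm fun u v => by
      obtain ⟨_, a, ha, rfl⟩ := u
      obtain ⟨_, a', ha', rfl⟩ := v
      refine Subtype.ext ?_
      show f a * f a' = f a' * f a
      rw [← map_mul, ← map_mul]
      exact congrArg f (Subtype.ext (h.comm a (h.le ha) a' (h.le ha')))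
    have hBX' : B.subgroupOf M ≤ normalizer ((X.subgroupOf M : Subgroup ↥M) : Set ↥M) := by
      intro b hb
      rw [mem_normalizer_iff]
      exact fun v => mem_normalizer_iff.1 (hBX hb) (v : G)
    have hcop : (Nat.card (B.subgroupOf M)).Coprime (Nat.card (X.subgroupOf M)) := by
      rw [Nat.card_congr (subgroupOfEquivOfLe hBM).toEquiv,
        Nat.card_congr (subgroupOfEquivOfLe hXM).toEquiv]
      exact h.copSub h.le inf_le_left
    have hgen := generated_by_centralizers (A := B') (K := X') hncyc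
      ((map_mono hBX').trans (le_normalizer_map f))
      ((hcop.coprime_dvd_left (card_map_dvd _ f)).coprime_dvd_right (card_map_dvd _ f))
    have hle : X' ≤ ((X ⊓ T).subgroupOf M).map f := by
      conv_lhs => rw [← hgen]
      refine iSup₂_le fun a ha => ?_
      obtain ⟨⟨b, hb, rfl⟩, ha1⟩ := ha
      have hbC : (b : G) ∉ C := fun hc => ha1 (by
        rw [hf, QuotientGroup.mk'_apply, QuotientGroup.eq_one_iff]
        exact hc)
      have hzb : zpowers b ≤ B.subgroupOf M := zpowers_le.2 hb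
      have hzc : (Nat.card (zpowers b)).Coprime (Nat.card (X.subgroupOf M)) :=
        hcop.coprime_dvd_left (card_dvd_of_le hzb)
      have key := map_inf_centralizer f (hzb.trans hBX') hzc
        (Or.inl (Group.isSolvable_of_comm fun u v => mul_comm' u v))
      rw [MonoidHom.map_zpowers] at key
      have hcs : centralizer ({f b} : Set (↥M ⧸ C.subgroupOf M)) =
          centralizer ((zpowers (f b) : Subgroup _) : Set (↥M ⧸ C.subgroupOf M)) := by
        rw [zpowers_eq_closure, centralizer_closure]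
      rw [hX', hcs, ← key]
      refine map_mono fun y hy => ⟨hy.1, ?_⟩
      set C₁ := C ⊔ zpowers (b : G) with hC₁
      have hlt : Nat.card C < Nat.card C₁ :=
        Set.ncard_lt_ncard (SetLike.coe_ssubset_coe.2
          (lt_of_le_of_ne le_sup_left fun e => hbC (e ▸ mem_sup_right (mem_zpowers _))))
      have hC₁B : C₁ ≤ B := sup_le hCB (zpowers_le.2 hb)
      refine ih (Nat.card B - Nat.card C₁) ?_ C₁ rfl hC₁B ⟨hy.1.1, ?_⟩
      · rw [← hn]
        have := Subgroup.card_le_of_le hC₁B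
        omega
      · have hcz : C₁ ≤ centralizer {(y : G)} := by
          refine sup_le (fun c hc => ?_) (zpowers_le.2 ?_)
          · rw [mem_centralizer_singleton_iff]
            exact mem_centralizer_iff.1 hy.1.2 c hc
          · rw [mem_centralizer_singleton_iff]
            exact congrArg Subtype.val (mem_centralizer_iff.1 hy.2 b (mem_zpowers b))
        exact mem_centralizer_iff.2 fun c hc => mem_centralizer_singleton_iff.1 (hcz hc)
    intro x hx
    have hx' : f ⟨x, hXM hx⟩ ∈ X' :=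
      mem_map_of_mem f (show (⟨x, hXM hx⟩ : ↥M) ∈ X.subgroupOf M from hx)
    obtain ⟨z, hz, hzx⟩ := hle hx'
    rw [eq_comm, ← mul_inv_eq_one, ← map_inv, ← map_mul, hf, QuotientGroup.mk'_apply,
      QuotientGroup.eq_one_iff] at hzx
    have h1 : x * (z : G)⁻¹ ∈ C ⊓ Y := ⟨hzx, mul_mem hx.1 (Y.inv_mem hz.1.1)⟩
    rw [h.inf_eq_bot (hCB.trans h.le), mem_bot, mul_inv_eq_one] at h1
    exact h1 ▸ hz.2

/-- `[Y, A] = Y` is generated by the `[C_Y(B₀), A]`. -/
theorem le_of_good_commutator (h : Hyp A B Y) (hYA : ⁅Y, A⁆ = Y) {T : Subgroup G}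
    (hT : ∀ B₀, Good B B₀ → ⁅Y ⊓ centralizer (B₀ : Set G), A⁆ ≤ T) : Y ≤ T := by
  set M : Subgroup G := ⨆ B₀ : {B₀ : Subgroup G // Good B B₀},
    ⁅Y ⊓ centralizer ((B₀ : Subgroup G) : Set G), A⁆ with hM
  suffices Y ≤ M from this.trans (iSup_le fun B₀ => hT B₀ B₀.2)
  set Cy := Y ⊓ centralizer (A : Set G) with hCy
  have hMY : M ≤ Y := iSup_le fun B₀ =>
    (commutator_mono inf_le_left le_rfl).trans (commutator_le_left h.norm)
  have hAM : A ≤ normalizer (M : Set G) :=
    le_normalizer_iSup fun _ => normalizer_commutator_ge_right _ _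
  have hCM : Cy ≤ normalizer (M : Set G) := by
    refine le_normalizer_iSup fun B₀ => ?_
    exact le_trans (inf_le_inf_left Y (centralizer_le (B₀.2.1.trans h.le)))
      (normalizer_commutator_ge_left _ _)
  have hsup : Y ≤ M ⊔ Cy := by
    refine le_of_good h fun B₀ hB₀ => ?_
    have hn := norm_fixed h (hB₀.1.trans h.le)
    intro y hy
    obtain ⟨d, hd, c, hc, rfl⟩ := exists_commutator_mul hn (h.copSub le_rfl inf_le_left)
      (Or.inr (@SolvBasic.isSolvable_of_le G _ _ Y inf_le_left h.sol)) hy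
    exact mul_mem (mem_sup_left (mem_iSup_of_mem (⟨B₀, hB₀⟩ : {B₀ : Subgroup G // Good B B₀}) hd))
      (mem_sup_right ⟨hc.1.1, hc.2⟩)
  conv_lhs => rw [← hYA]
  rw [commutator_le]
  intro y hy a ha
  obtain ⟨m, hm, c, hc, rfl⟩ := (SolvBasic.mem_sup_iff_of_le_normalizer hCM).1 (hsup hy)
  have hac : c * a = a * c := (mem_centralizer_iff.1 hc.2 a ha).symm
  have e : ⁅m * c, a⁆ = m * (a * m⁻¹ * a⁻¹) := by
    rw [commutatorElement_def, mul_inv_rev]
    calc m * c * a * (c⁻¹ * m⁻¹) * a⁻¹ = m * (c * a) * c⁻¹ * m⁻¹ * a⁻¹ := by group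
      _ = m * (a * c) * c⁻¹ * m⁻¹ * a⁻¹ := by rw [hac]
      _ = _ := by group
  rw [e]
  exact mul_mem hm (conj_mem_of_mem_normalizer (hAM ha) (inv_mem hm))

end Cfsg.Agent.OddDown.FixedGen
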