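import Cfsg.Agent.Lib.OddChar.Iface
import Cfsg.Agent.Lib.Components.PTerminalPump
import Cfsg.Agent.Lib.LBalance.Balance

/-!
A component of an involution centralizer when the 2-layer is the layer (S1322), modulo the odd
order theorem.
-/

set_option autoImplicit false
set_option linter.style.haveILetI false
set_option linter.unusedSectionVars false

namespace Cfsg.Agent.OddDown

open Subgroup Cfsg.Agent.Components Cfsg.Agent.PTerm
open Cfsg.Agent.BpBalance (PCIn)
open scoped commutatorElement

universe u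

variable {G : Type u} [Group G] [Finite G]

theorem not_odd_quasisimple (h : OddChar.OddSolvable.{u}) {K : Type u} [Group K] [Finite K]
    (hK : Cfsg.IsQuasisimple K) : ¬ Odd (Nat.card K) := fun ho => quasisimple_not_solvable hK (h K ho)

/-- A quasisimple group is generated by its 2-elements. -/
theorem two_gen (h : OddChar.OddSolvable.{u}) (L : Subgroup G) (hq : Cfsg.IsQuasisimple L) :
    L ≤ pGen 2 L := by
  haveI : Fact (Nat.Prime 2) := ⟨Nat.prime_two⟩
  haveI : ((pGen 2 L).subgroupOf L).Normal :=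
    normal_subgroupOf_of_le_normalizer (le_normalizer.trans (normalizer_le_pGen L))
  rcases quasisimple_normal hq ((pGen 2 L).subgroupOf L) with e | e
  · exact subgroupOf_eq_top.1 e
  exfalso
  obtain ⟨P⟩ : Nonempty (Sylow 2 L) := inferInstance
  have hP : (P : Subgroup L) ≤ center L := fun x hx => e (by
    rw [mem_subgroupOf]
    obtain ⟨k, hk⟩ := P.isPGroup' ⟨x, hx⟩
    exact subset_closure ⟨x.2, k, congrArg (fun z : (P : Subgroup L) => ((z : L) : G)) hk⟩)
  haveI := hq.2
  haveI : Group.IsSolvable (L ⧸ center L) := h _ (by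
    rw [← Nat.not_even_iff_odd, even_iff_two_dvd]
    exact fun hd => P.not_dvd_index (hd.trans (index_dvd_of_le hP)))
  haveI : Group.IsSolvable (center L) :=
    Group.isSolvable_of_comm fun a b => Subtype.ext (mem_center_iff.1 b.2 a)
  exact quasisimple_not_solvable hq
    ((Group.isSolvable_iff_subgroup_quotient (center L)).2 ⟨inferInstance, inferInstance⟩)

/-- A component is a 2-component. -/
theorem pcin_of_component (h : OddChar.OddSolvable.{u}) {L H : Subgroup G} (hle : L ≤ H)
    (hL : Cfsg.IsComponent (L.subgroupOf H)) : PCIn 2 L H := by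
  haveI : Fact (Nat.Prime 2) := ⟨Nat.prime_two⟩
  have hq : Cfsg.IsQuasisimple L := (quasisimple_congr (subgroupOfEquivOfLe hle)).1 hL.2
  refine ⟨hle, hL.1, two_gen h L hq, ?_⟩
  haveI := FittingCores.pPrimeCore_normal (G := L) 2
  rcases quasisimple_normal hq (Cfsg.pPrimeCore 2 L) with e | e
  · have h1 := FittingCores.pPrimeCore_coprime (G := L) 2
    rw [e, card_top] at h1
    exact absurd (Nat.coprime_two_right.1 h1) (not_odd_quasisimple h hq)
  · haveI : Nontrivial (L ⧸ Cfsg.pPrimeCore 2 L) := QuotientGroup.nontrivial_iff.2 fun he =>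
      quasisimple_center_ne_top hq (top_le_iff.1 (he ▸ e))
    exact quasisimple_of_surjective hq _ (QuotientGroup.mk'_surjective _)

/-- A component subnormal in a quasisimple subgroup is that subgroup. -/
theorem eq_of_subnormal {L R : Subgroup G} (hR : Cfsg.IsQuasisimple R) (hle : L ≤ R)
    (hs : (L.subgroupOf R).IsSubnormal) (hL : ¬ L ≤ centralizer (L : Set G)) : L = R := by
  rcases quasisimple_subnormal hR hs with e | e
  · exact le_antisymm hle (subgroupOf_eq_top.1 e)
  · exact absurd (fun x hx => mem_centralizer_iff.2 fun y hy =>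
      congrArg Subtype.val (mem_center_iff.1 (e (mem_subgroupOf.2 hx : (⟨x, hle hx⟩ : R) ∈ L.subgroupOf R))
        ⟨y, hle hy⟩)) hL

/-- S1322 modulo the odd order theorem. -/
theorem component_of_two_layer (h : OddChar.OddSolvable.{u}) (hL2 : Cfsg.pLayer 2 G = Cfsg.layer G)
    (t : G) (ht : orderOf t = 2) (L : Subgroup G) (hLt : L ≤ centralizer ({t} : Set G))
    (hL : Cfsg.IsComponent (L.subgroupOf (centralizer ({t} : Set G)))) :
    ∃ D : Subgroup G, Cfsg.IsComponent D ∧ (L = D ∨ (L < D ∧ D = ⁅D, zpowers t⁆) ∨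
      (D.map (MulAut.conj t).toMonoidHom ≠ D ∧
        L = (Cfsg.layer ↥((D ⊔ D.map (MulAut.conj t).toMonoidHom) ⊓ centralizer ({t} : Set G))).map
          ((D ⊔ D.map (MulAut.conj t).toMonoidHom) ⊓ centralizer ({t} : Set G)).subtype)) := by
  haveI : Fact (Nat.Prime 2) := ⟨Nat.prime_two⟩
  have hP := pcin_of_component h hLt hL
  have htp : t ^ 2 = 1 := by rw [← ht, pow_orderOf_eq_one]
  have hcz : centralizer ((zpowers t : Subgroup G) : Set G) = centralizer ({t} : Set G) := by
    rw [zpowers_eq_closure, centralizer_closure]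
  have hLE : L ≤ Cfsg.layer G := by
    rw [← hL2]
    have hp2 : IsPGroup 2 (zpowers t) := IsPGroup.of_card (n := 1) (by rw [Nat.card_zpowers, ht, pow_one])
    refine le_trans ?_ (LBalance.pLayer_centralizer_le_two hp2)
    rw [hcz, ← map_subgroupOf_eq_of_le hLt]
    exact map_mono (le_sSup hP.toComp)
  have hLab := hP.not_abelian
  obtain ⟨J, hJ, hne⟩ : ∃ J, Cfsg.IsComponent J ∧ ⁅L, J⁆ ≠ ⊥ := by
    by_contra hno
    push Not at hno
    exact hLab (hLE.trans (layer_le_iff.2 fun J hJ => commutator_eq_bot_iff_le_centralizer.1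
      (by rw [commutator_comm]; exact hno J hJ)))
  refine ⟨J, hJ, ?_⟩
  rcases fixed_or_orbit htp hP hLE hJ hne with ⟨htN, hLJ⟩ | ⟨htN, hpsi⟩
  · by_cases hLJe : L = J
    · exact Or.inl hLJe
    refine Or.inr (Or.inl ⟨lt_of_le_of_ne hLJ hLJe, ?_⟩)
    have hle : ⁅J, zpowers t⁆ ≤ J := commutator_le.2 fun a ha b hb => by
      have hb' : b ∈ normalizer (J : Set G) := zpowers_le.2 htN hb
      rw [commutatorElement_def, mul_assoc a, mul_assoc a]
      exact mul_mem ha ((mem_normalizer_iff.1 hb' _).1 (inv_mem ha))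
    rcases component_normal_cases hJ hle (normalizes_left J _) with e | e
    · exact e.symm
    · exfalso
      refine hLJe ?_
      have hb := commute_of_commutator_central (component_commutator_eq hJ) e
      have hJC : J ≤ centralizer ({t} : Set G) := by
        rw [← hcz]; exact commutator_eq_bot_iff_le_centralizer.1 hb
      refine eq_of_subnormal hJ.2 hLJ ?_ hLab
      exact hP.sub.comap (inclusion hJC)
  · refine Or.inr (Or.inr ⟨fun e => htN (mem_normalizer_fintype fun y hy => e.le ⟨y, hy, rfl⟩), ?_⟩)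
    set K := J ⊔ J.map (MulAut.conj t).toMonoidHom with hK
    set W := K ⊓ centralizer ({t} : Set G) with hW
    let f : ↥J →* G :=
      { toFun := fun a => psi 2 t a
        map_one' := by simp [psi, htp]
        map_mul' := fun a b => psi_mul htp hJ htN a.2 b.2 }
    have horb : orb 2 t J ≤ K := iSup_le fun i => by
      fin_cases i
      · rintro _ ⟨a, ha, rfl⟩
        exact mem_sup_left (by simpa using ha)
      · exact le_of_eq_of_le (by simp) le_sup_right
    have hKE : K ≤ Cfsg.layer G := sup_le (component_le_layer hJ) (component_le_layer (component_conj hJ t))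
    have hKorb : K ≤ orb 2 t J := sup_le (le_orb two_pos) (by
      rintro _ ⟨a, ha, rfl⟩
      have := conj_mem_orb (p := 2) htp 1 ha
      rw [pow_one] at this
      exact this)
    have hRW : f.range ≤ W := by
      rintro _ ⟨a, rfl⟩
      exact ⟨horb (psi_mem_orb htp a.2), mem_centralizer_singleton_iff.2 (psi_comm htp hJ htN a.2)⟩
    have hLR : L ≤ f.range := fun e he => by
      obtain ⟨a, ha, rfl⟩ := hpsi e he
      exact ⟨⟨a, ha⟩, rfl⟩
    have hfne : f.range ≠ ⊥ := fun e => hP.ne_bot (le_bot_iff.1 (e ▸ hLR))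
    haveI : Nontrivial f.range := (nontrivial_iff_ne_bot _).2 hfne
    have hRq : Cfsg.IsQuasisimple f.range :=
      quasisimple_of_surjective hJ.2 f.rangeRestrict f.rangeRestrict_surjective
    have hLeq : L = f.range :=
      eq_of_subnormal hRq hLR (hP.sub.comap (inclusion (hRW.trans inf_le_right))) hLab
    have hLW : L ≤ W := hLR.trans hRW
    have hLcomp : Cfsg.IsComponent (L.subgroupOf W) :=
      ⟨hP.sub.comap (inclusion (inf_le_right : W ≤ _)),
        (quasisimple_congr (subgroupOfEquivOfLe hLW)).2 ((quasisimple_congr (MulEquiv.subgroupCongr hLeq)).2 hRq)⟩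
    have hWparts : ∀ w ∈ W, ∃ r ∈ f.range, ∃ z ∈ centralizer (K : Set G), r * z = w := fun w hw => by
      obtain ⟨a, ha, z, hz, he⟩ := orbit_parts htp hJ htN (hKE hw.1) (mem_centralizer_singleton_iff.1 hw.2)
      exact ⟨_, ⟨⟨a, ha⟩, rfl⟩, z, centralizer_le (SetLike.coe_subset_coe.2 hKorb) hz, he⟩
    have honly : ∀ Q : Subgroup W, Cfsg.IsComponent Q → Q = L.subgroupOf W := by
      intro Q hQ
      by_contra hQne
      have hc := components_commute hQ hLcomp hQne
      have hQR : Q.map W.subtype ≤ f.range := by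
        rw [← component_commutator_eq hQ, map_commutator, commutator_le]
        rintro _ ⟨⟨a, haW⟩, -, rfl⟩ _ ⟨⟨b, hbW⟩, -, rfl⟩
        obtain ⟨r, hr, z, hz, he⟩ := hWparts a haW
        obtain ⟨s, hs, w, hw, he'⟩ := hWparts b hbW
        change ⁅a, b⁆ ∈ f.range
        subst he he'
        have hrK : r ∈ K := (hRW hr).1
        have hsK : s ∈ K := (hRW hs).1
        have hwK : w ∈ K := (mul_mem_cancel_left hsK).1 hbW.1
        have cz : ∀ y ∈ K, Commute z y := fun y hy => (mem_centralizer_iff.1 hz y hy).symm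
        have cw : ∀ y ∈ K, Commute w y := fun y hy => (mem_centralizer_iff.1 hw y hy).symm
        have e1 : ⁅r * z, s * w⁆ = ⁅r, s⁆ := by
          simp only [commutatorElement_def, mul_inv_rev]
          calc r * z * (s * w) * (z⁻¹ * r⁻¹) * (w⁻¹ * s⁻¹)
              = r * (z * (s * w)) * z⁻¹ * r⁻¹ * (w⁻¹ * s⁻¹) := by group
            _ = r * s * (w * r⁻¹) * (w⁻¹ * s⁻¹) := by rw [(cz _ (mul_mem hsK hwK)).eq]; group
            _ = _ := by rw [(cw _ (inv_mem hrK)).eq]; group
        rw [e1]
        exact mul_mem (mul_mem (mul_mem hr hs) (inv_mem hr)) (inv_mem hs)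
      rw [← hLeq] at hQR
      refine quasisimple_not_commutative hQ.2 (le_centralizer_iff_isMulCommutative.1 fun x hx => mem_centralizer_iff.2 fun y hy => ?_)
      exact (mem_centralizer_iff.1 (commutator_eq_bot_iff_le_centralizer.1 hc hy) x
        (mem_subgroupOf.2 (hQR ⟨x, hx, rfl⟩))).symm
    have hlay : Cfsg.layer W = L.subgroupOf W := le_antisymm (layer_le_iff.2 fun Q hQ => (honly Q hQ).le)
      (component_le_layer hLcomp)
    rw [hlay, map_subgroupOf_eq_of_le hLW]

end Cfsg.Agent.OddDown
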