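import Cfsg.Agent.Lib.OddChar.Iface
import Cfsg.Agent.S5212
import Cfsg.Agent.Lib.Fusion.Group
import Cfsg.Agent.Lib.Blocks.HomocyclicTwo
import Cfsg.Agent.Lib.Blocks.RegTrExact
import Cfsg.Agent.Lib.Transfer.Basic
import Cfsg.Agent.Lib.Isolated.HSubgroup
import Mathlib.GroupTheory.Nilpotent

/-!
Metacyclic Sylow 2-subgroups with a large cyclic quotient force solubility (S4418).
-/

set_option autoImplicit false
set_option linter.style.haveILetI false
set_option linter.unusedSectionVars false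

namespace Cfsg.Agent.OddDown

open Subgroup

universe u

theorem card_le_two_of_sq {Q : Type*} [Group Q] [IsCyclic Q] (h : ∀ q : Q, q * q = 1) :
    Nat.card Q ≤ 2 := by
  obtain ⟨g, hg⟩ := IsCyclic.exists_generator (α := Q)
  rw [← orderOf_eq_card_of_forall_mem_zpowers hg]
  exact Nat.le_of_dvd (by norm_num) (orderOf_dvd_of_pow_eq_one (by rw [pow_two]; exact h g))

theorem mul_self_of_gens {Q : Type*} [CommGroup Q] {u v : Q} (hu : u * u = 1) (hv : v * v = 1)
    {q : Q} (hq : q = u ∨ q = v ∨ q = u * v ∨ q = 1) : q * q = 1 := by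
  rcases hq with rfl | rfl | rfl | rfl
  · exact hu
  · exact hv
  · rw [mul_mul_mul_comm, hu, hv, one_mul]
  · exact one_mul 1

theorem commGroup_quot {P : Type*} [Group P] (N : Subgroup P) [N.Normal] [IsCyclic (P ⧸ N)]
    (a b : P ⧸ N) : a * b = b * a := by
  letI := IsCyclic.commGroup (α := P ⧸ N)
  exact mul_comm a b

theorem not_dihedral {P : Type*} [Group P] [Finite P] (N : Subgroup P) [N.Normal]
    [IsCyclic (P ⧸ N)] (hQ : 2 < Nat.card (P ⧸ N)) (m : ℕ) : IsEmpty (P ≃* DihedralGroup m) := by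
  refine ⟨fun e => absurd (card_le_two_of_sq fun q => ?_) (not_le.2 hQ)⟩
  obtain ⟨x, rfl⟩ := QuotientGroup.mk'_surjective N q
  set f : DihedralGroup m →* P ⧸ N := (QuotientGroup.mk' N).comp e.symm.toMonoidHom with hf
  have hfx : QuotientGroup.mk' N x = f (e x) := by simp [hf]
  have hs : ∀ i : ZMod m, f (.sr i) * f (.sr i) = 1 := fun i => by
    rw [← map_mul, DihedralGroup.sr_mul_self, map_one]
  rw [hfx]
  rcases e x with i | i
  · have h1 : DihedralGroup.r i = DihedralGroup.sr 0 * DihedralGroup.sr i := by simp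
    rw [h1, map_mul]
    calc f (.sr 0) * f (.sr i) * (f (.sr 0) * f (.sr i))
        = f (.sr 0) * (f (.sr i) * f (.sr 0)) * f (.sr i) := by simp only [mul_assoc]
      _ = (f (.sr 0) * f (.sr 0)) * (f (.sr i) * f (.sr i)) := by
          rw [commGroup_quot N (f (.sr i)) (f (.sr 0))]; simp only [mul_assoc]
      _ = 1 := by rw [hs, hs, one_mul]
  · exact hs i

theorem quot_sq_of_inverted {P : Type*} [Group P] (N : Subgroup P) [N.Normal] [IsCyclic (P ⧸ N)]
    {x y : P} (h : y * x * y⁻¹ = x⁻¹) : QuotientGroup.mk' N x * QuotientGroup.mk' N x = 1 := by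
  have h1 := congrArg (QuotientGroup.mk' N) h
  rw [map_mul, map_mul, commGroup_quot N (QuotientGroup.mk' N y), mul_assoc, ← map_mul,
    mul_inv_cancel, map_one, mul_one, map_inv] at h1
  exact mul_eq_one_iff_eq_inv.2 h1

theorem not_quaternion {P : Type*} [Group P] [Finite P] (hP : IsPGroup 2 P) (hnc : ¬ IsCyclic P)
    (N : Subgroup P) [N.Normal] [IsCyclic (P ⧸ N)] (hQ : 2 < Nat.card (P ⧸ N)) (m : ℕ) :
    IsEmpty (P ≃* QuaternionGroup m) := by
  refine ⟨fun e => absurd (card_le_two_of_sq fun q => ?_) (not_le.2 hQ)⟩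
  obtain ⟨x, rfl⟩ := QuotientGroup.mk'_surjective N q
  rcases m with _ | m
  · haveI : Finite (QuaternionGroup 0) := Finite.of_equiv P e.toEquiv
    haveI := Fintype.ofFinite (QuaternionGroup 0)
    haveI : Finite ℤ := Finite.of_injective
      (fun z : ℤ => (QuaternionGroup.a (z : ZMod (2 * 0)) : QuaternionGroup 0))
      (fun z w hzw => by injection hzw)
    exact (not_finite ℤ).elim
  have hev : 2 ∣ m + 1 := by
    haveI : Fact (Nat.Prime 2) := ⟨Nat.prime_two⟩
    obtain ⟨k, hk⟩ := hP.exists_card_eq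
    have hc : Nat.card P = 4 * (m + 1) := by
      rw [Nat.card_congr e.toEquiv, Nat.card_eq_fintype_card, QuaternionGroup.card]
    obtain ⟨j, -, hj⟩ := (Nat.dvd_prime_pow Nat.prime_two).1
      (show m + 1 ∣ 2 ^ k from hk ▸ hc ▸ Dvd.intro_left 4 rfl)
    rcases j with _ | j
    · obtain rfl : m = 0 := by simpa using hj
      haveI : IsCyclic (QuaternionGroup (0 + 1)) := QuaternionGroup.quaternionGroup_one_isCyclic
      exact absurd (isCyclic_of_surjective e.symm.toMonoidHom e.symm.surjective) hnc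
    · rw [hj, pow_succ]; exact dvd_mul_left 2 _
  set f : QuaternionGroup (m + 1) →* P ⧸ N := (QuotientGroup.mk' N).comp e.symm.toMonoidHom with hf
  have hfx : QuotientGroup.mk' N x = f (e x) := by simp [hf]
  have hai : ∀ i, f (.a i) * f (.a i) = 1 := fun i => by
    refine quot_sq_of_inverted N (x := e.symm (.a i)) (y := e.symm (.xa 0)) ?_
    rw [← map_inv e.symm, ← map_inv e.symm, ← map_mul, ← map_mul]
    refine congrArg e.symm (mul_inv_eq_iff_eq_mul.2 ?_)
    change _ = QuaternionGroup.a (-i) * _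
    simp
  rw [hfx]
  rcases e x with i | i
  · exact hai i
  · rw [← map_mul, show QuaternionGroup.xa i * QuaternionGroup.xa i =
      (QuaternionGroup.a ((m + 1 : ℕ) : ZMod (2 * (m + 1))) : QuaternionGroup (m + 1)) by simp]
    obtain ⟨c, hc⟩ := hev
    rw [show ((m + 1 : ℕ) : ZMod (2 * (m + 1))) = (c : ZMod (2 * (m + 1))) + c by
      rw [← Nat.cast_add]; exact congrArg Nat.cast (by omega), ← QuaternionGroup.a_mul_a, map_mul]
    exact hai _

theorem not_quasiDihedral {P : Type*} [Group P] [Finite P] (N : Subgroup P) [N.Normal]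
    [IsCyclic (P ⧸ N)] (hQ : 2 < Nat.card (P ⧸ N)) : ¬ Cfsg.IsQuasiDihedral P := by
  rintro ⟨n, hn, hcard, x, y, hx, hy, hyx⟩
  refine absurd (card_le_two_of_sq fun q => ?_) (not_le.2 hQ)
  obtain ⟨z, rfl⟩ := QuotientGroup.mk'_surjective N q
  set f := QuotientGroup.mk' N with hf
  obtain ⟨k, hk⟩ : ∃ k, 2 ^ (n - 1) = 4 * k :=
    ⟨2 ^ (n - 3), by rw [show n - 1 = 2 + (n - 3) by omega, pow_add]; norm_num⟩
  have hk1 : 1 ≤ k := by have : 0 < 2 ^ (n - 1) := by positivity
                         omega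
  have hfx1 : f x ^ (2 ^ (n - 1) - 2) = 1 := by
    have h1 := congrArg f hyx
    rw [map_mul, map_mul, commGroup_quot N (f y), mul_assoc, ← map_mul, mul_inv_cancel, map_one,
      mul_one, map_pow] at h1
    have h2 : f x ^ (2 ^ (n - 1) - 2) * f x = 1 * f x := by
      rw [← pow_succ, one_mul, show 2 ^ (n - 1) - 2 + 1 = 2 ^ (n - 1) - 1 by omega]
      exact h1.symm
    exact mul_right_cancel h2
  have hfx2 : f x * f x = 1 := by
    have h1 : f x ^ (2 ^ n) = 1 := by rw [← map_pow, ← hx, pow_orderOf_eq_one, map_one]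
    have h2 : Nat.gcd (2 ^ n) (2 ^ (n - 1) - 2) ∣ 2 := by
      have hd : Nat.gcd (2 ^ n) (2 ^ (n - 1) - 2) ∣ 2 ^ n := Nat.gcd_dvd_left _ _
      obtain ⟨j, -, hj⟩ := (Nat.dvd_prime_pow Nat.prime_two).1 hd
      rw [hj]
      have h3 : 2 ^ j ∣ 2 ^ (n - 1) - 2 := hj ▸ Nat.gcd_dvd_right _ _
      by_contra hc
      have hj2 : 2 ≤ j := by
        by_contra hlt
        interval_cases j <;> exact hc (by norm_num)
      have h4 : 4 ∣ 2 ^ (n - 1) - 2 := (pow_dvd_pow 2 hj2).trans h3
      omega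
    have h3 := pow_gcd_eq_one.2 ⟨h1, hfx1⟩
    rw [← pow_two]
    obtain ⟨c, hc⟩ := h2
    rw [hc, pow_mul, h3, one_pow]
  have hfy : f y * f y = 1 := by
    rw [← map_mul, ← pow_two, ← hy, pow_orderOf_eq_one, map_one]
  letI := IsCyclic.commGroup (α := P ⧸ N)
  set R : Subgroup (P ⧸ N) := (powMonoidHom 2 : P ⧸ N →* P ⧸ N).ker with hR
  have hmem : ∀ w : P ⧸ N, w ∈ R ↔ w * w = 1 := fun w => by
    rw [hR, MonoidHom.mem_ker, powMonoidHom_apply, pow_two]
  suffices htop : R.comap f = ⊤ by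
    exact (hmem _).1 (mem_comap.1 (htop ▸ mem_top z : z ∈ R.comap f))
  have hxR : zpowers x ≤ R.comap f := zpowers_le.2 ((hmem _).2 hfx2)
  have hyR : y ∈ R.comap f := (hmem _).2 hfy
  have hlt : zpowers x < R.comap f := by
    refine lt_of_le_of_ne hxR fun he => ?_
    obtain ⟨j, hj⟩ := mem_zpowers_iff.1 (he.symm ▸ hyR : y ∈ zpowers x)
    have hc : y * x * y⁻¹ = x := by rw [← hj, ← zpow_add_one, ← zpow_neg, ← zpow_add]; simp
    rw [hc] at hyx
    have h1 : x ^ (2 ^ (n - 1) - 2) = 1 := by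
      apply mul_right_cancel (b := x)
      rw [one_mul, ← pow_succ, show 2 ^ (n - 1) - 2 + 1 = 2 ^ (n - 1) - 1 by omega]
      exact hyx.symm
    have h2 := orderOf_dvd_of_pow_eq_one h1
    rw [hx] at h2
    have h3 := Nat.le_of_dvd (by omega) h2
    have h4 : 2 ^ n = 2 * 2 ^ (n - 1) := by rw [← pow_succ', Nat.sub_add_cancel (by omega)]
    omega
  have hd := card_dvd_of_le hxR
  have hd2 := card_subgroup_dvd_card (R.comap f)
  rw [Nat.card_zpowers, hx] at hd
  rw [hcard] at hd2
  obtain ⟨j, hj, hje⟩ := (Nat.dvd_prime_pow Nat.prime_two).1 hd2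
  have hne : j ≠ n := fun e => hlt.ne (eq_of_le_of_card_ge hxR (by rw [Nat.card_zpowers, hx, hje, e]))
  have hjn : n ≤ j := (Nat.pow_dvd_pow_iff_le_right (by norm_num : 1 < 2)).1 (hje ▸ hd)
  apply eq_top_of_card_eq
  rw [hje, hcard, show j = n + 1 by omega]

/-- The involution count of an abelian 2-group with cyclic normal subgroup and cyclic quotient. -/
theorem four_invol {P : Type*} [Group P] [Finite P] (hcomm : ∀ a b : P, a * b = b * a)
    (N : Subgroup P) [N.Normal] [IsCyclic N]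
    [IsCyclic (P ⧸ N)] (s : Finset P) (hs : ∀ a ∈ s, a * a = 1) : s.card ≤ 4 := by
  classical
  haveI := Fintype.ofFinite P
  haveI := Fintype.ofFinite N
  haveI := Fintype.ofFinite (P ⧸ N)
  have h2 : (Finset.univ.filter fun q : P ⧸ N => q ^ 2 = 1).card ≤ 2 :=
    IsCyclic.card_pow_eq_one_le (by norm_num)
  have hN2 : (Finset.univ.filter fun z : N => z ^ 2 = 1).card ≤ 2 :=
    IsCyclic.card_pow_eq_one_le (by norm_num)
  have him : s.image (QuotientGroup.mk' N) ⊆ Finset.univ.filter fun q : P ⧸ N => q ^ 2 = 1 :=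
    fun q hq => by
      obtain ⟨a, ha, rfl⟩ := Finset.mem_image.1 hq
      exact Finset.mem_filter.2 ⟨Finset.mem_univ _, by rw [← map_pow, pow_two, hs a ha, map_one]⟩
  calc s.card ≤ 2 * (s.image (QuotientGroup.mk' N)).card := Finset.card_le_mul_card_image _ 2 fun q hq => by
        obtain ⟨a, ha, rfl⟩ := Finset.mem_image.1 hq
        refine le_trans ?_ hN2
        refine Finset.card_le_card_of_injOn (fun w => if h : a⁻¹ * w ∈ N then ⟨a⁻¹ * w, h⟩ else 1) ?_ ?_
        · intro w hw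
          simp only [Finset.coe_filter, Set.mem_ofPred_eq] at hw ⊢
          have hm : a⁻¹ * w ∈ N := QuotientGroup.eq.1 hw.2.symm
          rw [dif_pos hm]
          refine ⟨Finset.mem_univ _, Subtype.ext ?_⟩
          change (a⁻¹ * w) ^ 2 = 1
          rw [Commute.mul_pow (hcomm a⁻¹ w), inv_pow, pow_two, pow_two, hs a ha, hs w hw.1, inv_one,
            one_mul]
        · intro w hw w' hw' he
          simp only [Finset.coe_filter, Set.mem_ofPred_eq] at hw hw'
          simp only [dif_pos (QuotientGroup.eq.1 hw.2.symm : a⁻¹ * w ∈ N),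
            dif_pos (QuotientGroup.eq.1 hw'.2.symm : a⁻¹ * w' ∈ N)] at he
          exact mul_left_cancel (congrArg Subtype.val he)
    _ ≤ 2 * 2 := Nat.mul_le_mul_left 2 ((Finset.card_le_card him).trans h2)

theorem shape_of_homocyclic {G : Type u} [Group G] [Finite G] (P : Subgroup G) (N : Subgroup P)
    [N.Normal] [IsCyclic N] [IsCyclic (P ⧸ N)] (hQ : 2 < Nat.card (P ⧸ N)) (hnc : ¬ IsCyclic P)
    {n k : ℕ} (e : P ≃* Multiplicative (Fin k → ZMod (2 ^ n))) : Homocyclic.Shape P := by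
  classical
  have hcomm : ∀ a b : P, a * b = b * a := fun a b => e.injective (by rw [map_mul, map_mul, mul_comm])
  have hne : ∃ x : P, x * x ≠ 1 := by
    by_contra hall
    push Not at hall
    refine absurd (card_le_two_of_sq fun q => ?_) (not_le.2 hQ)
    obtain ⟨x, rfl⟩ := QuotientGroup.mk'_surjective N q
    rw [← map_mul, hall, map_one]
  have hk : 2 ≤ k := by
    by_contra hk
    interval_cases k
    · exact hnc (isCyclic_of_surjective e.symm.toMonoidHom e.symm.surjective)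
    · set e₁ := (AddEquiv.toMultiplicative (AddEquiv.funUnique (Fin 1) (ZMod (2 ^ n))).symm).trans e.symm
      exact hnc (isCyclic_of_surjective e₁.toMonoidHom e₁.surjective)
  have hn : 2 ≤ n := by
    by_contra hn
    obtain ⟨x, hx⟩ := hne
    refine hx (e.injective ?_)
    rw [map_mul, map_one]
    apply Multiplicative.toAdd.injective
    funext i
    rw [toAdd_mul, Pi.add_apply, toAdd_one, Pi.zero_apply]
    generalize Multiplicative.toAdd (e x) i = z
    interval_cases n <;> revert z <;> decide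
  have hcard : Nat.card P = 2 ^ (n * k) := by
    rw [Nat.card_congr e.toEquiv, Nat.card_congr Multiplicative.toAdd, Nat.card_fun, Nat.card_zmod,
      Nat.card_fin, ← pow_mul]
  refine ⟨fun x hx y hy => congrArg Subtype.val (hcomm ⟨x, hx⟩ ⟨y, hy⟩), ?_, ?_, ?_, ?_⟩
  · rw [hcard]; exact pow_dvd_pow 2 (show 4 ≤ n * k from Nat.mul_le_mul hn hk)
  · obtain ⟨x, hx⟩ := hne
    exact ⟨x, x.2, fun h => hx (Subtype.ext h)⟩
  · haveI : Fact (Nat.Prime 2) := ⟨Nat.prime_two⟩
    obtain ⟨z, hz⟩ := exists_prime_orderOf_dvd_card' (G := P) 2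
      (hcard ▸ dvd_pow_self 2 (by positivity))
    refine ⟨z, z.2, ?_, fun h => ?_⟩
    · exact congrArg Subtype.val (show z * z = 1 by rw [← pow_two, ← hz, pow_orderOf_eq_one])
    · rw [show z = 1 from Subtype.ext h, orderOf_one] at hz
      omega
  · intro a ha b hb c hc d hd a2 b2 c2 d2 a1 b1 c1 d1 hab hac hbc
    by_contra hno
    push Not at hno
    have h := four_invol hcomm N ({1, ⟨a, ha⟩, ⟨b, hb⟩, ⟨c, hc⟩, ⟨d, hd⟩} : Finset P) (fun x hx => by
      simp only [Finset.mem_insert, Finset.mem_singleton] at hx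
      rcases hx with rfl | rfl | rfl | rfl | rfl
      exacts [one_mul 1, Subtype.ext a2, Subtype.ext b2, Subtype.ext c2, Subtype.ext d2])
    rw [Finset.card_insert_of_notMem (by simp [Subtype.ext_iff, Ne.symm a1, Ne.symm b1, Ne.symm c1, Ne.symm d1]),
      Finset.card_insert_of_notMem (by simp [hab, hac, hno.1.symm]),
      Finset.card_insert_of_notMem (by simp [hbc, hno.2.1.symm]),
      Finset.card_pair (by simp [hno.2.2.symm])] at h
    omega

theorem solvable_of_npc (h : OddChar.OddSolvable.{u}) {G : Type u} [Group G] [Finite G]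
    (hG : Cfsg.HasNormalPComplement 2 G) : Group.IsSolvable G := by
  haveI : Fact (Nat.Prime 2) := ⟨Nat.prime_two⟩
  obtain ⟨P, K, hK, hc⟩ := hG
  haveI := hK
  haveI : Group.IsSolvable K := h K (by
    rw [← Nat.not_even_iff_odd, even_iff_two_dvd, ← hc.index_eq_card]
    exact P.not_dvd_index)
  have hp : IsPGroup 2 (G ⧸ K) := by
    obtain ⟨j, hj⟩ := P.isPGroup'.exists_card_eq
    exact IsPGroup.of_card (n := j) (by rw [← hj, ← hc.symm.index_eq_card]; rfl)
  haveI := hp.isNilpotent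
  exact (Group.isSolvable_iff_subgroup_quotient K).2 ⟨inferInstance, inferInstance⟩

/-- S4418 modulo the odd order theorem. -/
theorem metacyclic_solvable (h : OddChar.OddSolvable.{u}) {G : Type u} [Group G] [Finite G]
    (S : Sylow 2 G) (N : Subgroup ↥(S : Subgroup G)) [N.Normal] (hNc : IsCyclic N)
    (hQc : IsCyclic (↥(S : Subgroup G) ⧸ N)) (hQ : 2 < Nat.card (↥(S : Subgroup G) ⧸ N)) :
    Group.IsSolvable G := by
  haveI : Fact (Nat.Prime 2) := ⟨Nat.prime_two⟩
  haveI := hNc
  haveI := hQc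
  by_cases hcyc : IsCyclic (S : Subgroup G)
  · exact solvable_of_npc h (@HSub.hasNormalPComplement_of_cyclic G _ _ 2 _ S hcyc
      fun q hq _ => hq.two_le)
  by_cases hh : ∃ n k : ℕ, Nonempty (↥(S : Subgroup G) ≃* Multiplicative (Fin k → ZMod (2 ^ n)))
  · obtain ⟨n, k, ⟨e⟩⟩ := hh
    set R := Cfsg.pPrimeCore 2 G with hR
    haveI : R.Normal := FittingCores.pPrimeCore_normal 2
    haveI : Group.IsSolvable R := h R (by
      rw [← Nat.not_even_iff_odd, even_iff_two_dvd]
      exact Nat.prime_two.coprime_iff_not_dvd.1 (FittingCores.pPrimeCore_coprime (G := G) 2).symm)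
    suffices hq : Group.IsSolvable (G ⧸ R) from
      (Group.isSolvable_iff_subgroup_quotient R).2 ⟨inferInstance, hq⟩
    haveI := Fintype.ofFinite (G ⧸ R)
    set Q : Sylow 2 (G ⧸ R) := S.mapSurjective (QuotientGroup.mk'_surjective R) with hQdef
    set f : (S : Subgroup G) →* (G ⧸ R) := (QuotientGroup.mk' R).comp (S : Subgroup G).subtype with hf
    have hfi : Function.Injective f := by
      refine (injective_iff_map_eq_one f).2 fun x hx => ?_
      have hxR : (x : G) ∈ R := (QuotientGroup.eq_one_iff (x : G)).1 hx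
      obtain ⟨j, hj⟩ := IsPGroup.iff_orderOf.1 S.isPGroup' x
      have h1 : orderOf (x : G) ∣ Nat.card R := by
        have := orderOf_dvd_natCard (⟨(x : G), hxR⟩ : R)
        rwa [orderOf_mk] at this
      have h2 : orderOf (x : G) = 1 := Nat.eq_one_of_dvd_coprimes
        ((FittingCores.pPrimeCore_coprime (G := G) 2).pow_right j) h1 (by rw [orderOf_coe, hj])
      exact Subtype.ext (orderOf_eq_one_iff.1 h2)
    have hrange : f.range = (Q : Subgroup (G ⧸ R)) := by
      rw [hf, MonoidHom.range_comp, range_subtype]; rfl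
    set e' : (S : Subgroup G) ≃* (Q : Subgroup (G ⧸ R)) :=
      (MonoidHom.ofInjective hfi).trans (MulEquiv.subgroupCongr hrange)
    have hS := shape_of_homocyclic (S : Subgroup G) N hQ hcyc e
    have hS' : Homocyclic.Shape (Q : Subgroup (G ⧸ R)) := by
      refine ⟨fun x hx y hy => ?_, ?_, ?_, ?_,
        fun a ha b hb c hc d hd a2 b2 c2 d2 a1 b1 c1 d1 hab hac hbc => ?_⟩
      · obtain ⟨x', rfl⟩ : x ∈ f.range := hrange.symm ▸ hx
        obtain ⟨y', rfl⟩ : y ∈ f.range := hrange.symm ▸ hy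
        rw [← map_mul, ← map_mul, Subtype.ext (hS.comm _ x'.2 _ y'.2) (a1 := x' * y') (a2 := y' * x')]
      · rw [← Nat.card_congr e'.toEquiv]; exact hS.large
      · obtain ⟨x, hx, hx2⟩ := hS.not_elementary
        refine ⟨f ⟨x, hx⟩, hrange ▸ ⟨_, rfl⟩, fun hc => hx2 ?_⟩
        rw [← map_mul, ← map_one f] at hc
        exact congrArg Subtype.val (hfi hc)
      · obtain ⟨x, hx, hx2, hx1⟩ := hS.invol
        refine ⟨f ⟨x, hx⟩, hrange ▸ ⟨_, rfl⟩, ?_, fun hc => hx1 ?_⟩
        · rw [← map_mul, show (⟨x, hx⟩ : (S : Subgroup G)) * ⟨x, hx⟩ = 1 from Subtype.ext hx2, map_one]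
        · rw [← map_one f] at hc
          exact congrArg Subtype.val (hfi hc)
      · obtain ⟨a', rfl⟩ : a ∈ f.range := hrange.symm ▸ ha
        obtain ⟨b', rfl⟩ : b ∈ f.range := hrange.symm ▸ hb
        obtain ⟨c', rfl⟩ : c ∈ f.range := hrange.symm ▸ hc
        obtain ⟨d', rfl⟩ : d ∈ f.range := hrange.symm ▸ hd
        have sq : ∀ {u : (S : Subgroup G)}, f u * f u = 1 → (u : G) * u = 1 := fun {u} hu => by
          rw [← map_mul, ← map_one f] at hu
          exact congrArg Subtype.val (hfi hu)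
        have ne : ∀ {u w : (S : Subgroup G)}, f u ≠ f w → (u : G) ≠ w := fun hu hw =>
          hu (congrArg f (Subtype.ext hw))
        have ne1 : ∀ {u : (S : Subgroup G)}, f u ≠ 1 → (u : G) ≠ 1 := fun hu hw =>
          hu ((congrArg f (Subtype.ext hw : _ = (1 : (S : Subgroup G)))).trans (map_one f))
        rcases hS.three _ a'.2 _ b'.2 _ c'.2 _ d'.2 (sq a2) (sq b2) (sq c2) (sq d2) (ne1 a1) (ne1 b1)
          (ne1 c1) (ne1 d1) (ne hab) (ne hac) (ne hbc) with q | q | q
        exacts [Or.inl (congrArg f (Subtype.ext q)), Or.inr (Or.inl (congrArg f (Subtype.ext q))),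
          Or.inr (Or.inr (congrArg f (Subtype.ext q)))]
    obtain ⟨M, hM⟩ := Cfsg.Agent.Blocks.exists_isPModular_witness 2
    haveI : M.IsPrime := hM.2.1.isPrime
    obtain ⟨hQn, -, hidx⟩ := Homocyclic.main hM hS' (fun K hK hKodd => by
      haveI := hK
      have h1 : K ≤ Cfsg.pPrimeCore 2 (G ⧸ R) :=
        le_sSup ⟨hK, (Nat.coprime_two_right.2 hKodd)⟩
      exact le_bot_iff.1 (h1.trans (le_of_eq (PBasic.pPrimeCore_quotient_pPrimeCore 2 G))))
    haveI := hQn
    haveI := Q.isPGroup'.isNilpotent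
    refine (Group.isSolvable_iff_subgroup_quotient (Q : Subgroup (G ⧸ R))).2 ⟨inferInstance, ?_⟩
    haveI : IsCyclic ((G ⧸ R) ⧸ (Q : Subgroup (G ⧸ R))) := by
      rcases hidx with hi | hi
      · haveI : Subsingleton ((G ⧸ R) ⧸ (Q : Subgroup (G ⧸ R))) :=
          (Nat.card_eq_one_iff_unique.1 hi).1
        infer_instance
      · haveI : Fact (Nat.Prime 3) := ⟨Nat.prime_three⟩
        exact isCyclic_of_prime_card (p := 3) hi
    exact Group.isSolvable_of_comm (commGroup_quot (Q : Subgroup (G ⧸ R)))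
  refine solvable_of_npc h (Fusion.hasNormalPComplement_of_controlsFusion S fun x hx g hgx => ?_)
  have hF := S5212.result S.isPGroup' (Cfsg.groupFusionSystem (S : Subgroup G))
    (FusionSys.groupFusionSystem_saturated S) ⟨N, inferInstance, hNc, hQc⟩ hh
    (fun ⟨m, ⟨e⟩⟩ => (not_dihedral N hQ m).false e)
    (fun ⟨m, ⟨e⟩⟩ => (not_quaternion S.isPGroup' hcyc N hQ m).false e) (not_quasiDihedral N hQ)
  set A : Subgroup G := zpowers x with hA
  have hAS : A ≤ (S : Subgroup G) := zpowers_le.2 hx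
  set φ : A →* G := (MulAut.conj g).toMonoidHom.comp A.subtype with hφ
  have hmem : φ ∈ (Cfsg.groupFusionSystem (S : Subgroup G)).Hom A := by
    refine ⟨hAS, fun a => ?_, g, fun a => rfl⟩
    obtain ⟨k, hk⟩ := mem_zpowers_iff.1 a.2
    change g * (a : G) * g⁻¹ ∈ (S : Subgroup G)
    rw [← hk, ← conj_zpow]
    exact zpow_mem hgx k
  rw [hF A] at hmem
  obtain ⟨-, v, hv, hve⟩ := hmem
  exact ⟨v, hv, (hve ⟨x, mem_zpowers x⟩).symm⟩

end Cfsg.Agent.OddDown
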