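import Cfsg.Agent.Lib.OddChar.Iface
import Cfsg.Agent.Lib.PrimClass.Main

/-! A consequence of the odd order theorem: S4991. -/

set_option autoImplicit false
set_option linter.style.haveILetI false

namespace Cfsg.Agent.OddDown

universe u

theorem primitive_degree_dvd (h : OddChar.OddSolvable.{u}) {G : Type u} [Group G] [Fintype G]
    (hodd : Odd (Nat.card G)) (χ : Cfsg.IrrCharacter G)
    (hprim : ¬ ∃ (H : Subgroup G), H ≠ ⊤ ∧ ∃ θ : ↥H → ℂ, Cfsg.IsCharacter ↥H θ ∧
      Cfsg.indFun H θ = (χ : G → ℂ))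
    (p : ℕ) [Fact p.Prime] (_hp : p ∣ Nat.card G) :
    ∃ g : G, (Cfsg.charDegree (χ : G → ℂ)).factorization p ≤
      ((Subgroup.centralizer ({g} : Set G)).index).factorization p := by
  haveI := h G hodd
  obtain ⟨ℓ, hℓ, -, g, hg⟩ := PrimClass.exists_mass_top p ⊥
    (fun K L _ _ c hc x _ => by
      rw [Subgroup.mem_bot.1 hc, commutatorElement_one_right]
      exact L.one_mem) χ hprim
  exact ⟨g, hg.trans (hℓ g)⟩

end Cfsg.Agent.OddDown
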