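import Cfsg.Agent.Lib.OddDown.ClassSizeSol
import Cfsg.Agent.Lib.Solvable.Supersolvable
import Cfsg.Agent.Lib.FGStruct.Baer.Main
import Cfsg.Agent.Lib.Breadth.VaughanLee
import Cfsg.Agent.Lib.Components.Fitting
import Cfsg.Agent.Lib.Solvable.Fitting
import Cfsg.Agent.Lib.Transfer.Basic
import Mathlib.GroupTheory.SpecificGroups.ZGroup
import Mathlib.GroupTheory.SchurZassenhaus

/-!
Groups with square-free class sizes (S4130), modulo the odd order theorem.
-/

set_option autoImplicit false
set_option linter.style.haveILetI false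
set_option linter.unusedSectionVars false

namespace Cfsg.Agent.OddDown

open Subgroup
open scoped commutatorElement

universe u

/-- All class sizes are square-free. -/
def Sqf (G : Type*) [Group G] : Prop :=
  ∀ x : G, Squarefree (centralizer ({x} : Set G)).index

variable {G : Type u} [Group G] [Finite G]

theorem Sqf.quot (hG : Sqf G) (N : Subgroup G) [N.Normal] : Sqf (G ⧸ N) := fun x => by
  obtain ⟨y, rfl⟩ := QuotientGroup.mk_surjective x
  exact (hG y).squarefree_of_dvd (index_cent_dvd_quot N y)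

theorem card_dvd_index_of_disjoint (N : Subgroup G) [N.Normal] (C : Subgroup G) (h : C ⊓ N = ⊥) :
    Nat.card N ∣ C.index := by
  have h2 := SolvBasic.card_sup_mul_card_inf (N := N) (H := C) le_normalizer_of_normal
  rw [inf_comm, h, card_bot, mul_one] at h2
  refine ⟨(N ⊔ C).index, Nat.eq_of_mul_eq_mul_left (Nat.card_pos (α := C)) ?_⟩
  rw [C.card_mul_index, ← mul_assoc, mul_comm (Nat.card C), ← h2, card_mul_index]

theorem relIndex_dvd_index (N : Subgroup G) [N.Normal] (C : Subgroup G) :
    C.relIndex N ∣ C.index := by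
  have h2 := SolvBasic.card_sup_mul_card_inf (N := N) (H := C) le_normalizer_of_normal
  rw [sup_comm, inf_comm] at h2
  have h1 : Nat.card (C.subgroupOf N) = Nat.card (C ⊓ N : Subgroup G) := by
    rw [← inf_subgroupOf_right, Nat.card_congr (subgroupOfEquivOfLe inf_le_right).toEquiv]
  refine ⟨(C ⊔ N).index, ?_⟩
  have h5 := (C.subgroupOf N).card_mul_index
  rw [h1] at h5
  refine Nat.eq_of_mul_eq_mul_left (Nat.card_pos (α := C)) (Nat.eq_of_mul_eq_mul_left
    (Nat.card_pos (α := (C ⊓ N : Subgroup G))) ?_)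
  rw [C.card_mul_index, relIndex]
  calc _ = Nat.card (C ⊓ N : Subgroup G) * (Nat.card (C ⊔ N : Subgroup G) * (C ⊔ N).index) := by
        rw [card_mul_index]
    _ = Nat.card C * Nat.card N * (C ⊔ N).index := by rw [mul_comm (Nat.card C), ← h2]; ring
    _ = _ := by rw [← h5]; ring

theorem cyclic_of_squarefree [hN : Group.IsNilpotent G] (h : Squarefree (Nat.card G)) : IsCyclic G := by
  haveI := IsZGroup.of_squarefree h
  infer_instance

theorem cyclic_of_central (hc : Subgroup.center G = ⊤) (hmin : ∀ K : Subgroup G, K.Normal → K = ⊥ ∨ K = ⊤) :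
    IsCyclic G := by
  rcases subsingleton_or_nontrivial G with hs | hs
  · infer_instance
  obtain ⟨x, hx⟩ := exists_ne (1 : G)
  have hn : (zpowers x).Normal := ⟨fun y hy g => by
    rw [mem_center_iff.1 (hc ▸ mem_top y : y ∈ center G) g, mul_inv_cancel_right]; exact hy⟩
  rcases hmin _ hn with e | e
  · exact absurd (zpowers_eq_bot.1 e) hx
  · exact ⟨⟨x, fun y => (e ▸ mem_top y : y ∈ zpowers x)⟩⟩

/-- A group with square-free class sizes is supersolvable. -/
theorem sqf_supersolvable (hodd : OddChar.OddSolvable.{u}) {G : Type u} [Group G] [Finite G]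
    (hG : Sqf G) : Cfsg.IsSupersolvable G := by
  induction hn : Nat.card G using Nat.strong_induction_on generalizing G with
  | _ n ih =>
  subst hn
  rcases subsingleton_or_nontrivial G with hs | hs
  · exact SupSolv.of_subsingleton
  haveI hsol : Group.IsSolvable G := four_solvable hodd fun x h4 =>
    Nat.prime_two.not_isUnit (hG x 2 ((by norm_num : 2 * 2 = 4) ▸ h4))
  obtain ⟨N, ⟨hN, hN1⟩, hNmin⟩ := (Finite.wellFounded_of_trans_of_irrefl
      (fun a b : Subgroup G => a < b)).has_min {N : Subgroup G | N.Normal ∧ N ≠ ⊥}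
    ⟨⊤, inferInstance, top_ne_bot⟩
  haveI := hN
  have hmin : ∀ K : Subgroup G, K.Normal → K ≤ N → K = ⊥ ∨ K = N := fun K hK hle =>
    or_iff_not_imp_left.2 fun h1 => by_contra fun h2 => hNmin K ⟨hK, h1⟩ (lt_of_le_of_ne hle h2)
  have hab : ∀ a ∈ N, ∀ b ∈ N, a * b = b * a := by
    intro a ha b hb
    rcases hmin ⁅N, N⁆ inferInstance (Subgroup.commutator_le_self N) with e | e
    · have h1 := commutator_eq_bot_iff_le_centralizer.1 e ha
      exact (mem_centralizer_iff.1 h1 b hb).symm
    · exact absurd e (Subgroup.ne_bot_iff_exists_ne_one.1 hN1 |> fun _ h => by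
        have hd : _root_.commutator N = ⊤ := by
          apply map_injective N.subtype_injective
          rw [map_subtype_commutator, h, ← MonoidHom.range_eq_map, range_subtype]
        haveI : Nontrivial N := nontrivial_iff_ne_bot N |>.2 hN1
        exact (Group.IsSolvable.commutator_lt_top_of_nontrivial N).ne hd)
  suffices hcyc : IsCyclic N by
    refine SupSolv.of_cyclic_normal N (ih _ ?_ (hG.quot N) rfl)
    rw [← N.card_mul_index]
    exact lt_mul_of_one_lt_left (Nat.pos_of_ne_zero index_ne_zero_of_finite) (N.one_lt_card_iff_ne_bot.2 hN1)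
  haveI : IsMulCommutative N := ⟨⟨fun a b => Subtype.ext (hab a a.2 b b.2)⟩⟩
  set C := centralizer (N : Set G) with hC
  haveI hCn : C.Normal := inferInstance
  by_cases hCtop : C = ⊤
  · refine cyclic_of_central (eq_top_iff.2 fun a _ => mem_center_iff.2 fun b => Subtype.ext (hab b b.2 a a.2))
      fun K hK => ?_
    have hKn : (K.map N.subtype).Normal := ⟨fun y hy g => by
      have : g * y = y * g := (mem_centralizer_iff.1 (hCtop ▸ mem_top g : g ∈ C) y
        (map_subtype_le K hy)).symm
      rw [this, mul_inv_cancel_right]; exact hy⟩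
    rcases hmin _ hKn (map_subtype_le K) with e | e
    · exact Or.inl ((map_eq_bot_iff_of_injective _ N.subtype_injective).1 e)
    · right
      apply map_injective N.subtype_injective
      rw [e, ← MonoidHom.range_eq_map, range_subtype]
  have hNC : N ≤ C := fun a ha => mem_centralizer_iff.2 fun b hb => hab b hb a ha
  have hlt : Nat.card (G ⧸ N) < Nat.card G := by
    rw [← N.card_mul_index]
    exact lt_mul_of_one_lt_left (Nat.pos_of_ne_zero index_ne_zero_of_finite) (N.one_lt_card_iff_ne_bot.2 hN1)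
  have hss : Cfsg.IsSupersolvable (G ⧸ C) :=
    SupSolv.of_surjective (f := QuotientGroup.map N C (MonoidHom.id G) (by rwa [comap_id]))
      (fun y => by obtain ⟨g, rfl⟩ := QuotientGroup.mk_surjective y; exact ⟨(g : G ⧸ N), rfl⟩)
      (ih _ hlt (hG.quot N) rfl)
  haveI : Nontrivial (G ⧸ C) := QuotientGroup.nontrivial_iff.2 hCtop
  obtain ⟨Mb, q, hq, hMb, hMc⟩ := SupSolv.exists_prime_normal hss
  haveI := Fact.mk hq
  haveI := hMb
  obtain ⟨mb, hmb, hmb1⟩ := (ne_bot_iff_exists_ne_one (H := Mb)).1 (by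
    intro e; rw [e, card_bot] at hMc; exact hq.one_lt.ne hMc) |> fun ⟨⟨a, ha⟩, h⟩ =>
    (⟨a, ha, fun e => h (Subtype.ext e)⟩ : ∃ a ∈ Mb, a ≠ 1)
  obtain ⟨m, rfl⟩ := QuotientGroup.mk_surjective mb
  set M := Mb.comap (QuotientGroup.mk' C) with hM
  haveI : M.Normal := hMb.comap _
  haveI : (centralizer (M : Set G)).Normal := inferInstance
  have hKn : (N ⊓ centralizer (M : Set G)).Normal := inferInstance
  rcases hmin _ hKn inf_le_left with e | e
  swap
  · exfalso
    refine hmb1 ((QuotientGroup.eq_one_iff m).2 ?_)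
    refine mem_centralizer_iff.2 fun b hb => ?_
    exact (mem_centralizer_iff.1 ((e.ge hb).2) m hmb).symm
  haveI : Group.IsNilpotent N := by open scoped IsMulCommutative in exact inferInstance
  refine cyclic_of_squarefree ((hG m).squarefree_of_dvd (card_dvd_index_of_disjoint N _ ?_))
  rw [eq_bot_iff]
  intro x ⟨hxm, hxN⟩
  rw [← e]
  refine ⟨hxN, mem_centralizer_iff.2 fun y hy => ?_⟩
  have hgen : (⟨QuotientGroup.mk y, hy⟩ : Mb) ∈ zpowers (⟨QuotientGroup.mk m, hmb⟩ : Mb) :=
    mem_zpowers_of_prime_card hMc fun h => hmb1 (congrArg Subtype.val h)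
  obtain ⟨i, hi⟩ := mem_zpowers_iff.1 hgen
  have hc : (m ^ i)⁻¹ * y ∈ C := QuotientGroup.eq.1 (by
    rw [QuotientGroup.mk_zpow]; exact congrArg Subtype.val hi)
  have h1 : Commute x ((m ^ i)⁻¹ * y) := mem_centralizer_iff.1 hc x hxN
  have h2 : Commute x (m ^ i) := (show Commute x m from mem_centralizer_singleton_iff.1 hxm).zpow_right i
  have h3 := h2.mul_right h1
  rw [mul_inv_cancel_left] at h3
  exact h3.symm.eq

/-- The derived group when there is no normal subgroup of order prime to `p`. -/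
theorem sqf_commutator_core {p : ℕ} [hp : Fact p.Prime] (hG : Sqf G) (hss : Cfsg.IsSupersolvable G)
    (hO : Cfsg.pPrimeCore p G = ⊥) : Nat.card (_root_.commutator G) ≤ p := by
  rcases subsingleton_or_nontrivial G with hs | hs
  · exact (Finite.card_le_one_iff_subsingleton.2 inferInstance).trans hp.out.one_lt.le
  have le_core : ∀ K : Subgroup G, K.Normal → (Nat.card K).Coprime p → K = ⊥ := fun K hK hc => by
    rw [← le_bot_iff, ← hO]; exact le_sSup ⟨hK, hc⟩
  obtain ⟨R, r, hr, hRn, hRc, hmax⟩ := SupSolv.exists_max_prime_normal hss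
  have hrp : r = p := by
    by_contra hne
    have h := le_core R hRn (hRc ▸ (Nat.coprime_primes hr hp.out).2 hne)
    rw [h, card_bot] at hRc
    exact hr.one_lt.ne hRc
  subst hrp
  obtain ⟨P⟩ : Nonempty (Sylow r G) := inferInstance
  haveI hPn : (P : Subgroup G).Normal := SupSolv.sylow_normal_of_max hss r hmax P
  have hCP := Baer.centralizer_sylow_le hO P
  have hGP : _root_.commutator G ≤ (P : Subgroup G) := by
    haveI := SupSolv.commutator_nilpotent hss
    intro x hx
    obtain ⟨a, b, hab, ha, hb, ⟨k, hk⟩, hbp⟩ := PBasic.exists_pPart_mul (p := r) x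
    have hb1 : b = 1 := by
      have hbG : b ∈ _root_.commutator G := zpowers_le.2 hx hb
      by_contra hne
      obtain ⟨q, hq, hqb⟩ := Nat.exists_prime_and_dvd (fun e => hne (orderOf_eq_one_iff.1 e) :
        orderOf b ≠ 1)
      haveI := Fact.mk hq
      have hqr : q ≠ r := fun e => by
        subst e; exact hq.one_lt.ne' (Nat.eq_one_of_dvd_coprimes hbp hqb dvd_rfl)
      obtain ⟨Q⟩ : Nonempty (Sylow q (_root_.commutator G)) := inferInstance
      haveI : (Q : Subgroup (_root_.commutator G)).Normal :=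
        Q.normal_of_normalizerCondition Group.normalizerCondition_of_isNilpotent
      haveI : (Q : Subgroup (_root_.commutator G)).Characteristic := Q.characteristic_of_normal inferInstance
      have hQn : ((Q : Subgroup (_root_.commutator G)).map (_root_.commutator G).subtype).Normal :=
        inferInstance
      obtain ⟨j, hj⟩ := Q.isPGroup'.exists_card_eq
      have h1 := le_core _ hQn (by
        rw [card_map_of_injective (Subgroup.subtype_injective _), hj]
        exact Nat.Coprime.pow_left j ((Nat.coprime_primes hq hp.out).2 hqr))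
      rw [map_eq_bot_iff_of_injective _ (Subgroup.subtype_injective _)] at h1
      have h2 : q ∣ Nat.card (Q : Subgroup (_root_.commutator G)) := Q.dvd_card_of_dvd_card (by
        refine hqb.trans ?_
        have := orderOf_dvd_natCard (⟨b, hbG⟩ : _root_.commutator G)
        rwa [orderOf_mk] at this)
      rw [h1, card_bot] at h2
      exact hq.one_lt.ne' (Nat.dvd_one.1 h2)
    rw [← hab, hb1, mul_one]
    have hpa : IsPGroup r (zpowers a) := IsPGroup.of_card (n := k) (by rw [Nat.card_zpowers, hk])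
    exact (P.is_maximal' (hpa.to_sup_of_normal_right' P.isPGroup' (by
      rw [normalizer_eq_top]; exact le_top)) le_sup_right).le (mem_sup_left (mem_zpowers a))
  obtain ⟨A, hA⟩ := Subgroup.exists_right_complement'_of_coprime P.card_coprime_index
  have hsplit : ∀ g : G, ∃ x ∈ (P : Subgroup G), ∃ a ∈ A, x * a = g := fun g => by
    obtain ⟨⟨⟨x, hx⟩, ⟨a, ha⟩⟩, h⟩ := hA.2 g
    exact ⟨x, hx, a, ha, h⟩
  obtain ⟨j, hj⟩ := P.isPGroup'.exists_card_eq
  by_cases hA1 : A = ⊥
  · have htop : (P : Subgroup G) = ⊤ := eq_top_iff.2 fun g _ => by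
      obtain ⟨x, hx, a, ha, rfl⟩ := hsplit g
      rw [hA1, mem_bot] at ha
      rwa [ha, mul_one]
    have hGp : IsPGroup r G := IsPGroup.of_card (n := j) (by rw [← hj, htop, card_top])
    have := Breadth.vaughan_lee hGp 1 (fun x => ?_)
    · simpa using this
    · obtain ⟨i, hi⟩ := hGp.index (centralizer ({x} : Set G))
      rw [hi]
      refine Nat.pow_le_pow_right hp.out.pos ?_
      by_contra hgt
      exact hp.out.not_isUnit (hG x r (by rw [hi, ← pow_two]; exact pow_dvd_pow r (by omega)))
  -- the index in `P` of centralizers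
  have hidx : ∀ (D : Subgroup G) (g : G), D ≤ (P : Subgroup G) →
      centralizer ({g} : Set G) ⊓ (P : Subgroup G) = D → D.relIndex (P : Subgroup G) ∣ r := by
    intro D g hD he
    have h1 : D.relIndex (P : Subgroup G) ∣ (centralizer ({g} : Set G)).index := by
      rw [← he, inf_relIndex_right]
      exact relIndex_dvd_index _ _
    obtain ⟨i, -, hi⟩ := (Nat.dvd_prime_pow hp.out).1 (hj ▸ (relIndex_dvd_card D (P : Subgroup G)) :
      D.relIndex (P : Subgroup G) ∣ r ^ j)
    rw [hi] at h1 ⊢
    refine (pow_dvd_pow r (show i ≤ 1 from ?_)).trans (by rw [pow_one])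
    by_contra hgt
    exact hp.out.not_isUnit (hG g r ((by rw [← pow_two]; exact pow_dvd_pow r (by omega) :
      r * r ∣ r ^ i).trans h1))
  have hAc : ∀ a ∈ A, ∀ b ∈ A, a * b = b * a := by
    intro a ha b hb
    have h1 : a * b * a⁻¹ * b⁻¹ ∈ (P : Subgroup G) ⊓ A :=
      ⟨hGP (commutator_mem_commutator (mem_top a) (mem_top b)),
        mul_mem (mul_mem (mul_mem ha hb) (A.inv_mem ha)) (A.inv_mem hb)⟩
    rw [disjoint_iff.1 hA.disjoint, mem_bot, mul_inv_eq_one, mul_inv_eq_iff_eq_mul] at h1
    exact h1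
  -- a nontrivial element of the complement
  have key : ∀ a ∈ A, a ≠ 1 → (centralizer ({a} : Set G) ⊓ (P : Subgroup G)).relIndex (P : Subgroup G) = r := by
    intro a ha ha1
    rcases (Nat.dvd_prime hp.out).1 (hidx _ a inf_le_right rfl) with e | e
    · refine absurd ?_ ha1
      have h1 : a ∈ (P : Subgroup G) ⊓ A := ⟨hCP (mem_centralizer_iff.2 fun x hx =>
        mem_centralizer_singleton_iff.1 ((relIndex_eq_one.1 e) hx).1), ha⟩
      rwa [disjoint_iff.1 hA.disjoint, mem_bot] at h1
    · exact e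
  have hPc : ∀ x ∈ (P : Subgroup G), ∀ y ∈ (P : Subgroup G), x * y = y * x := by
    obtain ⟨⟨a, ha⟩, hane⟩ := ne_bot_iff_exists_ne_one.1 hA1
    have ha1 : a ≠ 1 := fun e => hane (Subtype.ext e)
    set C := centralizer ({a} : Set G) ⊓ (P : Subgroup G) with hC
    have hCr := key a ha ha1
    have hcop : (orderOf a).Coprime r := by
      have h1 : orderOf a ∣ (P : Subgroup G).index := by
        rw [hA.symm.index_eq_card]
        have := orderOf_dvd_natCard (⟨a, ha⟩ : A)
        rwa [orderOf_mk] at this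
      exact Nat.Coprime.coprime_dvd_left h1 ((hp.out.coprime_iff_not_dvd).2 P.not_dvd_index).symm
    -- C is abelian
    have hCab : ∀ c ∈ C, ∀ d ∈ C, c * d = d * c := by
      intro c hc d hd
      have hac : Commute c a := mem_centralizer_singleton_iff.1 hc.1
      set D := centralizer ({c * a} : Set G) ⊓ (P : Subgroup G) with hD
      have hDC : D ≤ centralizer ({c} : Set G) ⊓ C := by
        intro y hy
        have h1 : Commute y (c * a) := mem_centralizer_singleton_iff.1 hy.1
        obtain ⟨i, hi⟩ := P.isPGroup' ⟨c, hc.2⟩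
        have hci : c ^ r ^ i = 1 := congrArg Subtype.val hi
        have h2 : Commute y (a ^ r ^ i) := by
          have := h1.pow_right (r ^ i)
          rwa [hac.mul_pow, hci, one_mul] at this
        obtain ⟨t, ht⟩ := exists_pow_eq_self_of_coprime (x := a) (n := r ^ i) (hcop.pow_right i).symm
        have h3 : Commute y a := ht ▸ h2.pow_right t
        have h4 : Commute y c := by
          have := h1.mul_right h3.inv_right
          rwa [mul_inv_cancel_right] at this
        exact ⟨mem_centralizer_singleton_iff.2 h4.eq, mem_centralizer_singleton_iff.2 h3.eq, hy.2⟩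
      have hle : D ≤ C := hDC.trans inf_le_right
      have h5 := relIndex_mul_relIndex D C (P : Subgroup G) hle inf_le_right
      rw [hCr] at h5
      have h6 : D.relIndex C = 1 := by
        have h7 := hidx D _ inf_le_right rfl
        rw [← h5] at h7
        exact Nat.dvd_one.1 (Nat.dvd_of_mul_dvd_mul_right hp.out.pos (by rwa [one_mul]))
      exact (mem_centralizer_singleton_iff.1 (hDC (relIndex_eq_one.1 h6 hd)).1).symm
    haveI hCn : (C.subgroupOf (P : Subgroup G)).Normal := by
      apply Subgroup.normal_of_index_eq_minFac_card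
      rw [show (C.subgroupOf (P : Subgroup G)).index = r from hCr, hj]
      rcases Nat.eq_zero_or_pos j with rfl | hjpos
      · have := relIndex_dvd_card C (P : Subgroup G)
        rw [hCr, hj, pow_zero, Nat.dvd_one] at this
        exact absurd this hp.out.ne_one
      rw [hp.out.pow_minFac hjpos.ne']
    obtain ⟨x, hx, hxC⟩ := SetLike.not_le_iff_exists.1 (fun h : (P : Subgroup G) ≤ C =>
      hp.out.ne_one (by rw [← hCr, relIndex_eq_one.2 h]))
    set w := x⁻¹ * (a * x * a⁻¹) with hw
    have hwP : w ∈ (P : Subgroup G) := mul_mem (inv_mem hx) (hPn.conj_mem x hx a)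
    have hwc : ∀ c ∈ C, w * c = c * w := by
      intro c hc
      have hxc : x * c * x⁻¹ ∈ C := hCn.conj_mem ⟨c, hc.2⟩ hc ⟨x, hx⟩
      have h1 : a * (x * c * x⁻¹) * a⁻¹ = x * c * x⁻¹ := by
        rw [← mem_centralizer_singleton_iff.1 hxc.1, mul_inv_cancel_right]
      have h2 : a * c * a⁻¹ = c := by rw [← mem_centralizer_singleton_iff.1 hc.1, mul_inv_cancel_right]
      have h3 : a * x * a⁻¹ * c * (a * x * a⁻¹)⁻¹ = x * c * x⁻¹ := by
        conv_lhs => rw [← h2]
        rw [← h1]; group
      calc w * c = x⁻¹ * (a * x * a⁻¹ * c * (a * x * a⁻¹)⁻¹) * (a * x * a⁻¹) := by rw [hw]; group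
        _ = c * w := by rw [h3, hw]; group
    have hwC : w ∉ C := by
      intro hwC
      have hn : ∀ n : ℕ, a ^ n * x * (a ^ n)⁻¹ = x * w ^ n := by
        intro n
        induction n with
        | zero => simp
        | succ n ih =>
          calc a ^ (n + 1) * x * (a ^ (n + 1))⁻¹ = a * (a ^ n * x * (a ^ n)⁻¹) * a⁻¹ := by
                rw [pow_succ']; group
            _ = (a * x * a⁻¹) * (a * w ^ n * a⁻¹) := by rw [ih]; group
            _ = x * w * w ^ n := by
                rw [← mem_centralizer_singleton_iff.1 ((pow_mem hwC n)).1, mul_inv_cancel_right, hw]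
                group
            _ = _ := by rw [pow_succ' w, mul_assoc]
      have h1 := hn (orderOf a)
      rw [pow_orderOf_eq_one, one_mul, inv_one, mul_one, left_eq_mul] at h1
      obtain ⟨i, hi⟩ := P.isPGroup' ⟨w, hwP⟩
      have hw1 : w = 1 := orderOf_eq_one_iff.1 (Nat.eq_one_of_dvd_coprimes (hcop.pow_right i)
        (orderOf_dvd_of_pow_eq_one h1) (orderOf_dvd_of_pow_eq_one (congrArg Subtype.val hi : w ^ r ^ i = 1)))
      refine hxC ⟨mem_centralizer_singleton_iff.2 ?_, hx⟩
      rw [hw, inv_mul_eq_one] at hw1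
      exact (eq_mul_inv_iff_mul_eq.1 hw1)
    set K := centralizer (C : Set G) ⊓ (P : Subgroup G) with hK
    have hCK : C ≤ K := fun c hc => ⟨mem_centralizer_iff.2 fun d hd => hCab d hd c hc, hc.2⟩
    have hwK : w ∈ K := ⟨mem_centralizer_iff.2 fun c hc => (hwc c hc).symm, hwP⟩
    have hKP : (P : Subgroup G) ≤ K := by
      have h1 := relIndex_mul_relIndex C K (P : Subgroup G) hCK inf_le_right
      rw [hCr] at h1
      rcases (Nat.dvd_prime hp.out).1 (Dvd.intro_left _ h1 : K.relIndex (P : Subgroup G) ∣ r) with e | e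
      · exact relIndex_eq_one.1 e
      · rw [e, Nat.mul_eq_right hp.out.ne_zero] at h1
        exact absurd (relIndex_eq_one.1 h1 hwK) hwC
    -- P is generated by C and w
    set L := centralizer ({w} : Set G) ⊓ (P : Subgroup G) with hL
    have hLP : (P : Subgroup G) ≤ L := by
      have hCL : C ≤ L := fun c hc => ⟨mem_centralizer_singleton_iff.2 (hwc c hc).symm, hc.2⟩
      have h1 := relIndex_mul_relIndex C L (P : Subgroup G) hCL inf_le_right
      rw [hCr] at h1
      rcases (Nat.dvd_prime hp.out).1 (Dvd.intro_left _ h1 : L.relIndex (P : Subgroup G) ∣ r) with e | e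
      · exact relIndex_eq_one.1 e
      · rw [e, Nat.mul_eq_right hp.out.ne_zero] at h1
        exact absurd (relIndex_eq_one.1 h1 ⟨mem_centralizer_singleton_iff.2 rfl, hwP⟩) hwC
    intro y hy z hz
    set M := centralizer ({y} : Set G) ⊓ (P : Subgroup G) with hM
    have hCM : C ≤ M := fun c hc => ⟨mem_centralizer_singleton_iff.2
      (mem_centralizer_iff.1 (hKP hy).1 c hc), hc.2⟩
    have h1 := relIndex_mul_relIndex C M (P : Subgroup G) hCM inf_le_right
    rw [hCr] at h1
    rcases (Nat.dvd_prime hp.out).1 (Dvd.intro_left _ h1 : M.relIndex (P : Subgroup G) ∣ r) with e | e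
    · exact (mem_centralizer_singleton_iff.1 ((relIndex_eq_one.1 e) hz).1).symm
    · rw [e, Nat.mul_eq_right hp.out.ne_zero] at h1
      refine absurd (relIndex_eq_one.1 h1 (?_ : w ∈ M)) hwC
      exact ⟨mem_centralizer_singleton_iff.2 (mem_centralizer_singleton_iff.1 (hLP hy).1).symm, hwP⟩
  -- the commutator maps
  let θ : G → ((P : Subgroup G) →* G) := fun a => MonoidHom.mk' (fun x => a * x * a⁻¹ * (x : G)⁻¹)
    (fun x y => by
      have e := hPc (a * y * a⁻¹ * (y : G)⁻¹) (mul_mem (hPn.conj_mem y y.2 a) (inv_mem y.2)) ((x : G)⁻¹) (inv_mem x.2)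
      rw [coe_mul]
      calc a * (x * y : G) * a⁻¹ * (x * y : G)⁻¹ = a * x * a⁻¹ * (a * y * a⁻¹ * (y : G)⁻¹ * (x : G)⁻¹) := by group
        _ = a * x * a⁻¹ * ((x : G)⁻¹ * (a * y * a⁻¹ * (y : G)⁻¹)) := by rw [e]
        _ = _ := by group)
  have θ_mem : ∀ a x, θ a x ∈ (P : Subgroup G) := fun a x => mul_mem (hPn.conj_mem x x.2 a) (inv_mem x.2)
  have hWP : ∀ a, (θ a).range ≤ (P : Subgroup G) := fun a => by rintro _ ⟨x, rfl⟩; exact θ_mem a x
  have hker : ∀ a, (θ a).ker = (centralizer ({a} : Set G) ⊓ (P : Subgroup G)).subgroupOf (P : Subgroup G) :=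
    fun a => by
      ext x
      rw [MonoidHom.mem_ker, mem_subgroupOf, mem_inf, mem_centralizer_singleton_iff]
      change a * x * a⁻¹ * (x : G)⁻¹ = 1 ↔ _
      rw [mul_inv_eq_one, mul_inv_eq_iff_eq_mul]
      exact ⟨fun h => ⟨h.symm, x.2⟩, fun h => h.1.symm⟩
  have hcard : ∀ a ∈ A, a ≠ 1 → Nat.card (θ a).range = r := fun a ha ha1 => by
    rw [← index_ker, hker]; exact key a ha ha1
  -- invariance
  have hinv : ∀ a ∈ A, ∀ b ∈ A, ∀ y ∈ (θ b).range, a * y * a⁻¹ ∈ (θ b).range := by
    rintro a ha b hb _ ⟨x, rfl⟩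
    refine ⟨⟨a * x * a⁻¹, hPn.conj_mem x x.2 a⟩, ?_⟩
    change b * (a * x * a⁻¹) * b⁻¹ * (a * x * a⁻¹)⁻¹ = a * (b * x * b⁻¹ * (x : G)⁻¹) * a⁻¹
    have e := hAc a ha b hb
    calc b * (a * x * a⁻¹) * b⁻¹ * (a * x * a⁻¹)⁻¹ = (b * a) * x * (b * a)⁻¹ * (a * x * a⁻¹)⁻¹ := by group
      _ = (a * b) * x * (a * b)⁻¹ * (a * x * a⁻¹)⁻¹ := by rw [e]
      _ = _ := by group
  obtain ⟨⟨a₀, ha₀⟩, hane⟩ := ne_bot_iff_exists_ne_one.1 hA1
  have ha₀1 : a₀ ≠ 1 := fun e => hane (Subtype.ext e)
  set W := (θ a₀).range with hW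
  have hsame : ∀ a ∈ A, (θ a).range ≤ W := by
    intro a ha
    by_cases ha1 : a = 1
    · rintro _ ⟨x, rfl⟩
      simp [θ, ha1]
    by_contra hne
    have hinf : (θ a).range ⊓ W = ⊥ := by
      haveI : Fact (Nat.card (θ a).range).Prime := ⟨(hcard a ha ha1).symm ▸ hp.out⟩
      rcases eq_bot_or_eq_top_of_prime_card (W.subgroupOf (θ a).range) with e | e
      · rw [subgroupOf_eq_bot, disjoint_iff] at e; rwa [inf_comm]
      · exact absurd (subgroupOf_eq_top.1 e) hne
    -- each element fixes the other image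
    have hfix : ∀ b ∈ A, ∀ c ∈ A, (θ b).range ⊓ (θ c).range = ⊥ → ∀ y ∈ (θ c).range, b * y * b⁻¹ = y := by
      intro b hb c hc hbc y hy
      have h1 : b * y * b⁻¹ * y⁻¹ ∈ (θ b).range ⊓ (θ c).range :=
        ⟨⟨⟨y, hWP c hy⟩, rfl⟩, mul_mem (hinv b hb c hc y hy) ((θ c).range.inv_mem hy)⟩
      rw [hbc, mem_bot, mul_inv_eq_one] at h1
      exact h1
    have hf1 := hfix a ha a₀ ha₀ hinf
    have hf0 := hfix a₀ ha₀ a ha (by rwa [inf_comm])
    have hprod1 : ∀ (y : G) (hy : y ∈ (θ a).range), θ (a * a₀) ⟨y, hWP a hy⟩ = a * y * a⁻¹ * y⁻¹ := fun y hy => by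
      change (a * a₀) * y * (a * a₀)⁻¹ * y⁻¹ = _
      rw [show (a * a₀) * y * (a * a₀)⁻¹ = a * (a₀ * y * a₀⁻¹) * a⁻¹ by group, hf0 y hy]
    have hprod0 : ∀ (y : G) (hy : y ∈ W), θ (a * a₀) ⟨y, hWP a₀ hy⟩ = a₀ * y * a₀⁻¹ * y⁻¹ := fun y hy => by
      change (a * a₀) * y * (a * a₀)⁻¹ * y⁻¹ = _
      rw [show (a * a₀) * y * (a * a₀)⁻¹ = a * (a₀ * y * a₀⁻¹) * a⁻¹ by group,
        hf1 _ (hinv a₀ ha₀ a₀ ha₀ y hy)]
    -- a generator of each image is moved by its own element
    have hmoved : ∀ b ∈ A, b ≠ 1 → ∃ y ∈ (θ b).range, b * y * b⁻¹ ≠ y := by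
      intro b hb hb1
      by_contra hno
      push Not at hno
      refine hp.out.ne_one ?_
      rw [← key b hb hb1, relIndex_eq_one]
      intro x hx
      refine ⟨mem_centralizer_singleton_iff.2 ?_, hx⟩
      have hmem : b * x * b⁻¹ * x⁻¹ ∈ (θ b).range := ⟨⟨x, hx⟩, rfl⟩
      set v := b * x * b⁻¹ * x⁻¹ with hv
      have hn : ∀ n : ℕ, b ^ n * x * (b ^ n)⁻¹ = v ^ n * x := by
        intro n
        induction n with
        | zero => simp
        | succ n ih =>
          calc b ^ (n + 1) * x * (b ^ (n + 1))⁻¹ = b * (b ^ n * x * (b ^ n)⁻¹) * b⁻¹ := by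
                rw [pow_succ']; group
            _ = (b * v ^ n * b⁻¹) * (b * x * b⁻¹) := by rw [ih]; group
            _ = v ^ n * (v * x) := by
                rw [hno _ (pow_mem hmem n)]
                congr 1
                rw [hv]; group
            _ = v ^ n * v * x := (mul_assoc _ _ _).symm
            _ = _ := by rw [← pow_succ]
      have h1 := hn (orderOf b)
      rw [pow_orderOf_eq_one, one_mul, inv_one, mul_one, right_eq_mul] at h1
      obtain ⟨i, hi⟩ := P.isPGroup' ⟨v, θ_mem b ⟨x, hx⟩⟩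
      have hv1 : v = 1 := orderOf_eq_one_iff.1 (Nat.eq_one_of_dvd_coprimes
        ((Nat.Coprime.coprime_dvd_left (show orderOf b ∣ (P : Subgroup G).index by
          rw [hA.symm.index_eq_card]
          have := orderOf_dvd_natCard (⟨b, hb⟩ : A)
          rwa [orderOf_mk] at this) ((hp.out.coprime_iff_not_dvd).2 P.not_dvd_index).symm).pow_right i)
        (orderOf_dvd_of_pow_eq_one h1) (orderOf_dvd_of_pow_eq_one (congrArg Subtype.val hi : v ^ r ^ i = 1)))
      rw [hv, mul_inv_eq_one, mul_inv_eq_iff_eq_mul] at hv1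
      exact hv1.symm
    by_cases h01 : a * a₀ = 1
    · refine hne ?_
      obtain ⟨y, hy, hym⟩ := hmoved a₀ ha₀ ha₀1
      exfalso
      refine hym ?_
      have h1 := hf1 y hy
      rw [eq_inv_of_mul_eq_one_left h01, inv_inv] at h1
      calc a₀ * y * a₀⁻¹ = a₀ * (a₀⁻¹ * y * a₀) * a₀⁻¹ := by rw [h1]
        _ = y := by group
    obtain ⟨y, hy, hym⟩ := hmoved a₀ ha₀ ha₀1
    obtain ⟨z, hz, hzm⟩ := hmoved a ha ha1
    set V := (θ (a * a₀)).range
    have hy' : a₀ * y * a₀⁻¹ * y⁻¹ ∈ V := ⟨_, hprod0 y hy⟩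
    have hz' : a * z * a⁻¹ * z⁻¹ ∈ V := ⟨_, hprod1 z hz⟩
    haveI : Fact (Nat.card V).Prime := ⟨(hcard _ (mul_mem ha ha₀) h01).symm ▸ hp.out⟩
    rcases eq_bot_or_eq_top_of_prime_card (W.subgroupOf V) with e | e
    · rw [subgroupOf_eq_bot, disjoint_iff] at e
      have : a₀ * y * a₀⁻¹ * y⁻¹ ∈ W ⊓ V := ⟨mul_mem (hinv a₀ ha₀ a₀ ha₀ y hy) (W.inv_mem hy), hy'⟩
      rw [e, mem_bot, mul_inv_eq_one] at this
      exact hym this
    · have : a * z * a⁻¹ * z⁻¹ ∈ (θ a).range ⊓ W :=
        ⟨mul_mem (hinv a ha a ha z hz) ((θ a).range.inv_mem hz), subgroupOf_eq_top.1 e hz'⟩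
      rw [hinf, mem_bot, mul_inv_eq_one] at this
      exact hzm this
  have hWn : W.Normal := ⟨fun y hy g => by
    obtain ⟨x, hx, a, ha, rfl⟩ := hsplit g
    have h1 := hinv a ha a₀ ha₀ y hy
    rw [show x * a * y * (x * a)⁻¹ = x * (a * y * a⁻¹) * x⁻¹ by group,
      hPc x hx _ (hWP a₀ h1), mul_inv_cancel_right]
    exact h1⟩
  have hle : _root_.commutator G ≤ W := by
    rw [_root_.commutator_def, commutator_le]
    intro g₁ _ g₂ _
    obtain ⟨x, hx, a, ha, rfl⟩ := hsplit g₁
    obtain ⟨y, hy, b, hb, rfl⟩ := hsplit g₂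
    rw [← QuotientGroup.eq_one_iff (N := W)]
    set f := QuotientGroup.mk' W with hf
    have hxb : ∀ c ∈ A, ∀ z ∈ (P : Subgroup G), Commute (f c) (f z) := fun c hc z hz => by
      have h1 : f (c * z * c⁻¹ * z⁻¹) = 1 := (QuotientGroup.eq_one_iff _).2 (hsame c hc ⟨⟨z, hz⟩, rfl⟩)
      rw [map_mul, map_mul, map_mul, map_inv, map_inv, mul_inv_eq_one, mul_inv_eq_iff_eq_mul] at h1
      exact h1
    have hc : Commute (f (x * a)) (f (y * b)) := by
      rw [map_mul, map_mul]
      refine Commute.mul_left (Commute.mul_right ?_ ?_) (Commute.mul_right ?_ ?_)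
      · rw [Commute, SemiconjBy, ← map_mul, ← map_mul, hPc x hx y hy]
      · exact (hxb b hb x hx).symm
      · exact hxb a ha y hy
      · rw [Commute, SemiconjBy, ← map_mul, ← map_mul, hAc a ha b hb]
    change f ⁅x * a, y * b⁆ = 1
    rw [map_commutatorElement, commutatorElement_eq_one_iff_mul_comm]
    exact hc.eq
  exact (Nat.le_of_dvd Nat.card_pos (card_dvd_of_le hle)).trans (hcard a₀ ha₀ ha₀1).le

/-- The derived group has square-free order. -/
theorem sqf_commutator (hG : Sqf G) (hss : Cfsg.IsSupersolvable G) :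
    Squarefree (Nat.card (_root_.commutator G)) := by
  refine Nat.squarefree_iff_prime_squarefree.2 fun p hp hpp => ?_
  haveI := Fact.mk hp
  set R := Cfsg.pPrimeCore p G
  haveI : R.Normal := FittingCores.pPrimeCore_normal p
  have hle := sqf_commutator_core (hG.quot R) (SupSolv.quotient hss R)
    (PBasic.pPrimeCore_quotient_pPrimeCore p G)
  have hmap : (_root_.commutator G).map (QuotientGroup.mk' R) = _root_.commutator (G ⧸ R) := by
    rw [commutator_def, commutator_def, map_commutator,
      map_top_of_surjective _ (QuotientGroup.mk'_surjective R)]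
  set f := (QuotientGroup.mk' R).subgroupMap (_root_.commutator G)
  have hker : Nat.card f.ker ∣ Nat.card R := by
    rw [← card_map_of_injective (Subgroup.subtype_injective (_root_.commutator G))]
    refine card_dvd_of_le ?_
    rintro _ ⟨x, hx, rfl⟩
    exact (QuotientGroup.eq_one_iff _).1 (congrArg Subtype.val hx)
  have h1 : p * p ∣ Nat.card f.ker * Nat.card ((_root_.commutator G).map (QuotientGroup.mk' R)) := by
    rwa [← Nat.card_congr (QuotientGroup.quotientKerEquivOfSurjective f
      (MonoidHom.subgroupMap_surjective _ _)).toEquiv, ← index, card_mul_index]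
  have hcop : (p * p).Coprime (Nat.card f.ker) := by
    have h2 := (FittingCores.pPrimeCore_coprime (G := G) p).coprime_dvd_left hker
    exact (h2.symm.mul_left h2.symm)
  have h3 := Nat.le_of_dvd Nat.card_pos (hcop.dvd_of_dvd_mul_left h1)
  rw [hmap] at h3
  have := hp.one_lt
  nlinarith

/-- S4130 modulo the odd order theorem. -/
theorem squarefree_classes (h : OddChar.OddSolvable.{u}) (hG : Sqf G) :
    Cfsg.IsSupersolvable G ∧ (Cfsg.fittingSubgroup G).Normal ∧
    (∀ _h : (Cfsg.fittingSubgroup G).Normal, IsCyclic (G ⧸ Cfsg.fittingSubgroup G) ∧ Squarefree (Cfsg.fittingSubgroup G).index) ∧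
    IsCyclic (_root_.commutator G) ∧ Squarefree (Nat.card (_root_.commutator G)) ∧
    Subgroup.upperCentralSeries ↥(Cfsg.fittingSubgroup G) 2 = ⊤ ∧ _root_.commutator ↥(_root_.commutator G) = ⊥ := by
  have hss := sqf_supersolvable h hG
  have hsq := sqf_commutator hG hss
  set G' := _root_.commutator G with hG'
  set F := Cfsg.fittingSubgroup G with hF
  haveI hnil : Group.IsNilpotent G' := SupSolv.commutator_nilpotent hss
  haveI hcyc : IsCyclic G' := cyclic_of_squarefree hsq
  haveI hFn : F.Normal := Cfsg.Agent.Components.fittingSubgroup_normal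
  haveI hFnil : Group.IsNilpotent F := Cfsg.Agent.FittingCores.fitting_nilpotent
  have hle : ∀ K : Subgroup G, K.Normal → Group.IsNilpotent K → K ≤ F := fun K h1 h2 => le_sSup ⟨h1, h2⟩
  have hG'F : G' ≤ F := hle _ inferInstance hnil
  -- the derived group is central in the Fitting subgroup
  have hcen : ∀ x ∈ F, ∀ c ∈ G', x * c = c * x := by
    let K : Subgroup G' := (center F).map F.subtype |>.subgroupOf G'
    suffices hK : K = ⊤ by
      intro x hx c hc
      obtain ⟨z, hz, he⟩ := mem_subgroupOf.1 (hK ▸ mem_top (⟨c, hc⟩ : G') : (⟨c, hc⟩ : G') ∈ K)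
      have := congrArg Subtype.val (mem_center_iff.1 hz ⟨x, hx⟩)
      rw [coe_mul, coe_mul] at this
      rwa [show (z : G) = c from he] at this
    by_contra hK
    obtain ⟨q, hq, hqd⟩ := Nat.exists_prime_and_dvd (fun e => hK (index_eq_one.1 e))
    haveI := Fact.mk hq
    obtain ⟨c, hc⟩ := exists_prime_orderOf_dvd_card' (G := G') q (hqd.trans K.index_dvd_card)
    set Z := (zpowers c).map G'.subtype with hZ
    have hZn : Z.Normal := by
      classical
      haveI := Fintype.ofFinite G'
      have hall : ∀ y : G', y ^ q = 1 → y ∈ zpowers c := by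
        intro y hy
        have hle : (Finset.univ.filter fun z : G' => z ^ q = 1).card ≤ q :=
          IsCyclic.card_pow_eq_one_le hq.pos
        have hsub : (Finset.univ.filter fun z : G' => z ∈ zpowers c) ⊆
            Finset.univ.filter fun z : G' => z ^ q = 1 := fun z hz => by
          obtain ⟨i, rfl⟩ := mem_zpowers_iff.1 (Finset.mem_filter.1 hz).2
          refine Finset.mem_filter.2 ⟨Finset.mem_univ _, ?_⟩
          rw [← zpow_natCast, ← zpow_mul, mul_comm, zpow_mul, zpow_natCast, ← hc, pow_orderOf_eq_one, one_zpow]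
        have hcz : (Finset.univ.filter fun z : G' => z ∈ zpowers c).card = q := by
          rw [← Fintype.card_subtype, ← Nat.card_eq_fintype_card]
          exact (Nat.card_zpowers c).trans hc
        have := Finset.eq_of_subset_of_card_le hsub (hle.trans hcz.ge)
        exact (Finset.mem_filter.1 (this.ge (Finset.mem_filter.2 ⟨Finset.mem_univ _, hy⟩))).2
      refine ⟨?_⟩
      rintro _ ⟨y, hy, rfl⟩ g
      have hmem : g * (y : G) * g⁻¹ ∈ G' := (inferInstance : G'.Normal).conj_mem _ y.2 g
      refine ⟨⟨_, hmem⟩, hall _ (Subtype.ext ?_), rfl⟩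
      obtain ⟨i, hi⟩ := mem_zpowers_iff.1 hy
      have hyq : y ^ q = 1 := by
        rw [← hi, ← zpow_natCast, ← zpow_mul, mul_comm, zpow_mul, zpow_natCast, ← hc, pow_orderOf_eq_one, one_zpow]
      rw [coe_pow]
      show (g * (y : G) * g⁻¹) ^ q = 1
      rw [conj_pow, ← coe_pow, hyq, coe_one, mul_one, mul_inv_cancel]
    have hZF : Z ≤ F := (map_subtype_le _).trans hG'F
    haveI : (Z.subgroupOf F).Normal := normal_subgroupOf
    have hne : Z.subgroupOf F ≠ ⊥ := by
      rw [Ne, subgroupOf_eq_bot, disjoint_iff, inf_eq_left.2 hZF, hZ,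
        map_eq_bot_iff_of_injective _ G'.subtype_injective, zpowers_eq_bot]
      rintro rfl
      rw [orderOf_one] at hc
      exact hq.one_lt.ne hc
    have hmeet := SolvStruct.inf_center_ne_bot (N := Z.subgroupOf F) hne
    obtain ⟨⟨y, hyZ, hyc⟩, hy1⟩ := ne_bot_iff_exists_ne_one.1 hmeet
    obtain ⟨y', hy', hye⟩ := mem_subgroupOf.1 hyZ
    have hy'1 : y' ≠ 1 := fun e => hy1 (Subtype.ext (Subtype.ext (by
      rw [e] at hye; exact hye.symm)))
    have hcK : c ∈ K := by
      have hgen : zpowers y' = zpowers c := by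
        have hcard : Nat.card (zpowers c) = q := by rw [Nat.card_zpowers, hc]
        haveI : Fact (Nat.card (zpowers c)).Prime := ⟨hcard ▸ hq⟩
        refine le_antisymm (zpowers_le.2 hy') ?_
        rcases eq_bot_or_eq_top_of_prime_card ((zpowers y').subgroupOf (zpowers c)) with e | e
        · rw [subgroupOf_eq_bot, disjoint_iff, inf_eq_left.2 (zpowers_le.2 hy'), zpowers_eq_bot] at e
          exact absurd e hy'1
        · exact subgroupOf_eq_top.1 e
      have hy'K : y' ∈ K := mem_subgroupOf.2 ⟨y, hyc, hye.symm⟩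
      exact (zpowers_le.2 hy'K) (hgen.ge (mem_zpowers c))
    have h1 : q * q ∣ Nat.card G' := by
      rw [← K.card_mul_index]
      refine Nat.mul_dvd_mul ?_ hqd
      have := orderOf_dvd_natCard (⟨c, hcK⟩ : K)
      rwa [orderOf_mk, hc] at this
    exact hq.not_isUnit (hsq q h1)
  refine ⟨hss, hFn, fun _ => ?_, hcyc, hsq, ?_, ?_⟩
  · obtain ⟨w, hw⟩ := hcyc.exists_generator
    have hFC : centralizer ({(w : G)} : Set G) = F := by
      have he : centralizer ({(w : G)} : Set G) = centralizer (G' : Set G) := by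
        refine le_antisymm (fun g hg => mem_centralizer_iff.2 fun c hc => ?_)
          (centralizer_le (by simp))
        obtain ⟨i, hi⟩ := mem_zpowers_iff.1 (hw ⟨c, hc⟩)
        have hcw : (w : G) ^ i = c := congrArg Subtype.val hi
        rw [← hcw]
        exact ((show Commute g (w : G) from mem_centralizer_singleton_iff.1 hg).zpow_right i).symm.eq
      rw [he]
      refine le_antisymm (hle _ inferInstance ?_) fun x hx => mem_centralizer_iff.2 fun c hc => (hcen x hx c hc).symm
      set C := centralizer (G' : Set G)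
      haveI : IsMulCommutative (C ⧸ G'.subgroupOf C) := ⟨⟨fun a b => by
          obtain ⟨x, rfl⟩ := QuotientGroup.mk_surjective a
          obtain ⟨y, rfl⟩ := QuotientGroup.mk_surjective b
          rw [← QuotientGroup.mk_mul, ← QuotientGroup.mk_mul, QuotientGroup.eq, mem_subgroupOf]
          simp only [coe_mul, coe_inv, mul_inv_rev]
          have := commutator_mem_commutator (mem_top ((y : G)⁻¹)) (mem_top ((x : G)⁻¹))
          rw [commutatorElement_def, inv_inv, inv_inv, mul_assoc _ (y : G)] at this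
          rwa [hG', _root_.commutator_def]⟩⟩
      haveI : Group.IsNilpotent (C ⧸ G'.subgroupOf C) := by open scoped IsMulCommutative in exact inferInstance
      refine Subgroup.isNilpotent_of_ker_le_center (QuotientGroup.mk' (G'.subgroupOf C)) ?_
      rw [QuotientGroup.ker_mk']
      intro c hc
      exact mem_center_iff.2 fun g => Subtype.ext (mem_centralizer_iff.1 g.2 c hc).symm
    have hsF : Squarefree F.index := hFC ▸ hG w
    refine ⟨?_, hsF⟩
    haveI : IsMulCommutative (G ⧸ F) := ⟨⟨fun a b => by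
      obtain ⟨x, rfl⟩ := QuotientGroup.mk_surjective a
      obtain ⟨y, rfl⟩ := QuotientGroup.mk_surjective b
      rw [← QuotientGroup.mk_mul, ← QuotientGroup.mk_mul, QuotientGroup.eq]
      have h1 : ⁅y⁻¹, x⁻¹⁆ ∈ F := hG'F (commutator_mem_commutator (mem_top _) (mem_top _))
      rw [commutatorElement_def, inv_inv, inv_inv] at h1
      simpa [mul_assoc] using h1⟩⟩
    haveI : Group.IsNilpotent (G ⧸ F) := by open scoped IsMulCommutative in exact inferInstance
    exact cyclic_of_squarefree hsF
  · rw [eq_top_iff]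
    intro x _
    rw [Subgroup.mem_upperCentralSeries_succ_iff]
    intro y
    rw [Subgroup.upperCentralSeries_one, mem_center_iff]
    intro z
    refine Subtype.ext ?_
    exact hcen z z.2 _ (commutator_mem_commutator (mem_top (x : G)) (mem_top (y : G)))
  · rw [_root_.commutator_def, commutator_eq_bot_iff_le_centralizer]
    intro a _
    refine mem_centralizer_iff.2 fun b _ => ?_
    letI := IsCyclic.commGroup (α := G')
    exact mul_comm b a

end Cfsg.Agent.OddDown
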