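import Cfsg.Agent.Lib.OddDown.LBalanceComponent

/-!
Standard subgroups of groups with trivial core (S1347), given solvability of groups of odd order.
-/

set_option autoImplicit false
set_option linter.style.haveILetI false
set_option linter.unusedSectionVars false

namespace Cfsg.Agent.OddDown

open Subgroup Cfsg.Agent.Components Cfsg.Agent.PTerm
open Cfsg.Agent.BpBalance (PCIn)
open scoped commutatorElement

universe u

namespace Standard

variable {G : Type u} [Group G] [Finite G]

/-- An element commuting with an involution of `C(A)` normalises `A`. -/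
theorem mem_normalizer_of_comm {A : Subgroup G} (hA : Cfsg.IsStandardSubgroup A) {z g : G}
    (hz : z ∈ centralizer (A : Set G)) (hz2 : orderOf z = 2) (hg : g * z = z * g) :
    g ∈ normalizer (A : Set G) := by
  obtain ⟨-, ⟨-, hodd⟩, -, hNA⟩ := hA
  rw [hNA]
  by_contra hg'
  refine Nat.not_even_iff_odd.2 (hodd g hg') (even_iff_two_dvd.2 ?_)
  have hmem : z ∈ centralizer (A : Set G) ⊓
      (centralizer (A : Set G)).map (MulAut.conj g).toMonoidHom :=
    ⟨hz, z, hz, by show g * z * g⁻¹ = z; rw [hg, mul_inv_cancel_right]⟩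
  rw [← hz2]
  exact Subgroup.orderOf_dvd_natCard _ hmem

/-- A subgroup commuting with a subgroup of even order of `C(A)` normalises `A`. -/
theorem le_normalizer_of_even {A : Subgroup G} (hA : Cfsg.IsStandardSubgroup A) {M J : Subgroup G}
    (hM : M ≤ centralizer (A : Set G)) (heven : ¬ Odd (Nat.card M))
    (hMJ : ∀ m ∈ M, ∀ j ∈ J, m * j = j * m) : J ≤ normalizer (A : Set G) := by
  haveI : Fact (Nat.Prime 2) := ⟨Nat.prime_two⟩
  obtain ⟨z, hz⟩ := exists_prime_orderOf_dvd_card' (G := M) 2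
    (even_iff_two_dvd.1 (Nat.not_odd_iff_even.1 heven))
  exact fun j hj => mem_normalizer_of_comm hA (hM z.2) (by rwa [Subgroup.orderOf_coe])
    (hMJ z z.2 j hj).symm

theorem pLayer_eq_layer (hO : Cfsg.pPrimeCore 2 G = ⊥) : Cfsg.pLayer 2 G = Cfsg.layer G := by
  haveI : Fact (Nat.Prime 2) := ⟨Nat.prime_two⟩
  haveI := FittingCores.pPrimeCore_normal (G := G) 2
  set q := QuotientGroup.mk' (Cfsg.pPrimeCore 2 G) with hq
  have hinj : Function.Injective q := by
    rw [← MonoidHom.ker_eq_bot_iff, QuotientGroup.ker_mk', hO]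
  refine map_injective hinj ?_
  rw [map_pLayer]
  exact (layer_map_equiv
    (MulEquiv.ofBijective q ⟨hinj, QuotientGroup.mk'_surjective _⟩)).symm

theorem simple_of_component {J : Subgroup G} (hJ : Cfsg.IsComponent J)
    (hZ : J ⊓ centralizer (J : Set G) = ⊥) : IsSimpleGroup ↥J ∧ ¬ IsMulCommutative ↥J := by
  refine ⟨?_, quasisimple_not_commutative hJ.2⟩
  have hc : center ↥J = ⊥ := by
    rw [eq_bot_iff]
    intro x hx
    have h1 : (x : G) ∈ (⊥ : Subgroup G) := hZ ▸ ⟨x.2, mem_centralizer_iff.2 fun y hy =>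
      congrArg Subtype.val (mem_center_iff.1 hx ⟨y, hy⟩)⟩
    exact Subtype.ext h1
  haveI := hJ.2.2
  haveI : Nontrivial ↥J := quasisimple_nontrivial hJ.2
  exact IsSimpleGroup.isSimpleGroup_of_surjective
    ((QuotientGroup.quotientMulEquivOfEq hc).trans QuotientGroup.quotientBot).toMonoidHom
    ((QuotientGroup.quotientMulEquivOfEq hc).trans QuotientGroup.quotientBot).surjective

/-- Consequences of `J` not normalising `A`. -/
theorem forced (h : Cfsg.Agent.OddChar.OddSolvable.{u}) {A : Subgroup G}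
    (hA : Cfsg.IsStandardSubgroup A) (hO : Cfsg.pPrimeCore 2 G = ⊥) {J K : Subgroup G}
    (hJ : Cfsg.IsComponent J) (hK : Cfsg.IsComponent K) (hAJK : A ≤ J ⊔ K)
    (hnot : ¬ J ≤ normalizer (A : Set G)) :
    (∀ D, Cfsg.IsComponent D → D = J ∨ D = K) ∧ J ⊓ centralizer (J : Set G) = ⊥ := by
  haveI : Fact (Nat.Prime 2) := ⟨Nat.prime_two⟩
  have key : ∀ {M : Subgroup G}, M ≤ centralizer (J : Set G) → M ≤ centralizer (K : Set G) →
      Odd (Nat.card M) := by
    intro M hMJ hMK
    by_contra hev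
    refine hnot (le_normalizer_of_even hA ?_ hev fun m hm j hj =>
      (mem_centralizer_iff.1 (hMJ hm) j hj).symm)
    intro m hm
    have hle : J ⊔ K ≤ centralizer {m} := sup_le
      (fun j hj => mem_centralizer_singleton_iff.2 (mem_centralizer_iff.1 (hMJ hm) j hj))
      (fun j hj => mem_centralizer_singleton_iff.2 (mem_centralizer_iff.1 (hMK hm) j hj))
    exact mem_centralizer_iff.2 fun x hx => mem_centralizer_singleton_iff.1 (hle (hAJK hx))
  refine ⟨fun D hD => ?_, ?_⟩
  · by_contra hne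
    push Not at hne
    exact quasisimple_not_solvable hD.2 (h ↥D
      (key (commutator_eq_bot_iff_le_centralizer.1 (components_commute hD hJ hne.1))
        (commutator_eq_bot_iff_le_centralizer.1 (components_commute hD hK hne.2))))
  · have hodd : Odd (Nat.card ↥(J ⊓ centralizer (J : Set G))) := by
      refine key inf_le_right ?_
      rcases eq_or_ne J K with rfl | hne
      · exact inf_le_right
      · exact inf_le_left.trans
          (commutator_eq_bot_iff_le_centralizer.1 (components_commute hJ hK hne))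
    have h2 : IsPGroup 2 ↥(J ⊓ centralizer (J : Set G)) :=
      (layerCenter_isPGroup hO).to_le fun x hx => layerCenter_of_component hJ hx.1 hx.2
    obtain ⟨k, hk⟩ := IsPGroup.iff_card.1 h2
    rcases Nat.eq_zero_or_pos k with rfl | hpos
    · rw [pow_zero] at hk
      exact Subgroup.card_eq_one.1 hk
    · exact absurd hodd (Nat.not_odd_iff_even.2 (by
        rw [hk]; exact (Nat.even_pow.2 ⟨even_two, by omega⟩)))

end Standard

open Standard in
/-- S1347. -/
theorem standard_trichotomy (h : Cfsg.Agent.OddChar.OddSolvable.{u}) {G : Type u} [Group G]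
    [Finite G] (A : Subgroup G) (hA : Cfsg.IsStandardSubgroup A) (hO : Cfsg.oddCore G = ⊥) (t : G)
    (ht : orderOf t = 2) (htA : t ∈ Subgroup.centralizer (A : Set G)) :
    A.Normal ∨ (∃ X : Subgroup G, IsSimpleGroup ↥X ∧ ¬ IsMulCommutative ↥X ∧ Nonempty (↥X ≃* ↥A) ∧
      (∀ a ∈ X, ∀ b ∈ X.map (MulAut.conj t).toMonoidHom, a * b = b * a) ∧
      X ⊓ X.map (MulAut.conj t).toMonoidHom = ⊥ ∧
      X ⊔ X.map (MulAut.conj t).toMonoidHom = Cfsg.layer G ∧
      Subgroup.centralizer (A : Set G) = Subgroup.zpowers t) ∨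
    (A ≤ Cfsg.layer G ∧ IsSimpleGroup ↥(Cfsg.layer G) ∧ ¬ IsMulCommutative ↥(Cfsg.layer G)) := by
  classical
  haveI : Fact (Nat.Prime 2) := ⟨Nat.prime_two⟩
  have htp : t ^ 2 = 1 := by rw [← ht, pow_orderOf_eq_one]
  have hqA := hA.1
  -- `A` is a component of `C(t)`
  have hCN : centralizer ({t} : Set G) ≤ normalizer (A : Set G) := fun g hg =>
    mem_normalizer_of_comm hA htA ht (mem_centralizer_singleton_iff.1 hg)
  have hAt : A ≤ centralizer ({t} : Set G) := fun a ha =>
    mem_centralizer_singleton_iff.2 (mem_centralizer_iff.1 htA a ha)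
  have hcompA : Cfsg.IsComponent (A.subgroupOf (centralizer ({t} : Set G))) :=
    ⟨((normal_subgroupOf_iff_le_normalizer hAt).2 hCN).isSubnormal,
      (quasisimple_congr (subgroupOfEquivOfLe hAt)).2 hqA⟩
  have hP := pcin_of_component h hAt hcompA
  have hcz : centralizer ((zpowers t : Subgroup G) : Set G) = centralizer ({t} : Set G) := by
    rw [zpowers_eq_closure, centralizer_closure]
  have hAE : A ≤ Cfsg.layer G := by
    rw [← pLayer_eq_layer hO]
    have hp2 : IsPGroup 2 (zpowers t) :=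
      IsPGroup.of_card (n := 1) (by rw [Nat.card_zpowers, ht, pow_one])
    refine le_trans ?_ (LBalance.pLayer_centralizer_le_two hp2)
    rw [hcz, ← map_subgroupOf_eq_of_le hAt]
    exact map_mono (le_sSup hP.toComp)
  have hAab := hP.not_abelian
  -- if `A` is a component of `G` it is normal
  by_cases hAc : Cfsg.IsComponent A
  · refine Or.inl ⟨fun a ha g => ?_⟩
    by_cases heq : A.map (MulAut.conj g).toMonoidHom = A
    · exact heq.le ⟨a, ha, rfl⟩
    · exact absurd (components_commute hAc (component_conj hAc g) (Ne.symm heq)) (hA.2.2.1 g heq)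
  refine Or.inr ?_
  obtain ⟨J, hJ, hne⟩ : ∃ J, Cfsg.IsComponent J ∧ ⁅A, J⁆ ≠ ⊥ := by
    by_contra hno
    push Not at hno
    exact hAab (hAE.trans (layer_le_iff.2 fun J hJ => commutator_eq_bot_iff_le_centralizer.1
      (by rw [commutator_comm]; exact hno J hJ)))
  rcases fixed_or_orbit htp hP hAE hJ hne with ⟨htN, hAJ⟩ | ⟨htN, hpsi⟩
  · have hnot : ¬ J ≤ normalizer (A : Set G) := fun hle => by
      rcases component_normal_cases hJ hAJ hle with e | e
      · exact hAc (e ▸ hJ)
      · exact hAab (e.trans (centralizer_le hAJ))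
    obtain ⟨honly, hZ⟩ := forced h hA hO hJ hJ (hAJ.trans le_sup_left) hnot
    have hlay : Cfsg.layer G = J := le_antisymm
      (layer_le_iff.2 fun D hD => ((honly D hD).elim id id).le) (component_le_layer hJ)
    obtain ⟨hs, hn⟩ := simple_of_component hJ hZ
    refine Or.inr ⟨hAE, ?_, ?_⟩
    · rwa [hlay]
    · rwa [hlay]
  refine Or.inl ⟨J, ?_⟩
  set J' := J.map (MulAut.conj t).toMonoidHom with hJ'
  have hJ'c : Cfsg.IsComponent J' := component_conj hJ t
  have hJJ' : J ≠ J' := fun e => htN (mem_normalizer_fintype fun y hy => e.ge ⟨y, hy, rfl⟩)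
  have hpsi_eq : ∀ x, psi 2 t x = x * (t * x * t⁻¹) := fun x => by
    have hti : t⁻¹ = t := inv_eq_of_mul_eq_one_right (by rw [← pow_two, htp])
    rw [hti, psi, pow_two]
    simp only [mul_assoc]
  have hcommJ : ∀ a ∈ J, ∀ b ∈ J', a * b = b * a := fun a ha b hb =>
    (mem_centralizer_iff.1 (commutator_eq_bot_iff_le_centralizer.1
      (components_commute hJ hJ'c hJJ') ha) b hb).symm
  let f : ↥J →* G :=
    { toFun := fun a => psi 2 t a
      map_one' := by simp [psi, htp]
      map_mul' := fun a b => psi_mul htp hJ htN a.2 b.2 }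
  have hAR : A ≤ f.range := fun e he => by
    obtain ⟨a, ha, rfl⟩ := hpsi e he
    exact ⟨⟨a, ha⟩, rfl⟩
  have hRC : f.range ≤ centralizer ({t} : Set G) := by
    rintro _ ⟨a, rfl⟩
    exact mem_centralizer_singleton_iff.2 (psi_comm htp hJ htN a.2)
  have hfne : f.range ≠ ⊥ := fun e => hP.ne_bot (le_bot_iff.1 (e ▸ hAR))
  haveI : Nontrivial f.range := (nontrivial_iff_ne_bot _).2 hfne
  have hAeq : A = f.range := eq_of_subnormal
    (quasisimple_of_surjective hJ.2 f.rangeRestrict f.rangeRestrict_surjective) hAR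
    (hP.sub.comap (inclusion hRC)) hAab
  have hAJJ : A ≤ J ⊔ J' := by
    rw [hAeq]
    rintro _ ⟨a, rfl⟩
    show psi 2 t a ∈ J ⊔ J'
    rw [hpsi_eq]
    exact mul_mem (mem_sup_left a.2) (mem_sup_right ⟨a, a.2, rfl⟩)
  have hnot : ¬ J ≤ normalizer (A : Set G) := fun hle => by
    have hJA : J ≤ A := by
      conv_lhs => rw [← component_commutator_eq hJ]
      rw [commutator_le]
      intro b hb x hx
      have hψ : psi 2 t b ∈ A := hAeq ▸ ⟨⟨b, hb⟩, rfl⟩
      set b' := t * b * t⁻¹ with hb'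
      have hb'x : b' * x = x * b' := (hcommJ x hx b' ⟨b, hb, rfl⟩).symm
      have e : ⁅b, x⁆ = psi 2 t b * (x * (psi 2 t b)⁻¹ * x⁻¹) := by
        rw [hpsi_eq, commutatorElement_def, ← hb']
        calc b * x * b⁻¹ * x⁻¹ = b * (x * b') * b'⁻¹ * b⁻¹ * x⁻¹ := by group
          _ = b * (b' * x) * b'⁻¹ * b⁻¹ * x⁻¹ := by rw [hb'x]
          _ = _ := by group
      rw [e]
      exact mul_mem hψ ((mem_normalizer_iff.1 (hle hx) _).1 (A.inv_mem hψ))
    exact hJJ' (le_antisymm
      (fun x hx => ⟨x, hx, by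
        show t * x * t⁻¹ = x
        rw [← mem_centralizer_iff.1 htA x (hJA hx), mul_inv_cancel_right]⟩)
      (fun y hy => by
        obtain ⟨x, hx, rfl⟩ := hy
        show t * x * t⁻¹ ∈ J
        rw [← mem_centralizer_iff.1 htA x (hJA hx), mul_inv_cancel_right]
        exact hx))
  obtain ⟨honly, hZ⟩ := forced h hA hO hJ hJ'c hAJJ hnot
  have hint : J ⊓ J' = ⊥ := eq_bot_iff.2 (le_trans (le_inf inf_le_left (inf_le_right.trans
    (fun b hb => mem_centralizer_iff.2 fun a ha => hcommJ a ha b hb))) hZ.le)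
  have hlay : J ⊔ J' = Cfsg.layer G := le_antisymm
    (sup_le (component_le_layer hJ) (component_le_layer hJ'c))
    (layer_le_iff.2 fun D hD => (honly D hD).elim (fun e => e ▸ le_sup_left) (fun e => e ▸ le_sup_right))
  obtain ⟨hs, hn⟩ := simple_of_component hJ hZ
  have hinj : Function.Injective f := by
    rw [← MonoidHom.ker_eq_bot_iff]
    refine (Subgroup.Normal.eq_bot_or_eq_top (inferInstance : f.ker.Normal)).resolve_right fun e => ?_
    exact hfne ((MonoidHom.range_eq_bot_iff).2 (MonoidHom.ker_eq_top_iff.1 e))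
  refine ⟨hs, hn, ⟨(MonoidHom.ofInjective hinj).trans (MulEquiv.subgroupCongr hAeq.symm)⟩,
    hcommJ, hint, hlay, ?_⟩
  refine le_antisymm (fun k hk => ?_) (zpowers_le.2 htA)
  -- elements of `C(A)` fixing `J` are trivial
  have hfix : ∀ c ∈ centralizer (A : Set G), J.map (MulAut.conj c).toMonoidHom = J → c = 1 := by
    intro c hc hcJ
    have hcJ' : J'.map (MulAut.conj c).toMonoidHom = J' := by
      refine (honly _ (component_conj hJ'c c)).resolve_left fun e => hJJ' ?_
      exact map_injective (MulAut.conj c).injective (hcJ.trans e.symm)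
    have hcent : ∀ x ∈ J, c * x * c⁻¹ = x ∧ c * (t * x * t⁻¹) * c⁻¹ = t * x * t⁻¹ := by
      intro x hx
      have hψ : psi 2 t x ∈ A := hAeq ▸ ⟨⟨x, hx⟩, rfl⟩
      have h1 := (mem_centralizer_iff.1 hc _ hψ).symm
      rw [hpsi_eq] at h1
      set x₁ := c * x * c⁻¹ with hx₁
      set y₁ := c * (t * x * t⁻¹) * c⁻¹ with hy₁
      have h2 : x₁ * y₁ = x * (t * x * t⁻¹) := by
        rw [hx₁, hy₁]
        calc c * x * c⁻¹ * (c * (t * x * t⁻¹) * c⁻¹) = c * (x * (t * x * t⁻¹)) * c⁻¹ := by group
          _ = _ := by rw [h1, mul_inv_cancel_right]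
      have hxm : x₁ ∈ J := hcJ.le ⟨x, hx, rfl⟩
      have hym : y₁ ∈ J' := hcJ'.le ⟨_, ⟨x, hx, rfl⟩, rfl⟩
      have h3 : x⁻¹ * x₁ = t * x * t⁻¹ * y₁⁻¹ := by
        rw [eq_mul_inv_iff_mul_eq, mul_assoc, h2, inv_mul_cancel_left]
      have h4 : x⁻¹ * x₁ ∈ J ⊓ J' := ⟨J.mul_mem (J.inv_mem hx) hxm,
        h3 ▸ J'.mul_mem ⟨x, hx, rfl⟩ (J'.inv_mem hym)⟩
      rw [hint, mem_bot, inv_mul_eq_one] at h4
      exact ⟨h4.symm, by rw [← h4] at h2; exact mul_left_cancel h2⟩
    set C := centralizer (Cfsg.layer G : Set G) with hC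
    have hcC : c ∈ C := by
      have hle : Cfsg.layer G ≤ centralizer {c} := by
        rw [← hlay]
        refine sup_le (fun x hx => ?_) (fun y hy => ?_)
        · exact mem_centralizer_singleton_iff.2 (mul_inv_eq_iff_eq_mul.1 (hcent x hx).1).symm
        · obtain ⟨x, hx, rfl⟩ := hy
          exact mem_centralizer_singleton_iff.2 (mul_inv_eq_iff_eq_mul.1 (hcent x hx).2).symm
      exact mem_centralizer_iff.2 fun y hy => mem_centralizer_singleton_iff.1 (hle hy)
    have hodd : Odd (Nat.card C) := by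
      by_contra hev
      exact hnot (le_normalizer_of_even hA (centralizer_le hAE) hev fun m hm j hj =>
        (mem_centralizer_iff.1 hm j (component_le_layer hJ hj)).symm)
    haveI := layer_normal (G := G)
    have hCbot : C ≤ Cfsg.pPrimeCore 2 G :=
      FittingCores.le_pPrimeCore inferInstance (Nat.coprime_two_right.2 hodd)
    exact mem_bot.1 (hO ▸ hCbot hcC)
  rcases honly _ (component_conj hJ k) with e | e
  · rw [hfix k hk e]
    exact one_mem _
  · have h1 : t * k = 1 := by
      refine hfix _ (mul_mem htA hk) ?_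
      rw [show (MulAut.conj (t * k)).toMonoidHom =
        (MulAut.conj t).toMonoidHom.comp (MulAut.conj k).toMonoidHom from
          MonoidHom.ext fun x => by simp [mul_assoc], ← Subgroup.map_map, e, hJ', Subgroup.map_map]
      rw [show (MulAut.conj t).toMonoidHom.comp (MulAut.conj t).toMonoidHom = MonoidHom.id G from
        MonoidHom.ext fun x => by
          show t * (t * x * t⁻¹) * t⁻¹ = x
          calc t * (t * x * t⁻¹) * t⁻¹ = t ^ 2 * x * (t ^ 2)⁻¹ := by rw [pow_two]; group
            _ = x := by rw [htp]; simp, Subgroup.map_id]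
    rw [eq_inv_of_mul_eq_one_right h1]
    exact inv_mem (mem_zpowers t)

end Cfsg.Agent.OddDown
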