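import Cfsg.Prelude.Def_Perm
import Cfsg.Agent.S0735
import Cfsg.Agent.S3360
import Cfsg.Agent.Lib.Solvable.Basic
import Cfsg.Agent.Lib.OddChar.Iface
import Mathlib.FieldTheory.Finite.GaloisField
import Mathlib.GroupTheory.GroupAction.MultipleTransitivity

/-!
# 2-homogeneous groups which are not 2-transitive (Kantor)

Modulo solvability of groups of odd order: such a group has odd order, hence is solvable and affine; the
stabiliser of a point together with `-1` is a solvable group transitive on non-zero vectors, hence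
semilinear by Huppert's theorem, the exceptional degrees being congruent to 1 modulo 4.
-/

set_option autoImplicit false
set_option linter.style.haveILetI false

namespace Cfsg.Agent.TwoHomog

open MulAction Subgroup
open scoped Pointwise

universe u

/-- An abelian transitive group of permutations is regular. -/
theorem free_of_abelian {α : Type u} {G : Subgroup (Equiv.Perm α)} {N : Subgroup G} [IsMulCommutative N]
    [IsPretransitive N α] {n : G} (hn : n ∈ N) {a : α} (ha : n • a = a) : n = 1 := by
  refine Subtype.ext (Equiv.ext fun x => ?_)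
  obtain ⟨m, hm⟩ := exists_smul_eq N a x
  have hc : ((⟨n, hn⟩ : N) * m : N) = m * ⟨n, hn⟩ := mul_comm' _ _
  have : n • x = x := by
    rw [← hm]
    show n • ((m : G) • a) = (m : G) • a
    rw [smul_smul, show n * (m : G) = (m : G) * n from congrArg Subtype.val hc, mul_smul, ha]
  exact this

/-- A non-trivial 2-homogeneous group of a set with two points is 2-transitive, so there are at least three. -/
theorem three_le_card {α : Type u} [Fintype α] [DecidableEq α] {G : Subgroup (Equiv.Perm α)} (hne : G ≠ ⊥)
    (hn2 : ¬ IsMultiplyPretransitive G α 2) : 3 ≤ Fintype.card α := by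
  by_contra hlt
  obtain ⟨g, hg, hg1⟩ := G.bot_or_exists_ne_one.resolve_left hne
  obtain ⟨x, hx⟩ : ∃ x, g x ≠ x := by
    by_contra h
    push Not at h
    exact hg1 (Equiv.ext h)
  refine hn2 ((is_two_pretransitive_iff).2 fun {a b c d} hab hcd => ?_)
  have hall : ∀ y, y = x ∨ y = g x := by
    intro y
    by_contra hy
    rw [not_or] at hy
    have : ({y, x, g x} : Finset α).card = 3 :=
      Finset.card_eq_three.2 ⟨y, x, g x, hy.1, hy.2, (Ne.symm hx), rfl⟩
    have := Finset.card_le_univ ({y, x, g x} : Finset α)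
    omega
  have hgg : g (g x) = x := (hall (g (g x))).resolve_right fun h => hx (g.injective h)
  have key : ∀ y z : α, y ≠ z → (y = a ∧ z = b) ∨ (y = b ∧ z = a) := by
    intro y z hyz
    rcases hall y with rfl | rfl <;> rcases hall z with rfl | rfl <;> rcases hall a with rfl | rfl <;>
      rcases hall b with rfl | rfl <;> simp_all
  rcases key c d hcd with ⟨hc, hd⟩ | ⟨hc, hd⟩
  · subst hc hd
    exact ⟨1, one_smul _ _, one_smul _ _⟩
  · subst hc hd
    refine ⟨⟨g, hg⟩, ?_⟩
    show g d = c ∧ g c = d
    rcases hall d with rfl | rfl <;> rcases hall c with rfl | rfl <;> simp_all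

/-- The statement of S0737, from the odd order theorem. -/
theorem semiaffine_of_oddSolvable (hodd : OddChar.OddSolvable.{u}) {α : Type u} [Fintype α] [DecidableEq α]
    (G : Subgroup (Equiv.Perm α)) (hne : G ≠ ⊥) (h2 : MulAction.IsPretransitive G (Set.powersetCard α 2))
    (hn2 : ¬ MulAction.IsMultiplyPretransitive G α 2) :
    Odd (Nat.card G) ∧ ∃ (p f : ℕ) (_ : Fact p.Prime), p ≠ 2 ∧ Fintype.card α = p ^ f ∧ p ^ f % 4 = 3 ∧
      ∃ e : α ≃ GaloisField p f,
        (∀ g : G, e.symm.trans (((g : Equiv.Perm α)).trans e) ∈ Cfsg.semiaffineGroup (GaloisField p f)) ∧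
        ∀ b : GaloisField p f, ∃ g : G, ∀ x : α, e ((g : Equiv.Perm α) x) = e x + b := by
  classical
  have h3 := three_le_card hne hn2
  obtain ⟨heven, hprim⟩ := S0735.result G h2 h3
  have hGodd : Odd (Nat.card G) := Nat.not_even_iff_odd.1 fun h => hn2 (heven h)
  refine ⟨hGodd, ?_⟩
  haveI := hprim hne
  haveI hsolG : Group.IsSolvable G := hodd G hGodd
  haveI : Group.IsSolvable (⊤ : Subgroup G) := inferInstance
  haveI : Nontrivial G := (Subgroup.nontrivial_iff_ne_bot G).2 hne
  obtain ⟨N, p, hp, hNn, hNb, -, hNc, hNexp, hNp, -⟩ :=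
    SolvBasic.exists_minimal_normal_abelian (inferInstance : (⊤ : Subgroup G).Normal) (top_ne_bot)
  haveI := Fact.mk hp
  haveI := hNn
  haveI := hNc
  haveI hNT : IsPretransitive N α := by
    refine IsQuasiPreprimitive.isPretransitive_of_normal (G := G) fun hfix => hNb ?_
    rw [eq_bot_iff]
    intro n hn
    refine Subgroup.mem_bot.2 (Subtype.ext (Equiv.ext fun x => ?_))
    have hx : x ∈ fixedPoints N α := hfix ▸ Set.mem_univ x
    exact hx ⟨n, hn⟩
  haveI : Nonempty α := Fintype.card_pos_iff.1 (by omega)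
  obtain ⟨a⟩ := (inferInstance : Nonempty α)
  have hbij : Function.Bijective fun n : N => (n : G) • a := by
    refine ⟨fun n m h => ?_, fun x => exists_smul_eq N a x⟩
    have h1 : ((n⁻¹ * m : N) : G) • a = a := by
      rw [Subgroup.coe_mul, Subgroup.coe_inv, mul_smul]
      exact inv_smul_eq_iff.2 h.symm
    exact inv_mul_eq_one.1 (Subtype.ext (free_of_abelian (n⁻¹ * m).2 h1))
  let eN : N ≃ α := Equiv.ofBijective _ hbij
  have heN : ∀ n : N, eN n = (n : G) • a := fun _ => rfl
  obtain ⟨f, hf⟩ := IsPGroup.iff_card.1 hNp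
  have hcard : Fintype.card α = p ^ f := by rw [← hf, Nat.card_congr eN, Nat.card_eq_fintype_card]
  -- the number of unordered pairs is odd
  have hcount : (Fintype.card α).choose 2 ∣ Nat.card G := by
    haveI := h2
    obtain ⟨b, hb⟩ := Fintype.exists_ne_of_one_lt_card (show 1 < Fintype.card α by omega) a
    have h := (stabilizer G (⟨{a, b}, Finset.card_pair hb.symm⟩ : Set.powersetCard α 2)).index_dvd_card
    rwa [index_stabilizer_of_transitive, Set.powersetCard.card, Nat.card_eq_fintype_card] at h
  have hn4 : Fintype.card α % 4 = 2 ∨ Fintype.card α % 4 = 3 := by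
    have ho : Odd ((Fintype.card α).choose 2) := hGodd.of_dvd_nat hcount
    rw [Nat.choose_two_right] at ho
    obtain ⟨k, hk⟩ := ho
    have h24 : 2 * ((Fintype.card α * (Fintype.card α - 1)) / 2) = Fintype.card α * (Fintype.card α - 1) :=
      Nat.mul_div_cancel' (even_iff_two_dvd.1 (Nat.even_mul_pred_self _))
    have h4 : (Fintype.card α * (Fintype.card α - 1)) % 4 = 2 := by omega
    have hlt := Nat.mod_lt (Fintype.card α) (show 0 < 4 by norm_num)
    by_contra hc
    rw [not_or] at hc
    obtain ⟨q, hq⟩ : ∃ q, Fintype.card α = 4 * q ∨ Fintype.card α = 4 * q + 1 :=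
      ⟨Fintype.card α / 4, by omega⟩
    rcases hq with hq | hq
    · rw [hq, mul_assoc, Nat.mul_mod_right] at h4; omega
    · rw [hq, Nat.add_sub_cancel, mul_comm, mul_assoc, Nat.mul_mod_right] at h4; omega
  have hp2 : p ≠ 2 := by
    rintro rfl
    rw [hcard] at h3 hn4
    rcases f with _ | _ | f
    · simp at h3
    · simp at h3
    · rw [show 2 ^ (f + 1 + 1) = 4 * 2 ^ f by ring, Nat.mul_mod_right] at hn4
      omega
  have hmod : p ^ f % 4 = 3 := by
    have ho : Odd (p ^ f) := (hp.odd_of_ne_two hp2).pow
    rw [hcard] at hn4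
    rw [Nat.odd_iff] at ho
    omega
  refine ⟨p, f, ⟨hp⟩, hp2, hcard, hmod, ?_⟩
  -- the vector space
  let V := Additive N
  letI : CommGroup N := { (inferInstance : Group N) with mul_comm := mul_comm' }
  letI : Module (ZMod p) V := by
    exact AddCommGroup.zmodModule (n := p) fun v => by
      show Additive.ofMul ((Additive.toMul v) ^ p) = Additive.ofMul 1
      exact congrArg Additive.ofMul (Subtype.ext (by simpa using hNexp _ (Additive.toMul v).2))
  have hVcard : Nat.card V = p ^ f := hf
  haveI : Nontrivial V := Finite.one_lt_card_iff_nontrivial.1 (by rw [hVcard, ← hcard]; omega)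
  let L : Subgroup G := stabilizer G a
  let cj : L →* (V ≃ₗ[ZMod p] V) :=
    { toFun := fun l =>
        { toFun := fun v => Additive.ofMul (MulAut.conjNormal (H := N) (l : G) (Additive.toMul v))
          invFun := fun v => Additive.ofMul ((MulAut.conjNormal (H := N) (l : G)).symm (Additive.toMul v))
          left_inv := fun v => congrArg Additive.ofMul
            ((MulAut.conjNormal (H := N) (l : G)).symm_apply_apply (Additive.toMul v))
          right_inv := fun v => congrArg Additive.ofMul
            ((MulAut.conjNormal (H := N) (l : G)).apply_symm_apply (Additive.toMul v))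
          map_add' := fun v w => congrArg Additive.ofMul
            (map_mul (MulAut.conjNormal (H := N) (l : G)) (Additive.toMul v) (Additive.toMul w))
          map_smul' := fun c v => ZMod.map_smul
            (AddMonoidHom.mk' (fun v : V => Additive.ofMul (MulAut.conjNormal (H := N) (l : G) (Additive.toMul v)))
              fun v w => congrArg Additive.ofMul
                (map_mul (MulAut.conjNormal (H := N) (l : G)) (Additive.toMul v) (Additive.toMul w))) c v }
      map_one' := LinearEquiv.ext fun v => by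
        show Additive.ofMul (MulAut.conjNormal (H := N) ((1 : L) : G) (Additive.toMul v)) = v
        rw [Subgroup.coe_one, map_one]; rfl
      map_mul' := fun x y => LinearEquiv.ext fun v => by
        show Additive.ofMul (MulAut.conjNormal (H := N) ((x * y : L) : G) (Additive.toMul v)) = _
        rw [Subgroup.coe_mul, map_mul]; rfl }
  have hcj : ∀ (l : L) (v : V), cj l v = Additive.ofMul (MulAut.conjNormal (H := N) (l : G) (Additive.toMul v)) :=
    fun _ _ => rfl
  have hact : ∀ (l : L) (n : N), (l : G) • eN n = eN (MulAut.conjNormal (H := N) (l : G) n) := by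
    intro l n
    rw [heN, heN, MulAut.conjNormal_apply, mul_smul, mul_smul,
      show ((l : G)⁻¹) • a = a from (L.inv_mem l.2 : (l : G)⁻¹ ∈ stabilizer G a)]
  let neg : Multiplicative (ZMod 2) →* (V ≃ₗ[ZMod p] V) :=
    { toFun := fun c => if c = 1 then 1 else LinearEquiv.neg (ZMod p)
      map_one' := if_pos rfl
      map_mul' := by
        intro c d
        have hz : ∀ c : Multiplicative (ZMod 2), c = 1 ∨ c = Multiplicative.ofAdd 1 := by decide
        have hne' : Multiplicative.ofAdd (1 : ZMod 2) ≠ 1 := by decide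
        have hsq : Multiplicative.ofAdd (1 : ZMod 2) * Multiplicative.ofAdd (1 : ZMod 2) = 1 := by decide
        rcases hz c with rfl | rfl <;> rcases hz d with rfl | rfl
        · simp
        · simp [hne']
        · simp [hne']
        · rw [if_pos hsq, if_neg hne']
          exact LinearEquiv.ext fun v => (neg_neg v).symm }
  have hcomm : ∀ (l : L) (c : Multiplicative (ZMod 2)), Commute (cj l) (neg c) := by
    intro l c
    refine LinearEquiv.ext fun v => ?_
    show cj l (neg c v) = neg c (cj l v)
    by_cases hc : c = 1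
    · subst hc; rw [map_one]; rfl
    · have hn : ∀ w, neg c w = -w := fun w => by
        show (if c = 1 then (1 : V ≃ₗ[ZMod p] V) else LinearEquiv.neg (ZMod p)) w = -w
        rw [if_neg hc]; rfl
      rw [hn, hn, map_neg]
  let ρ : L × Multiplicative (ZMod 2) →* (V ≃ₗ[ZMod p] V) := cj.noncommCoprod neg hcomm
  haveI : Group.IsSolvable L := inferInstance
  haveI : Finite (V ≃ₗ[ZMod p] V) := Finite.of_injective (fun f => (f : V → V)) DFunLike.coe_injective
  haveI : Group.IsSolvable ρ.range := Group.isSolvable_of_surjective (f := ρ.rangeRestrict) ρ.rangeRestrict_surjective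
  have hNa : ∀ v : V, eN (Additive.toMul v) = a → v = 0 := by
    intro v hv
    have : eN (Additive.toMul v) = eN 1 := by rw [hv, heN, Subgroup.coe_one, one_smul]
    exact congrArg Additive.ofMul (eN.injective this)
  have htrans : ∀ v w : V, v ≠ 0 → w ≠ 0 → ∃ g : ρ.range, ρ.range.subtype g v = w := by
    intro v w hv hw
    let x := eN (Additive.toMul v)
    let y := eN (Additive.toMul w)
    have hxa : x ≠ a := fun h => hv (hNa v h)
    have hya : y ≠ a := fun h => hw (hNa w h)
    obtain ⟨g, hg⟩ := h2.exists_smul_eq ⟨{a, x}, Finset.card_pair hxa.symm⟩ ⟨{a, y}, Finset.card_pair hya.symm⟩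
    have hg' : g • ({a, x} : Finset α) = {a, y} :=
      (Set.powersetCard.coe_smul (g := g) (s := ⟨{a, x}, Finset.card_pair hxa.symm⟩)).symm.trans
        (congrArg (fun s : Set.powersetCard α 2 => (s : Finset α)) hg)
    have h1 : g • a ∈ ({a, y} : Finset α) := hg' ▸ Finset.smul_mem_smul_finset (by simp)
    have h2' : g • x ∈ ({a, y} : Finset α) := hg' ▸ Finset.smul_mem_smul_finset (by simp)
    simp only [Finset.mem_insert, Finset.mem_singleton] at h1 h2'
    have hne' : g • a ≠ g • x := fun e => hxa (smul_left_cancel g e).symm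
    rcases h1 with h1 | h1
    · have h2'' : g • x = y := h2'.resolve_left fun h => hne' (h1.trans h.symm)
      refine ⟨⟨ρ (⟨g, h1⟩, 1), ⟨_, rfl⟩⟩, ?_⟩
      show (cj ⟨g, h1⟩ * neg 1) v = w
      rw [map_one, mul_one, hcj]
      exact congrArg Additive.ofMul (eN.injective ((hact ⟨g, h1⟩ _).symm.trans h2''))
    · have h2'' : g • x = a := h2'.resolve_right fun h => hne' (h1.trans h.symm)
      -- translate back
      let m : N := Additive.toMul w
      have hl : ((m : G))⁻¹ * g ∈ L := by
        show ((m : G)⁻¹ * g) • a = a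
        rw [mul_smul, h1]
        exact inv_smul_eq_iff.2 rfl
      refine ⟨⟨ρ (⟨_, hl⟩, Multiplicative.ofAdd 1), ⟨_, rfl⟩⟩, ?_⟩
      show cj ⟨_, hl⟩ ((if Multiplicative.ofAdd (1 : ZMod 2) = 1 then (1 : V ≃ₗ[ZMod p] V)
        else LinearEquiv.neg (ZMod p)) v) = w
      rw [if_neg (by decide), show (LinearEquiv.neg (ZMod p) : V ≃ₗ[ZMod p] V) v = -v from rfl, map_neg, hcj]
      refine neg_eq_iff_eq_neg.2 (congrArg Additive.ofMul (eN.injective ?_))
      rw [← hact ⟨_, hl⟩]
      show ((m : G)⁻¹ * g) • x = eN m⁻¹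
      rw [mul_smul, h2'', heN, Subgroup.coe_inv]
  rcases S3360.result p (G := ρ.range) inferInstance ρ.range.subtype Subtype.val_injective htrans with
    ⟨F, iF, iFt, e₀, he₀⟩ | hexc
  swap
  · exfalso
    rw [hVcard] at hexc
    simp only [Set.mem_insert_iff, Set.mem_singleton_iff] at hexc
    omega
  letI := iF
  letI := iFt
  have hf0 : f ≠ 0 := by rintro rfl; rw [hcard] at h3; simp at h3
  letI : Fintype (GaloisField p f) := Fintype.ofFinite _
  have hFc : Fintype.card F = Fintype.card (GaloisField p f) := by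
    rw [← Nat.card_eq_fintype_card, ← Nat.card_eq_fintype_card, GaloisField.card p f hf0,
      ← Nat.card_congr e₀.toEquiv, hVcard]
  let r := FiniteField.ringEquivOfCardEq hFc
  let e₁ : V ≃+ GaloisField p f := e₀.trans r.toAddEquiv
  let e : α ≃ GaloisField p f := (eN.symm.trans Additive.ofMul).trans e₁.toEquiv
  have he : ∀ n : N, e (eN n) = e₁ (Additive.ofMul n) := fun n => by
    show e₁ (Additive.ofMul (eN.symm (eN n))) = _
    rw [Equiv.symm_apply_apply]
  refine ⟨e, fun g => ?_, fun b => ?_⟩
  swap
  · refine ⟨((Additive.toMul (e₁.symm b) : N) : G), fun x => ?_⟩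
    obtain ⟨n, rfl⟩ := eN.surjective x
    show e (((Additive.toMul (e₁.symm b) : N) : G) • eN n) = _
    rw [heN n, smul_smul, ← Subgroup.coe_mul, ← heN, he, ← heN n, he, ofMul_mul, map_add, add_comm]
    exact congrArg (e₁ (Additive.ofMul n) + ·) (e₁.apply_symm_apply b)
  · let n₀ : N := eN.symm (g • a)
    have hl : ((n₀ : G))⁻¹ * g ∈ L := by
      show ((n₀ : G)⁻¹ * g) • a = a
      rw [mul_smul]
      refine inv_smul_eq_iff.2 ?_
      rw [← heN]
      exact (eN.apply_symm_apply _).symm
    obtain ⟨c, σ, hσ⟩ := he₀ ⟨ρ (⟨_, hl⟩, 1), ⟨_, rfl⟩⟩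
    have hσ' : ∀ v, e₀ (cj ⟨_, hl⟩ v) = c * σ (e₀ v) := fun v => by
      have h1 : ρ (⟨_, hl⟩, 1) = cj ⟨_, hl⟩ := by
        show cj ⟨_, hl⟩ * neg 1 = cj ⟨_, hl⟩
        rw [map_one, mul_one]
      exact (congrArg (fun F : V ≃ₗ[ZMod p] V => e₀ (F v)) h1).symm.trans (hσ v)
    have hc0 : c ≠ 0 := by
      intro h
      obtain ⟨v, hv⟩ := exists_ne (0 : V)
      have := hσ' v
      rw [h, zero_mul, AddEquiv.map_eq_zero_iff, LinearEquiv.map_eq_zero_iff] at this
      exact hv this
    refine ⟨Units.mk0 (r c) (by simpa using hc0), e₁ (Additive.ofMul n₀), r.symm.trans (σ.trans r), fun z => ?_⟩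
    obtain ⟨x, rfl⟩ := e.surjective z
    obtain ⟨n, rfl⟩ := eN.surjective x
    show e ((g : Equiv.Perm α) (e.symm (e (eN n)))) = _
    rw [e.symm_apply_apply]
    show e (g • eN n) = _
    have hg : g • eN n = eN (n₀ * MulAut.conjNormal (H := N) ((n₀ : G)⁻¹ * g) n) := by
      rw [heN (n₀ * _), Subgroup.coe_mul, mul_smul, ← heN (MulAut.conjNormal _ n), ← hact ⟨_, hl⟩ n, smul_smul,
        mul_inv_cancel_left]
    rw [hg, he, ofMul_mul, map_add, he, Units.val_mk0, add_comm]
    refine congrArg (· + e₁ (Additive.ofMul n₀)) ?_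
    show r (e₀ (cj ⟨_, hl⟩ (Additive.ofMul n))) = r c * r (σ (r.symm (r (e₀ (Additive.ofMul n)))))
    rw [RingEquiv.symm_apply_apply, ← map_mul, hσ']

end Cfsg.Agent.TwoHomog
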